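import Cfsg.Agent.H77.GW.Inverted
import Cfsg.Agent.Components.BenderUnique
import Cfsg.Agent.Thompson.StrongFusion

/-!
# Exchange between two members (GW programme, case (N), `|pi(F)| >= 2`)

`M`, `N` are maximal subgroups over `C(t)`, `C(u)`; see `notes/helper77_gw_s4.md`, section 1.
-/

set_option autoImplicit false
set_option linter.style.haveILetI false
set_option linter.unusedSectionVars false

namespace Cfsg.Agent.H77.GW

open Subgroup
open Cfsg.Agent.Components (pCoreIn isPGroup_pCoreIn le_normalizer_map_subtype)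
open scoped commutatorElement

variable {G : Type*} [Group G] [Finite G]

theorem le_normalizer_pCoreIn {p : ℕ} (M : Subgroup G) :
    M ≤ normalizer (pCoreIn p M : Set G) := le_normalizer_map_subtype _

theorem pCoreIn_le_self {p : ℕ} (M : Subgroup G) : pCoreIn p M ≤ M := map_subtype_le _

theorem coprime_pCoreIn {p r : ℕ} [Fact p.Prime] [Fact r.Prime] (hpr : p ≠ r) (M N : Subgroup G) :
    (Nat.card (pCoreIn p M)).Coprime (Nat.card (pCoreIn r N)) := by
  obtain ⟨a, ha⟩ := IsPGroup.iff_card.mp (isPGroup_pCoreIn (p := p) M)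
  obtain ⟨b, hb⟩ := IsPGroup.iff_card.mp (isPGroup_pCoreIn (p := r) N)
  rw [ha, hb]
  exact ((Nat.coprime_primes Fact.out Fact.out).mpr hpr).pow _ _

/-- Elements of `O_p(M) ∩ N` commute with elements of `O_r(N) ∩ M`. -/
theorem commute_cross {p r : ℕ} [Fact p.Prime] [Fact r.Prime] (hpr : p ≠ r) {M N : Subgroup G}
    {x v : G} (hx : x ∈ pCoreIn p M) (hxN : x ∈ N) (hv : v ∈ pCoreIn r N) (hvM : v ∈ M) :
    Commute x v := by
  have h1 : x * v * x⁻¹ * v⁻¹ ∈ pCoreIn r N :=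
    mul_mem (Coprime.conj_mem (le_normalizer_pCoreIn N hxN) hv) (inv_mem hv)
  have h2 : x * v * x⁻¹ * v⁻¹ ∈ pCoreIn p M := by
    rw [show x * v * x⁻¹ * v⁻¹ = x * (v * x⁻¹ * v⁻¹) by simp [mul_assoc]]
    exact mul_mem hx (Coprime.conj_mem (le_normalizer_pCoreIn M hvM) (inv_mem hx))
  have h3 : x * v * x⁻¹ * v⁻¹ ∈ (⊥ : Subgroup G) := by
    rw [← Coprime.inf_eq_bot (coprime_pCoreIn hpr M N)]
    exact ⟨h2, h1⟩
  rw [Subgroup.mem_bot, mul_inv_eq_one, mul_inv_eq_iff_eq_mul] at h3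
  exact h3

/-- **Exchange lemma.** An element of `O_p(M) ∩ N` inverted by `t` centralizes `O_r(N)`. -/
theorem exchange {p r : ℕ} [Fact p.Prime] [Fact r.Prime] (hpr : p ≠ r) (hp : p ≠ 2) (hr : r ≠ 2)
    {M N : Subgroup G} {t x : G} (htt : t * t = 1) (htx : t * x * t⁻¹ = x⁻¹)
    (hxF : x ∈ pCoreIn p M) (hxN : x ∈ N) (htN : t ∈ N) (hCt : centralizer ({t} : Set G) ≤ M) :
    x ∈ centralizer (pCoreIn r N : Set G) := by
  have hrP := isPGroup_pCoreIn (p := r) N
  obtain ⟨b, hb⟩ := IsPGroup.iff_card.mp hrP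
  obtain ⟨a, ha⟩ := (isPGroup_pCoreIn (p := p) M) ⟨x, hxF⟩
  have hxo : orderOf x ∣ p ^ a :=
    orderOf_dvd_of_pow_eq_one (by have h := congrArg Subtype.val ha; simpa using h)
  haveI := hrP.isNilpotent
  have hodd : Odd (Nat.card (pCoreIn r N)) := by
    rw [hb]; exact ((Fact.out : r.Prime).odd_of_ne_two hr).pow
  refine commute_of_inverted htt htx
    (((Fact.out : p.Prime).odd_of_ne_two hp).pow.of_dvd_nat hxo) _ inferInstance hodd ?_
    (le_normalizer_pCoreIn N htN) (le_normalizer_pCoreIn N hxN) fun v hv hcv => ?_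
  · rw [hb]
    exact Nat.Coprime.coprime_dvd_left hxo
      (((Nat.coprime_primes Fact.out Fact.out).mpr hpr).pow _ _)
  · exact commute_cross hpr hxF hxN hv (hCt (mem_centralizer_singleton_iff.2 hcv.eq.symm))

/-- A nontrivial `p`-group invariant under a `p`-group contains a nontrivial fixed point. -/
theorem inf_centralizer_ne_bot {q : ℕ} [Fact q.Prime] {B U : Subgroup G} (hB : IsPGroup q B)
    (hU : IsPGroup q U) (hBU : B ≤ normalizer (U : Set G)) (hne : U ≠ ⊥) :
    U ⊓ centralizer (B : Set G) ≠ ⊥ := by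
  let φ : B →* MulAut U := (normalizerMonoidHom (H := U)).comp (inclusion hBU)
  letI : MulAction B U := MulAction.compHom U φ
  haveI : Nontrivial U := (nontrivial_iff_ne_bot U).2 hne
  obtain ⟨k, hk0, hk⟩ := hU.nontrivial_iff_card.mp inferInstance
  have h1 : (1 : U) ∈ MulAction.fixedPoints B U := fun b => map_one (φ b)
  obtain ⟨y, hy, hy1⟩ :=
    hB.exists_fixed_point_of_prime_dvd_card_of_fixed_point U (hk ▸ dvd_pow_self q hk0.ne') h1
  intro hbot
  refine hy1 ?_
  have hmem : (y : G) ∈ U ⊓ centralizer (B : Set G) := by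
    refine ⟨y.2, fun c hc => ?_⟩
    have h2 : ((φ ⟨c, hc⟩ y : U) : G) = y := congrArg Subtype.val (hy ⟨c, hc⟩)
    change c * (y : G) * c⁻¹ = y at h2
    exact mul_inv_eq_iff_eq_mul.mp h2
  rw [hbot, Subgroup.mem_bot] at hmem
  exact (Subtype.ext hmem).symm

/-- A nontrivial subgroup invariant under an involution contains a nontrivial element which it
fixes or inverts. -/
theorem exists_eigen {t : G} (htt : t * t = 1) {U : Subgroup G} (htU : t ∈ normalizer (U : Set G))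
    (hne : U ≠ ⊥) : ∃ c ∈ U, c ≠ 1 ∧ (t * c * t⁻¹ = c ∨ t * c * t⁻¹ = c⁻¹) := by
  obtain ⟨u, hu, hu1⟩ := (U.bot_or_exists_ne_one).resolve_left hne
  by_cases h : t * u * t⁻¹ = u
  · exact ⟨u, hu, hu1, Or.inl h⟩
  refine ⟨u⁻¹ * (t * u * t⁻¹), mul_mem (inv_mem hu) (Coprime.conj_mem htU hu),
    fun h1 => h (inv_mul_eq_one.1 h1).symm, Or.inr ?_⟩
  have ht : t⁻¹ = t := inv_eq_of_mul_eq_one_right htt
  have h2 : ∀ g : G, t * (t * g) = g := fun g => by rw [← mul_assoc, htt, one_mul]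
  simp [mul_assoc, ht, htt]

/-- An involution without fixed points on `P` inverts `P`. -/
theorem inverts_of_fpf {t : G} (htt : t * t = 1) {P : Subgroup G} (htP : t ∈ normalizer (P : Set G))
    (h : ∀ v ∈ P, Commute t v → v = 1) : ∀ v ∈ P, t * v * t⁻¹ = v⁻¹ := by
  set φ : MulAut P := normalizerMonoidHom (H := P) ⟨t, htP⟩ with hφ
  have hval : ∀ v : P, ((φ v : P) : G) = t * v * t⁻¹ := fun v => rfl
  have hfp : MonoidHom.FixedPointFree (φ : P → P) := fun g hg =>
    Subtype.ext (h g g.2 (mul_inv_eq_iff_eq_mul.mp (hval g ▸ congrArg Subtype.val hg)))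
  have h2 : Function.Involutive (φ : P → P) := fun g => Subtype.ext (by
    rw [hval, hval, show t * (t * (g : G) * t⁻¹) * t⁻¹ = (t * t) * g * (t * t)⁻¹ by group, htt]
    simp)
  intro v hv
  have := congrFun (hfp.coe_eq_inv_of_involutive h2) ⟨v, hv⟩
  rw [← hval ⟨v, hv⟩, this]
  rfl

/-- `c` is fixed or inverted by each of `t` and `s`. -/
def Eigen (t s c : G) : Prop :=
  (t * c * t⁻¹ = c ∨ t * c * t⁻¹ = c⁻¹) ∧ (s * c * s⁻¹ = c ∨ s * c * s⁻¹ = c⁻¹)

/-- A nontrivial subgroup invariant under commuting involutions contains a joint eigen element. -/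
theorem exists_eigen_pair {t s : G} (htt : t * t = 1) (hss : s * s = 1) (hts : Commute t s)
    {U : Subgroup G} (htU : t ∈ normalizer (U : Set G)) (hsU : s ∈ normalizer (U : Set G))
    (hne : U ≠ ⊥) : ∃ c ∈ U, c ≠ 1 ∧ Eigen t s c := by
  by_cases h : U ⊓ centralizer ({t} : Set G) = ⊥
  · obtain ⟨c, hc, hc1, hcs⟩ := exists_eigen hss hsU hne
    refine ⟨c, hc, hc1, Or.inr (inverts_of_fpf htt htU (fun v hv hv' => ?_) c hc), hcs⟩
    exact (mem_bot (G := G)).1 (h.le ⟨hv, mem_centralizer_singleton_iff.2 hv'.eq.symm⟩)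
  · have hsC : s ∈ centralizer ({t} : Set G) := mem_centralizer_singleton_iff.2 hts.eq.symm
    have hs' : s ∈ normalizer ((U ⊓ centralizer ({t} : Set G) : Subgroup G) : Set G) :=
      inf_normalizer_le_normalizer_inf ⟨hsU, le_normalizer hsC⟩
    obtain ⟨c, ⟨hc, hct⟩, hc1, hcs⟩ := exists_eigen hss hs' h
    refine ⟨c, hc, hc1, Or.inl ?_, hcs⟩
    rw [show t * c = c * t from (mem_centralizer_singleton_iff.1 hct).symm, mul_inv_cancel_right]

/-- The normalizer of a nontrivial subgroup normal in a maximal subgroup of a simple group. -/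
theorem normalizer_eq_of_coatom [IsSimpleGroup G] {M A : Subgroup G} (hM : IsCoatom M) (hne : A ≠ ⊥)
    (hAM : A ≤ M) (hn : M ≤ normalizer (A : Set G)) : normalizer (A : Set G) = M := by
  rcases eq_or_lt_of_le hn with h | h
  · exact h.symm
  exfalso
  have htop := hM.2 _ h
  haveI : A.Normal := normalizer_eq_top_iff.mp htop
  rcases IsSimpleGroup.eq_bot_or_eq_top_of_normal A inferInstance with h' | h'
  · exact hne h'
  · exact hM.1 (top_le_iff.mp (h' ▸ hAM))

/-- If `O_r(N) ≤ M` for every `r` and `N` has two primes, then `O_q(M) ≤ N`. -/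
theorem mutual_le {q r : ℕ} [Fact q.Prime] [Fact r.Prime] (hrq : r ≠ q) {M N : Subgroup G}
    (hqM : pCoreIn q N ≤ M) (hrM : pCoreIn r N ≤ M)
    (hCq : centralizer (pCoreIn q N : Set G) ≤ N) (hCr : centralizer (pCoreIn r N : Set G) ≤ N) :
    pCoreIn q M ≤ N := by
  have hcomm : pCoreIn q N ≤ centralizer (pCoreIn r N : Set G) := fun b hb a ha =>
    (commute_cross (Ne.symm hrq) hb (pCoreIn_le_self N hb) ha (pCoreIn_le_self N ha)).eq.symm
  obtain ⟨k, hk⟩ := IsPGroup.iff_card.mp (isPGroup_pCoreIn (p := r) N)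
  have hA : pCoreIn r N ≤ centralizer (pCoreIn q M : Set G) := by
    refine Coprime.thompson_AxB (isPGroup_pCoreIn (p := q) N)
      (hk ▸ ((Nat.coprime_primes Fact.out Fact.out).mpr hrq).pow_left k) hcomm _
      (isPGroup_pCoreIn (p := q) M) (hqM.trans (le_normalizer_pCoreIn M))
      (hrM.trans (le_normalizer_pCoreIn M)) ?_
    rintro v ⟨hv, hvc⟩
    intro a ha
    exact (commute_cross hrq ha (hrM ha) hv (hCq hvc)).eq
  exact (le_centralizer_iff.mp hA).trans hCr

/-- **Main step.** An element `x ∈ O_p(M) ∩ N` inverted by `t` with `C(x) ≤ M` forces every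
`O_r(N)` into `M`. -/
theorem pCoreIn_le_of_exchange [IsSimpleGroup G] {p : ℕ} [Fact p.Prime] (hp : p ≠ 2)
    {M N : Subgroup G} (hN : IsCoatom N) {t s x : G} (htt : t * t = 1) (hss : s * s = 1)
    (hts : Commute t s) (hsM : s ∈ M) (hsN : s ∈ N)
    (htx : t * x * t⁻¹ = x⁻¹) (hxF : x ∈ pCoreIn p M) (hxN : x ∈ N) (htM : t ∈ M) (htN : t ∈ N)
    (hCt : centralizer ({t} : Set G) ≤ M) (hCx : centralizer ({x} : Set G) ≤ M)
    (hC : ∀ q : ℕ, q.Prime → q ≠ p → ∀ c ∈ pCoreIn q M, c ≠ 1 →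
      Eigen t s c → centralizer ({c} : Set G) ≤ M)
    (hodd : ∀ r : ℕ, r.Prime → pCoreIn r N ≠ ⊥ → r ≠ 2)
    (hsame : ∀ r : ℕ, r.Prime → pCoreIn r N ≠ ⊥ → pCoreIn r M ≠ ⊥)
    (htwo : ∃ q : ℕ, q.Prime ∧ q ≠ p ∧ pCoreIn q N ≠ ⊥) :
    ∀ r : ℕ, r.Prime → pCoreIn r N ≤ M := by
  have hle : ∀ q : ℕ, q.Prime → q ≠ p → pCoreIn q N ≤ M := by
    intro q hq hqp
    haveI := Fact.mk hq
    by_cases hb : pCoreIn q N = ⊥
    · rw [hb]; exact bot_le
    intro v hv
    refine hCx (mem_centralizer_singleton_iff.2 ?_)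
    exact mem_centralizer_iff.1
      (exchange (Ne.symm hqp) hp (hodd q hq hb) htt htx hxF hxN htN hCt) v hv
  obtain ⟨q, hq, hqp, hqne⟩ := htwo
  haveI := Fact.mk hq
  intro r hr
  haveI := Fact.mk hr
  by_cases hrp : r = p
  swap
  · exact hle r hr hrp
  subst hrp
  -- a fixed point of `O_q(N)` on `O_q(M)`
  have hqM := hle q hq hqp
  have hU := inf_centralizer_ne_bot (isPGroup_pCoreIn (p := q) N) (isPGroup_pCoreIn (p := q) M)
    (hqM.trans (le_normalizer_pCoreIn M)) (hsame q hq hqne)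
  have hTU : ∀ g : G, g ∈ M → g ∈ N →
      g ∈ normalizer ((pCoreIn q M ⊓ centralizer (pCoreIn q N : Set G) : Subgroup G) : Set G) := by
    intro g hgM hgN
    exact inf_normalizer_le_normalizer_inf ⟨le_normalizer_pCoreIn M hgM,
      Thompson.normalizer_le_normalizer_centralizer' _ (le_normalizer_pCoreIn N hgN)⟩
  obtain ⟨c, ⟨hcF, hcC⟩, hc1, hceig⟩ :=
    exists_eigen_pair htt hss hts (hTU t htM htN) (hTU s hsM hsN) hU
  have hcN : c ∈ N := by
    rw [← normalizer_eq_of_coatom hN hqne (pCoreIn_le_self N) (le_normalizer_pCoreIn N)]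
    exact centralizer_le_normalizer _ hcC
  have hcM := hC q hq hqp c hcF hc1 hceig
  have hxc : Commute x c := commute_cross (Ne.symm hqp) hxF (pCoreIn_le_self M hxF) hcF
    (pCoreIn_le_self M hcF)
  -- `<c> × <x>` on `O_p(N)`
  have hxp : IsPGroup r (zpowers x) :=
    (isPGroup_pCoreIn (p := r) M).to_le (zpowers_le.2 hxF)
  have hccop : (Nat.card (zpowers c)).Coprime r := by
    obtain ⟨k, hk⟩ := IsPGroup.iff_card.mp
      ((isPGroup_pCoreIn (p := q) M).to_le (zpowers_le.2 hcF))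
    rw [hk]
    exact ((Nat.coprime_primes hq hr).mpr hqp).pow_left k
  have hA : zpowers c ≤ centralizer (pCoreIn r N : Set G) := by
    refine Coprime.thompson_AxB hxp hccop ?_ _ (isPGroup_pCoreIn (p := r) N)
      (zpowers_le.2 (le_normalizer_pCoreIn N hxN)) (zpowers_le.2 (le_normalizer_pCoreIn N hcN)) ?_
    · rw [zpowers_le, mem_centralizer_iff]
      intro g hg
      obtain ⟨k, rfl⟩ := mem_zpowers_iff.1 hg
      exact (hxc.zpow_right k).eq.symm
    · rintro v ⟨hv, hvx⟩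
      intro g hg
      obtain ⟨k, rfl⟩ := mem_zpowers_iff.1 hg
      have hvM : v ∈ M :=
        hCx (mem_centralizer_singleton_iff.2 (mem_centralizer_iff.1 hvx x (mem_zpowers x)).symm)
      exact ((commute_cross hqp hcF hcN hv hvM).zpow_left k).eq
  intro v hv
  exact hcM (mem_centralizer_singleton_iff.2 (mem_centralizer_iff.1 (hA (mem_zpowers c)) v hv))

/-- Two maximal subgroups of a simple group without components whose Fitting subgroups lie in the
other one, one of them with two primes, are equal. -/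
theorem eq_of_fit_le [IsSimpleGroup G] {M N : Subgroup G} (hM : IsCoatom M) (hN : IsCoatom N)
    (hEM : Cfsg.layer M = ⊥) (hEN : Cfsg.layer N = ⊥)
    (h₁ : ∀ r : ℕ, r.Prime → pCoreIn r M ≤ N) (h₂ : ∀ r : ℕ, r.Prime → pCoreIn r N ≤ M)
    {q r : ℕ} (hqr : q ≠ r) [Fact q.Prime] [Fact r.Prime] (hq : pCoreIn q N ≠ ⊥)
    (hr : pCoreIn r N ≠ ⊥) : M = N := by
  by_contra hne
  have hle : ∀ {K L : Subgroup G}, Cfsg.layer K = ⊥ → (∀ s : ℕ, s.Prime → pCoreIn s K ≤ L) →
      Components.gFitIn K ≤ L := by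
    intro K L hE h
    rw [Components.gFitIn, Components.genFitting_eq_sup, hE, bot_sup_eq,
      Components.fitting_eq_iSup_pCore, Subgroup.map_iSup]
    exact iSup_le fun s => h _ (Nat.prime_of_mem_primeFactors s.2)
  obtain ⟨s, hs, -, hsN⟩ := Components.primitive_pair hne
    (fun A a b c => by rw [normalizer_eq_of_coatom hM a (b.trans inf_le_left) c, inf_comm])
    (fun A a b c => by rw [normalizer_eq_of_coatom hN a (b.trans inf_le_right) c])
    (hle hEM h₁) (hle hEN h₂)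
  haveI := Fact.mk hs
  have key : ∀ l : ℕ, ∀ _ : Fact l.Prime, pCoreIn l N ≠ ⊥ → l = s := by
    intro l hl hne'
    by_contra hls
    refine hne' ?_
    have h3 : pCoreIn l N ≤ pCoreIn s N := by
      refine (Components.pCoreIn_le N).trans ?_
      rw [Components.gFitIn, hsN]
    rw [← inf_eq_left.2 h3]
    exact Coprime.inf_eq_bot (coprime_pCoreIn hls N N)
  exact hqr ((key q inferInstance hq).trans (key r inferInstance hr).symm)

/-- A member over `C(t)` with two primes and an exchangeable element equals the member `N`. -/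
theorem eq_of_exchange [IsSimpleGroup G] {p : ℕ} [Fact p.Prime] (hp : p ≠ 2) {M N : Subgroup G}
    (hM : IsCoatom M) (hN : IsCoatom N) (hEM : Cfsg.layer M = ⊥) (hEN : Cfsg.layer N = ⊥)
    {t s x : G} (htt : t * t = 1) (hss : s * s = 1) (hts : Commute t s) (hsM : s ∈ M) (hsN : s ∈ N)
    (htx : t * x * t⁻¹ = x⁻¹) (hxF : x ∈ pCoreIn p M) (hxN : x ∈ N)
    (htM : t ∈ M) (htN : t ∈ N) (hCt : centralizer ({t} : Set G) ≤ M)
    (hCx : centralizer ({x} : Set G) ≤ M)
    (hC : ∀ q : ℕ, q.Prime → q ≠ p → ∀ c ∈ pCoreIn q M, c ≠ 1 →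
      Eigen t s c → centralizer ({c} : Set G) ≤ M)
    (hodd : ∀ r : ℕ, r.Prime → pCoreIn r N ≠ ⊥ → r ≠ 2)
    (hsame : ∀ r : ℕ, r.Prime → (pCoreIn r N = ⊥ ↔ pCoreIn r M = ⊥))
    (htwo : ∃ q : ℕ, q.Prime ∧ q ≠ p ∧ pCoreIn q N ≠ ⊥) (hpN : pCoreIn p N ≠ ⊥) : M = N := by
  have h₂ := pCoreIn_le_of_exchange hp hN htt hss hts hsM hsN htx hxF hxN htM htN hCt hCx hC hodd
    (fun r hr h h' => h ((hsame r hr).2 h')) htwo
  obtain ⟨q, hq, hqp, hqne⟩ := htwo
  haveI := Fact.mk hq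
  refine eq_of_fit_le hM hN hEM hEN (fun r hr => ?_) h₂ hqp hqne hpN
  haveI := Fact.mk hr
  by_cases hb : pCoreIn r N = ⊥
  · rw [(hsame r hr).1 hb]; exact bot_le
  have hCf : ∀ l : ℕ, pCoreIn l N ≠ ⊥ → centralizer (pCoreIn l N : Set G) ≤ N := fun l hl =>
    (centralizer_le_normalizer _).trans
      (normalizer_eq_of_coatom hN hl (pCoreIn_le_self N) (le_normalizer_pCoreIn N)).le
  by_cases hrp : r = p
  · subst hrp
    exact mutual_le hqp (h₂ r hr) (h₂ q hq) (hCf r hb) (hCf q hqne)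
  · exact mutual_le (Ne.symm hrp) (h₂ r hr) (h₂ p Fact.out) (hCf r hb) (hCf p hpN)

end Cfsg.Agent.H77.GW
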