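import Cfsg.Agent.H62.GW.MixedSetting
import Cfsg.Agent.H62.GW.Basic
import Cfsg.Agent.H77.GW.Exchange

/-!
# GW, mixed case: basic facts for the bound on `m`
-/

set_option autoImplicit false
set_option linter.unusedSectionVars false

namespace Cfsg.Agent.H77.GW.Bound

open Subgroup Cfsg.Agent
open Cfsg.Agent.GW (coreAt pairCore)
open Cfsg.Agent.Components (pCoreIn fitIn)
open Cfsg.Agent.H62.GW (fixPart torusPart MixedData)
open scoped commutatorElement

universe u

section General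

variable {G : Type u} [Group G] [Finite G]

/-- If all prime-power-order powers of `v` lie in `H` then `v` does. -/
theorem mem_of_primePow {H : Subgroup G} {v : G}
    (h : ∀ (r k i : ℕ), r.Prime → (v ^ i) ^ r ^ k = 1 → v ^ i ∈ H) : v ∈ H := by
  suffices key : ∀ n : ℕ, ∀ w : G, orderOf w = n → (∀ i : ℕ, ∃ j : ℕ, w ^ i = v ^ j) → w ∈ H from
    key _ v rfl fun i => ⟨i, rfl⟩
  intro n
  induction n using Nat.recOnPosPrimePosCoprime with
  | prime_pow r k hr _ =>
    intro w hw hp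
    obtain ⟨j, hj⟩ := hp 1
    rw [pow_one] at hj
    rw [hj]
    exact h r k j hr (by rw [← hj, ← hw, pow_orderOf_eq_one])
  | zero => intro w hw; exact absurd hw (orderOf_pos w).ne'
  | one => intro w hw _; rw [orderOf_eq_one_iff] at hw; rw [hw]; exact one_mem H
  | coprime a b ha hb hab iha ihb =>
    intro w hw hp
    have hwa : w ^ b ∈ H := by
      refine iha (w ^ b) ?_ fun i => ?_
      · rw [orderOf_pow' w (by omega), hw, Nat.gcd_eq_right (dvd_mul_left b a),
          Nat.mul_div_cancel _ (by omega : 0 < b)]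
      · rw [← pow_mul]; exact hp _
    have hwb : w ^ a ∈ H := by
      refine ihb (w ^ a) ?_ fun i => ?_
      · rw [orderOf_pow' w (by omega), hw, Nat.gcd_eq_right (dvd_mul_right a b),
          Nat.mul_div_cancel_left _ (by omega : 0 < a)]
      · rw [← pow_mul]; exact hp _
    have hg : ((1 : ℕ) : ℤ) = (a : ℤ) * Nat.gcdA a b + (b : ℤ) * Nat.gcdB a b := by
      rw [← Nat.gcd_eq_gcd_ab, hab.gcd_eq_one]
    have e : w = (w ^ a) ^ Nat.gcdA a b * (w ^ b) ^ Nat.gcdB a b := by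
      rw [← zpow_natCast w a, ← zpow_natCast w b, ← zpow_mul, ← zpow_mul, ← zpow_add, ← hg,
        Nat.cast_one, zpow_one]
    rw [e]
    exact mul_mem (zpow_mem hwb _) (zpow_mem hwa _)

theorem eq_one_of_fixed_inverted {s v : G} (ho : Odd (orderOf v)) (hi : s * v * s⁻¹ = v⁻¹)
    (hc : Commute s v) : v = 1 :=
  H62.GW.eq_one_of_inverted ho hi hc

theorem odd_orderOf_mem {A : Subgroup G} (hA : Odd (Nat.card A)) {x : G} (hx : x ∈ A) :
    Odd (orderOf x) :=
  H62.GW.odd_orderOf_of_mem hA hx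

/-- Every element of a subgroup of odd order normalised by the involution `s` is an inverted
element times a fixed one. -/
theorem exists_decomp {s : G} (hss : s * s = 1) {A : Subgroup G} (hA : Odd (Nat.card A))
    (hs : ∀ v ∈ A, s * v * s⁻¹ ∈ A) {o : G} (ho : o ∈ A) :
    ∃ x ∈ A, ∃ f ∈ A, s * x * s⁻¹ = x⁻¹ ∧ Commute s f ∧ o = x * f := by
  set d := s * o * s⁻¹ * o⁻¹ with hd
  have hdA : d ∈ A := mul_mem (hs o ho) (inv_mem ho)
  have hdi : s * d * s⁻¹ = d⁻¹ := H62.GW.conj_commutator_inverted hss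
  obtain ⟨k, hk⟩ := odd_orderOf_mem hA hdA
  set x := d⁻¹ ^ (k + 1) with hx
  have hxA : x ∈ A := pow_mem (inv_mem hdA) _
  have hxx : x * x = d⁻¹ := by
    rw [hx, ← pow_add, show k + 1 + (k + 1) = orderOf d + 1 from by omega, pow_succ,
      inv_pow, pow_orderOf_eq_one, inv_one, one_mul]
  have hxi : s * x * s⁻¹ = x⁻¹ := by
    rw [hx, ← conj_pow, ← inv_pow, inv_inv]
    congr 1
    calc s * d⁻¹ * s⁻¹ = (s * d * s⁻¹)⁻¹ := by group
      _ = d := by rw [hdi, inv_inv]
  have hsd : s * o * s⁻¹ = d * o := by rw [hd, inv_mul_cancel_right]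
  have hxd : x * d = x⁻¹ := by
    have : x * d * x = 1 := by
      rw [mul_assoc, show d = (x * x)⁻¹ by rw [hxx, inv_inv]]
      group
    exact eq_inv_of_mul_eq_one_left this
  refine ⟨x, hxA, x⁻¹ * o, mul_mem (inv_mem hxA) ho, hxi, ?_, by rw [mul_inv_cancel_left]⟩
  have h1 : s * x⁻¹ * s⁻¹ = x := by rw [← conj_inv, hxi, inv_inv]
  have h2 : s * (x⁻¹ * o) * s⁻¹ = x⁻¹ * o := by
    calc s * (x⁻¹ * o) * s⁻¹ = (s * x⁻¹ * s⁻¹) * (s * o * s⁻¹) := by group
      _ = x * (s * o * s⁻¹) := by rw [h1]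
      _ = x * d * o := by rw [hsd]; exact (mul_assoc x d o).symm
      _ = x⁻¹ * o := by rw [hxd]
  exact mul_inv_eq_iff_eq_mul.1 h2

/-- A coprime element normalising a cyclic `q`-group and fixing its element of order `q`
centralises it. -/
theorem commute_of_omega {q : ℕ} [hq : Fact q.Prime] {A : Subgroup G}
    (hAc : ∀ a ∈ A, ∀ b ∈ A, Commute a b) (hAq : IsPGroup q A) {y : G}
    (hy : ∀ a ∈ A, a ^ q = 1 → a ∈ zpowers y) {w : G} (hwA : ∀ a ∈ A, w * a * w⁻¹ ∈ A)
    (hwy : Commute w y) (hw : (orderOf w).Coprime q) : ∀ a ∈ A, Commute w a := by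
  suffices key : ∀ k : ℕ, ∀ a ∈ A, a ^ q ^ k = 1 → Commute w a by
    intro a ha
    obtain ⟨k, hk⟩ := hAq ⟨a, ha⟩
    exact key k a ha (congrArg Subtype.val hk)
  intro k
  induction k with
  | zero => intro a _ h; rw [pow_zero, pow_one] at h; rw [h]; exact Commute.one_right w
  | succ k ih =>
    intro a ha h
    have hq' : Commute w (a ^ q) := ih _ (pow_mem ha q) (by rw [← pow_mul, ← pow_succ', h])
    set d := w * a * w⁻¹ * a⁻¹ with hd
    have hdA : d ∈ A := mul_mem (hwA a ha) (inv_mem ha)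
    have hdq : d ^ q = 1 := by
      rw [hd, (hAc _ (hwA a ha) _ (inv_mem ha)).mul_pow, conj_pow, inv_pow, hq'.eq,
        mul_inv_cancel_right, mul_inv_cancel]
    have hwd : Commute w d := by
      obtain ⟨i, hi⟩ := mem_zpowers_iff.1 (hy d hdA hdq)
      rw [← hi]
      exact hwy.zpow_right i
    have hconj : w * a * w⁻¹ = d * a := by rw [hd, inv_mul_cancel_right]
    have hn : ∀ n : ℕ, w ^ n * a * (w ^ n)⁻¹ = d ^ n * a := by
      intro n
      induction n with
      | zero => simp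
      | succ n ihn =>
        calc w ^ (n + 1) * a * (w ^ (n + 1))⁻¹ = w * (w ^ n * a * (w ^ n)⁻¹) * w⁻¹ := by
              rw [pow_succ']; group
          _ = (w * d ^ n * w⁻¹) * (w * a * w⁻¹) := by rw [ihn]; group
          _ = d ^ n * (w * a * w⁻¹) := by rw [(hwd.pow_right n).eq, mul_inv_cancel_right]
          _ = d ^ n * (d * a) := by rw [hconj]
          _ = d ^ (n + 1) * a := by rw [pow_succ]; exact (mul_assoc (d ^ n) d a).symm
    have hdn : d ^ orderOf w = 1 := by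
      have h1 := hn (orderOf w)
      rw [pow_orderOf_eq_one, one_mul, inv_one, mul_one] at h1
      exact (mul_eq_right.1 h1.symm)
    have hd1 : d = 1 := by
      rw [← orderOf_eq_one_iff]
      exact Nat.eq_one_of_dvd_coprimes hw (orderOf_dvd_of_pow_eq_one hdn)
        (orderOf_dvd_of_pow_eq_one hdq)
    rw [hd1, one_mul] at hconj
    exact mul_inv_eq_iff_eq_mul.1 hconj

/-- The unique subgroup of order `q` in a cyclic group. -/
theorem mem_zpowers_of_cyclic {A : Subgroup G} [hA : IsCyclic ↥A] {q : ℕ} [hq : Fact q.Prime]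
    {y : G} (hy : y ∈ A) (hyo : orderOf y = q) {a : G} (ha : a ∈ A) (haq : a ^ q = 1) :
    a ∈ zpowers y := by
  rcases (Nat.dvd_prime hq.out).1 (orderOf_dvd_of_pow_eq_one haq) with h | h
  · rw [orderOf_eq_one_iff] at h; rw [h]; exact one_mem _
  · have he : zpowers (⟨a, ha⟩ : ↥A) = zpowers (⟨y, hy⟩ : ↥A) := by
      obtain ⟨g, hg⟩ := hA.exists_generator
      haveI : Fintype ↥A := Fintype.ofFinite _
      classical
      have hsub : ∀ {b : ↥A}, orderOf b = q → ∀ c : ↥A, c ^ q = 1 → c ∈ zpowers b := by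
        intro b hb c hc
        have hle := IsCyclic.card_pow_eq_one_le (α := ↥A) hq.out.pos
        have himg : (Finset.univ.filter fun e : ↥A => e ∈ zpowers b) ⊆
            Finset.univ.filter fun e : ↥A => e ^ q = 1 := by
          intro e he
          rw [Finset.mem_filter] at he ⊢
          obtain ⟨i, rfl⟩ := mem_zpowers_iff.1 he.2
          refine ⟨Finset.mem_univ _, ?_⟩
          have hbq : b ^ q = 1 := hb ▸ pow_orderOf_eq_one b
          rw [← zpow_natCast, ← zpow_mul, mul_comm, zpow_mul, zpow_natCast, hbq, one_zpow]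
        have hcard : (Finset.univ.filter fun e : ↥A => e ∈ zpowers b).card = q := by
          rw [← hb, ← Nat.card_zpowers, Nat.card_eq_fintype_card, Fintype.card_subtype]
        have heq := Finset.eq_of_subset_of_card_le himg (by rw [hcard]; exact hle)
        have : c ∈ Finset.univ.filter fun e : ↥A => e ^ q = 1 :=
          Finset.mem_filter.2 ⟨Finset.mem_univ _, hc⟩
        rw [← heq, Finset.mem_filter] at this
        exact this.2
      have ha' : orderOf (⟨a, ha⟩ : ↥A) = q := by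
        rw [← Subgroup.orderOf_coe]; exact h
      have hy' : orderOf (⟨y, hy⟩ : ↥A) = q := by
        rw [← Subgroup.orderOf_coe]; exact hyo
      exact le_antisymm (zpowers_le.2 (hsub hy' _ (ha' ▸ pow_orderOf_eq_one _)))
        (zpowers_le.2 (hsub ha' _ (hy' ▸ pow_orderOf_eq_one _)))
    obtain ⟨i, hi⟩ := mem_zpowers_iff.1 (he ▸ mem_zpowers (⟨a, ha⟩ : ↥A))
    exact mem_zpowers_iff.2 ⟨i, congrArg Subtype.val hi⟩

end General

variable {G : Type u} [Group G] [Finite G] {S : Sylow 2 G} {l : ℕ} {c s : G} {L : Subgroup G}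
  (hM : MixedData S l c s L)
include hM

theorem ss : s * s = 1 := H39.mul_self_of_orderOf_eq_two hM.cfg.gen.os

theorem s_comm_t : Commute s (c ^ l) := hM.cfg.gen.z_central hM.cfg.gen.mem_s

theorem conj_core {v : G} (hv : v ∈ coreAt (c ^ l)) : s * v * s⁻¹ ∈ coreAt (c ^ l) :=
  H62.GW.conj_mem_coreAt (s_comm_t hM) hv

theorem conj_pCore {r : ℕ} {v : G} (hv : v ∈ pCoreIn r (coreAt (c ^ l))) :
    s * v * s⁻¹ ∈ pCoreIn r (coreAt (c ^ l)) :=
  Coprime.conj_mem (H62.GW.centralizer_le_normalizer_pCoreAt (c ^ l) r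
    (mem_centralizer_singleton_iff.2 (s_comm_t hM).eq)) hv

theorem conj_pCore' {r : ℕ} {g v : G} (hg : g ∈ coreAt (c ^ l))
    (hv : v ∈ pCoreIn r (coreAt (c ^ l))) : g * v * g⁻¹ ∈ pCoreIn r (coreAt (c ^ l)) :=
  Coprime.conj_mem (le_normalizer_pCoreIn _ hg) hv

omit hM in
theorem fit_le : fitIn (coreAt (c ^ l)) ≤ coreAt (c ^ l) := map_subtype_le _

omit hM in
theorem pCore_le_fit {r : ℕ} [Fact r.Prime] :
    pCoreIn r (coreAt (c ^ l)) ≤ fitIn (coreAt (c ^ l)) :=
  map_mono (Components.pCore_le_fitting r)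

omit hM in
theorem fixPart_le : fixPart (c ^ l) s ≤ fitIn (coreAt (c ^ l)) := inf_le_left

omit hM in
theorem fixPart_le_core : fixPart (c ^ l) s ≤ coreAt (c ^ l) := inf_le_left.trans fit_le

omit hM in
theorem fixPart_fixed {e : G} (he : e ∈ fixPart (c ^ l) s) : Commute s e :=
  (mem_centralizer_singleton_iff.1 he.2).symm

omit hM in
theorem mem_fixPart {v : G} (hv : v ∈ fitIn (coreAt (c ^ l))) (hc : Commute s v) :
    v ∈ fixPart (c ^ l) s :=
  ⟨hv, mem_centralizer_singleton_iff.2 hc.eq.symm⟩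

theorem fixPart_comm {e f : G} (he : e ∈ fixPart (c ^ l) s) (hf : f ∈ fixPart (c ^ l) s) :
    Commute e f := by
  haveI := hM.fix_cyclic
  letI := IsCyclic.commGroup (α := ↥(fixPart (c ^ l) s))
  exact congrArg Subtype.val (mul_comm (⟨e, he⟩ : ↥(fixPart (c ^ l) s)) ⟨f, hf⟩)

theorem torus_comm {e f : G} (he : e ∈ torusPart (c ^ l) L) (hf : f ∈ torusPart (c ^ l) L) :
    Commute e f := by
  haveI := hM.torus_cyclic
  letI := IsCyclic.commGroup (α := ↥(torusPart (c ^ l) L))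
  exact congrArg Subtype.val (mul_comm (⟨e, he⟩ : ↥(torusPart (c ^ l) L)) ⟨f, hf⟩)

theorem torus_comm_fix {k e : G} (hk : k ∈ torusPart (c ^ l) L) (he : e ∈ fixPart (c ^ l) s) :
    Commute k e :=
  hM.commute_fix k hk.2 e he

theorem odd_of_core {v : G} (hv : v ∈ coreAt (c ^ l)) : Odd (orderOf v) :=
  odd_orderOf_mem (H62.GW.odd_coreAt _) hv

theorem torus_inf_fix {v : G} (hk : v ∈ torusPart (c ^ l) L) (hv : Commute s v) : v = 1 :=
  eq_one_of_fixed_inverted (odd_of_core hM hk.1) (hM.torus_inverted v hk) hv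

/-- An inverted element of `O` normalising `E` centralises it. -/
theorem commute_of_inverted_normalizer {v : G} (hv : v ∈ coreAt (c ^ l))
    (hi : s * v * s⁻¹ = v⁻¹) (hn : v ∈ normalizer (fixPart (c ^ l) s : Set G)) {e : G}
    (he : e ∈ fixPart (c ^ l) s) : Commute v e := by
  have hw : v * e * v⁻¹ ∈ fixPart (c ^ l) s := Coprime.conj_mem hn he
  refine H62.GW.commute_of_sq (odd_of_core hM hv) ?_
  have h1 : s * (v * e * v⁻¹) * s⁻¹ = v * e * v⁻¹ := by
    rw [(fixPart_fixed hw).eq, mul_inv_cancel_right]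
  have h2 : s * (v * e * v⁻¹) * s⁻¹ = v⁻¹ * e * v := by
    calc s * (v * e * v⁻¹) * s⁻¹ = (s * v * s⁻¹) * (s * e * s⁻¹) * (s * v * s⁻¹)⁻¹ := by group
      _ = v⁻¹ * e * v := by rw [hi, (fixPart_fixed he).eq, mul_inv_cancel_right, inv_inv]
  calc v * v * e = v * (v * e * v⁻¹) * v := by group
    _ = v * (v⁻¹ * e * v) * v := by rw [← h1, h2]
    _ = e * (v * v) := by group

theorem mem_normalizer_of_commute {v e : G} (hv : v ∈ coreAt (c ^ l))
    (he : e ∈ fixPart (c ^ l) s) (he1 : e ≠ 1) (hc : Commute v e) :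
    v ∈ normalizer (fixPart (c ^ l) s : Set G) :=
  hM.ti v (H62.GW.coreAt_le _ hv) e he he1 (by rwa [hc.eq, mul_inv_cancel_right])

/-- `N_F(E)` centralises `E`. -/
theorem commute_of_fit_normalizer {v e : G} (hv : v ∈ fitIn (coreAt (c ^ l)))
    (hn : v ∈ normalizer (fixPart (c ^ l) s : Set G)) (he : e ∈ fixPart (c ^ l) s) :
    Commute v e := by
  have hss := ss hM
  have hsF : ∀ w ∈ fitIn (coreAt (c ^ l)), s * w * s⁻¹ ∈ fitIn (coreAt (c ^ l)) := by
    intro w hw
    refine mem_of_primePow fun r k i hr h => ?_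
    haveI := Fact.mk hr
    refine pCore_le_fit (r := r) ?_
    rw [conj_pow]
    refine conj_pCore hM (H62.GW.mem_pCoreIn_of_fitIn (k := k) (pow_mem hw i) ?_)
    rw [conj_pow, conj_pow, mul_inv_eq_one, mul_eq_left] at h
    exact h
  obtain ⟨x, hx, f, hf, hxi, hfc, rfl⟩ := exists_decomp hss
    ((H62.GW.odd_coreAt _).of_dvd_nat (Subgroup.card_dvd_of_le fit_le)) hsF hv
  have hfE := mem_fixPart hf hfc
  have hxn : x ∈ normalizer (fixPart (c ^ l) s : Set G) :=
    (Subgroup.mul_mem_cancel_right _ (le_normalizer hfE)).1 hn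
  exact (commute_of_inverted_normalizer hM (fit_le hx) hxi hxn he).mul_left
    (fixPart_comm hM hfE he)

/-- `N_F(E)` is abelian. -/
theorem fit_normalizer_comm {v w : G} (hv : v ∈ fitIn (coreAt (c ^ l)))
    (hvn : v ∈ normalizer (fixPart (c ^ l) s : Set G)) (hw : w ∈ fitIn (coreAt (c ^ l)))
    (hwn : w ∈ normalizer (fixPart (c ^ l) s : Set G)) : Commute v w := by
  obtain ⟨e, he, he1⟩ := (fixPart (c ^ l) s).bot_or_exists_ne_one.resolve_left hM.ne
  obtain ⟨f, hf, k, hk, -, rfl⟩ := hM.fit_split v hv e he he1 (commute_of_fit_normalizer hM hv hvn he)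
  obtain ⟨f', hf', k', hk', -, rfl⟩ :=
    hM.fit_split w hw e he he1 (commute_of_fit_normalizer hM hw hwn he)
  exact ((fixPart_comm hM hf hf').mul_right (torus_comm_fix hM hk' hf).symm).mul_left
    ((torus_comm_fix hM hk hf').mul_right (torus_comm hM hk hk'))

/-- `O_r(O) ≤ T` if it normalises `E` and `r` does not divide `|E|`. -/
theorem pCore_le_torus {r : ℕ} [Fact r.Prime]
    (hn : pCoreIn r (coreAt (c ^ l)) ≤ normalizer (fixPart (c ^ l) s : Set G))
    (hE : ¬ r ∣ Nat.card ↥(fixPart (c ^ l) s)) :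
    pCoreIn r (coreAt (c ^ l)) ≤ torusPart (c ^ l) L := by
  intro v hv
  obtain ⟨e, he, he1⟩ := (fixPart (c ^ l) s).bot_or_exists_ne_one.resolve_left hM.ne
  have hvF : v ∈ fitIn (coreAt (c ^ l)) := pCore_le_fit hv
  obtain ⟨f, hf, k, hk, -, rfl⟩ :=
    hM.fit_split v hvF e he he1 (commute_of_fit_normalizer hM hvF (hn hv) he)
  obtain ⟨a, ha⟩ := (Components.isPGroup_pCoreIn (p := r) (coreAt (c ^ l))) ⟨_, hv⟩
  have h1 : (f * k) ^ r ^ a = 1 := congrArg Subtype.val ha
  rw [(torus_comm_fix hM hk hf).symm.mul_pow] at h1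
  have h2 : f ^ r ^ a = (k ^ r ^ a)⁻¹ := eq_inv_of_mul_eq_one_left h1
  have h3 : f ^ r ^ a = 1 := torus_inf_fix hM (h2 ▸ inv_mem (pow_mem hk _))
    (fixPart_fixed (pow_mem hf _))
  obtain ⟨b, -, hb⟩ := (Nat.dvd_prime_pow (Fact.out : r.Prime)).1 (orderOf_dvd_of_pow_eq_one h3)
  rcases b with _ | b
  · rw [pow_zero, orderOf_eq_one_iff] at hb; rw [hb, one_mul]; exact hk
  · exact absurd (((dvd_pow_self r b.succ_ne_zero).trans (dvd_of_eq hb.symm)).trans
      (Subgroup.orderOf_coe (⟨f, hf⟩ : ↥(fixPart (c ^ l) s)) ▸ orderOf_dvd_natCard _)) hE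

end Cfsg.Agent.H77.GW.Bound
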