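import Cfsg.Agent.H77.GW.BoundPieces
import Cfsg.Agent.S1949

/-!
# GW, mixed case: the bound `m + 2 ≤ q`

With `q` a prime dividing `|E|`, either `j = 1`, or `j = q`, or `m = 1` and `O` is the product of a
subgroup normalised by `C(t)` and `D`.
-/

set_option autoImplicit false
set_option linter.unusedSectionVars false
set_option linter.style.haveILetI false

namespace Cfsg.Agent.H77.GW.Bound

open Subgroup Cfsg.Agent
open Cfsg.Agent.GW (coreAt pairCore)
open Cfsg.Agent.Components (pCoreIn fitIn)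
open Cfsg.Agent.H62.GW (fixPart torusPart jNum mNum MixedData)
open scoped commutatorElement

universe u

variable {G : Type u} [Group G] [Finite G] {S : Sylow 2 G} {l : ℕ} {c s : G} {L : Subgroup G}
  (hM : MixedData S l c s L)
include hM

/-- An element of order `q` of `E` lies in `O_q(O)`, one of the torus as well. -/
theorem exists_yz {q : ℕ} [hq : Fact q.Prime] (hqE : q ∣ Nat.card ↥(fixPart (c ^ l) s)) :
    ∃ y z : G, y ∈ fixPart (c ^ l) s ∧ y ∈ pCoreIn q (coreAt (c ^ l)) ∧ orderOf y = q ∧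
      z ∈ pCoreIn q (coreAt (c ^ l)) ∧ z ∈ torusPart (c ^ l) L ∧ orderOf z = q := by
  obtain ⟨y, hy⟩ := exists_prime_orderOf_dvd_card' (G := ↥(fixPart (c ^ l) s)) q hqE
  have hyo : orderOf (y : G) = q := (Subgroup.orderOf_coe y).trans hy
  have hqF : q ∣ Nat.card ↥(fitIn (coreAt (c ^ l))) :=
    hqE.trans (Subgroup.card_dvd_of_le fixPart_le)
  obtain ⟨z, hz, hzL, hzo⟩ := hM.torus_prime q hq.out hqF
  exact ⟨y, z, y.2, H62.GW.mem_pCoreIn_of_fitIn (k := 1) (fixPart_le y.2)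
    (by rw [pow_one, ← hyo, pow_orderOf_eq_one]), hyo, hz, ⟨H62.GW.pCoreAt_le _ _ hz, hzL⟩, hzo⟩

/-- Fixed elements of exponent `q` in `O_q(O)`. -/
theorem mem_zpowers_of_fixed {q : ℕ} [Fact q.Prime] {y : G} (hy : y ∈ fixPart (c ^ l) s)
    (hyo : orderOf y = q) {u : G} (hu : u ∈ pCoreIn q (coreAt (c ^ l))) (huq : u ^ q = 1)
    (hc : Commute s u) : u ∈ zpowers y := by
  haveI := hM.fix_cyclic
  exact mem_zpowers_of_cyclic hy hyo (mem_fixPart (pCore_le_fit hu) hc) huq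

/-- Inverted elements of exponent `q` commuting with `y`. -/
theorem mem_zpowers_of_inverted {q : ℕ} [hq : Fact q.Prime] {y z : G}
    (hy : y ∈ fixPart (c ^ l) s) (hyo : orderOf y = q) (hzT : z ∈ torusPart (c ^ l) L)
    (hzo : orderOf z = q) {u : G} (hu : u ∈ coreAt (c ^ l)) (huq : u ^ q = 1)
    (hi : s * u * s⁻¹ = u⁻¹) (hc : Commute u y) : u ∈ zpowers z := by
  haveI := hM.torus_cyclic
  exact mem_zpowers_of_cyclic hzT hzo
    (hM.mem_torus u hu hi y hy (fun e => hq.out.ne_one (by rw [← hyo, e, orderOf_one])) hc) huq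

/-- The case `F ≤ N(E)`: every prime of `E` bounds `m`, and the last one strictly. -/
theorem bound_fit_normal
    (hFN : fitIn (coreAt (c ^ l)) ≤ normalizer (fixPart (c ^ l) s : Set G))
    {q : ℕ} [hq : Fact q.Prime] (hqE : q ∣ Nat.card ↥(fixPart (c ^ l) s))
    (hmax : ∀ r : ℕ, r.Prime → r ∣ Nat.card ↥(fixPart (c ^ l) s) → r ≤ q) :
    mNum (c ^ l) s + 2 ≤ q := by
  have hj : jNum (c ^ l) s = 1 := relIndex_eq_one.2 (le_inf le_rfl hFN)
  have hs3 : ∀ {r : ℕ}, r.Prime → r ∣ Nat.card ↥(fixPart (c ^ l) s) → 3 ≤ r := fun {r} hr hd => by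
    rcases Nat.lt_or_ge r 3 with h | h
    · exfalso
      have h2 : r = 2 := by have := hr.two_le; omega
      exact (Nat.not_even_iff_odd.2 ((H62.GW.odd_coreAt (c ^ l)).of_dvd_nat
        (Subgroup.card_dvd_of_le fixPart_le_core))) (even_iff_two_dvd.2 (h2 ▸ hd))
    · exact h
  -- the bound for any prime of `E`
  have key : ∀ r : ℕ, r.Prime → r ∣ Nat.card ↥(fixPart (c ^ l) s) → mNum (c ^ l) s ≤ r ∧
      ((∀ r' : ℕ, r'.Prime → r' ∣ Nat.card ↥(fixPart (c ^ l) s) → r' = r) →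
        mNum (c ^ l) s = r → mNum (c ^ l) s = 1) := by
    intro r hr hrE
    haveI := Fact.mk hr
    obtain ⟨y, z, hy, hyP, hyo, hzP, hzT, hzo⟩ := exists_yz hM hrE
    have hcomm : ∀ a ∈ pCoreIn r (coreAt (c ^ l)), ∀ b ∈ pCoreIn r (coreAt (c ^ l)),
        Commute a b := fun a ha b hb => fit_normalizer_comm hM (pCore_le_fit ha)
          (hFN (pCore_le_fit ha)) (pCore_le_fit hb) (hFN (pCore_le_fit hb))
    let U : Subgroup G :=
      { carrier := {u | u ∈ pCoreIn r (coreAt (c ^ l)) ∧ u ^ r = 1}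
        one_mem' := ⟨one_mem _, one_pow r⟩
        mul_mem' := fun {a b} ha hb => ⟨mul_mem ha.1 hb.1, by
          rw [(hcomm a ha.1 b hb.1).mul_pow, ha.2, hb.2, one_mul]⟩
        inv_mem' := fun {a} ha => ⟨inv_mem ha.1, by rw [inv_pow, ha.2, inv_one]⟩ }
    let J : Subgroup G :=
      { carrier := {u | u ∈ U ∧ s * u * s⁻¹ = u⁻¹}
        one_mem' := ⟨one_mem U, by simp⟩
        mul_mem' := fun {a b} ha hb => ⟨mul_mem ha.1 hb.1, by
          rw [show s * (a * b) * s⁻¹ = (s * a * s⁻¹) * (s * b * s⁻¹) by group, ha.2, hb.2,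
            mul_inv_rev, (hcomm a ha.1.1 b hb.1.1).inv_inv.eq]⟩
        inv_mem' := fun {a} ha => ⟨inv_mem ha.1, by rw [← conj_inv, ha.2]⟩ }
    have hUn : coreAt (c ^ l) ≤ normalizer (U : Set G) := by
      intro g hg
      have hh : ∀ a ∈ coreAt (c ^ l), ∀ u ∈ U, a * u * a⁻¹ ∈ U := fun a ha u hu =>
        ⟨conj_pCore' hM ha hu.1, by rw [conj_pow, hu.2, mul_one, mul_inv_cancel]⟩
      refine mem_normalizer_iff.2 fun u => ⟨hh g hg u, fun h => ?_⟩
      have := hh g⁻¹ (inv_mem hg) _ h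
      simpa [mul_assoc] using this
    have hUs : ∀ u ∈ U, s * u * s⁻¹ ∈ U := fun u hu =>
      ⟨conj_pCore hM hu.1, by rw [conj_pow, hu.2, mul_one, mul_inv_cancel]⟩
    have hyU : y ∈ U := ⟨hyP, hyo ▸ pow_orderOf_eq_one y⟩
    have hJ : ∀ u ∈ U, u ∈ J ↔ s * u * s⁻¹ = u⁻¹ := fun u hu =>
      ⟨fun h => h.2, fun h => ⟨hu, h⟩⟩
    have hfix : ∀ u ∈ U, Commute s u → u ∈ zpowers y := fun u hu hc =>
      mem_zpowers_of_fixed hM hy hyo hu.1 hu.2 hc
    have hJz : Nat.card ↥J ≤ r := by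
      have hle : J ≤ zpowers z := fun u hu => mem_zpowers_of_inverted hM hy hyo hzT hzo
        (H62.GW.pCoreAt_le _ _ hu.1.1) hu.1.2 hu.2 (hcomm u hu.1.1 y hyP)
      exact hzo ▸ Nat.card_zpowers z ▸ Subgroup.card_le_of_le hle
    have hzJ : z ∈ J := ⟨⟨hzP, hzo ▸ pow_orderOf_eq_one z⟩, hM.torus_inverted z hzT⟩
    have hcount := (count hM hy hyo (U := U) (J := J) (fun u hu => H62.GW.pCoreAt_le _ _ hu.1) hUn hUs hyU
      (fun u hu => hu.1) hJ hfix).1
    rw [index_eq hM, hj, one_mul] at hcount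
    refine ⟨hcount.trans hJz, fun honly he => ?_⟩
    refine mNum_eq_one_of_sharp hM hy hyo hzo hzT (U := U) (J := J) (fun u hu => hu.1) hUn hUs hyU
      (fun u hu => hu.1) hJ hzJ hfix (fun r' hr' hne => ?_) ?_
    · haveI := Fact.mk hr'
      exact pCore_le_torus hM ((pCore_le_fit).trans hFN) fun h => hne (honly r' hr' h)
    · rw [hj, one_mul]
      exact le_antisymm hcount (hJz.trans he.ge)
  obtain ⟨hmq, hsharp⟩ := key q hq.out hqE
  have hq3 := hs3 hq.out hqE
  obtain ⟨a, ha⟩ := odd_mNum hM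
  obtain ⟨b, hb⟩ := hq.out.odd_of_ne_two (by omega)
  rcases eq_or_ne (mNum (c ^ l) s) q with he | he
  · by_cases honly : ∀ r' : ℕ, r'.Prime → r' ∣ Nat.card ↥(fixPart (c ^ l) s) → r' = q
    · have := hsharp honly he
      omega
    · push Not at honly
      obtain ⟨r', hr', hd, hne⟩ := honly
      have h1 := (key r' hr' hd).1
      have h2 := hmax r' hr' hd
      omega
  · omega

/-- `m + 2 ≤ q` and the three cases. -/
theorem bound : ∃ q : ℕ, q.Prime ∧ q ∣ Nat.card ↥(fitIn (coreAt (c ^ l))) ∧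
    (∃ e ∈ fixPart (c ^ l) s, orderOf e = q) ∧ mNum (c ^ l) s + 2 ≤ q ∧
    (jNum (c ^ l) s = 1 ∨ jNum (c ^ l) s = q ∨ (mNum (c ^ l) s = 1 ∧
      ∃ B : Subgroup G, B ≤ coreAt (c ^ l) ∧
        centralizer ({c ^ l} : Set G) ≤ normalizer (B : Set G) ∧
        B ⊓ pairCore (c ^ l) s = ⊥ ∧ B ⊔ pairCore (c ^ l) s = coreAt (c ^ l))) := by
  classical
  by_cases hFN : fitIn (coreAt (c ^ l)) ≤ normalizer (fixPart (c ^ l) s : Set G)
  · have hne : (Nat.card ↥(fixPart (c ^ l) s)).primeFactors.Nonempty := by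
      rw [Nat.nonempty_primeFactors]
      exact (Subgroup.one_lt_card_iff_ne_bot _).2 hM.ne
    set q := (Nat.card ↥(fixPart (c ^ l) s)).primeFactors.max' hne
    have hqm := Nat.mem_primeFactors.1 (Finset.max'_mem _ hne)
    haveI := Fact.mk hqm.1
    obtain ⟨y, -, hy, -, hyo, -, -, -⟩ := exists_yz hM (q := q) hqm.2.1
    exact ⟨q, hqm.1, hqm.2.1.trans (Subgroup.card_dvd_of_le fixPart_le), ⟨y, hy, hyo⟩,
      bound_fit_normal hM hFN hqm.2.1 (fun r hr hd => Finset.le_max' _ _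
        (Nat.mem_primeFactors.2 ⟨hr, hd, Nat.card_pos.ne'⟩)),
      Or.inl (relIndex_eq_one.2 (le_inf le_rfl hFN))⟩
  -- a prime `q` with `O_q(O)` not normalising `E`
  obtain ⟨q, hq, hqP⟩ : ∃ q : ℕ, q.Prime ∧
      ¬ pCoreIn q (coreAt (c ^ l)) ≤ normalizer (fixPart (c ^ l) s : Set G) := by
    by_contra! h
    refine hFN ?_
    rw [fitIn, Components.fitting_eq_iSup_pCore, Subgroup.map_iSup]
    exact iSup_le fun r => h _ (Nat.prime_of_mem_primeFactors r.2)
  haveI := Fact.mk hq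
  set O := coreAt (c ^ l) with hO
  set E := fixPart (c ^ l) s
  set P := pCoreIn q O
  have hcross : ∀ {r : ℕ}, r.Prime → r ≠ q → ∀ v ∈ pCoreIn r O, ∀ p ∈ P, Commute v p :=
    fun {r} hr hne v hv p hp => by
      haveI := Fact.mk hr
      exact commute_cross hne hv (pCoreIn_le_self _ hv) hp (pCoreIn_le_self _ hp)
  -- `E` is a `q`-group and the other parts of `F` lie in the torus
  have honlyE : ∀ r : ℕ, r.Prime → r ∣ Nat.card ↥E → r = q := by
    intro r hr hd
    by_contra hne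
    haveI := Fact.mk hr
    obtain ⟨e, -, he, heP, heo, -⟩ := exists_yz hM hd
    exact hqP fun p hp => mem_normalizer_of_commute hM (H62.GW.pCoreAt_le _ _ hp) he
      (fun h => hr.ne_one (by rw [← heo, h, orderOf_one])) (hcross hr hne e heP p hp).symm
  have hqE : q ∣ Nat.card ↥E := by
    obtain ⟨r, hr, hd⟩ := Nat.exists_prime_and_dvd ((Subgroup.one_lt_card_iff_ne_bot E).2 hM.ne).ne'
    exact honlyE r hr hd ▸ hd
  obtain ⟨y, z, hy, hyP, hyo, hzP, hzT, hzo⟩ := exists_yz hM hqE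
  have hy1 : y ≠ 1 := fun e => hq.ne_one (by rw [← hyo, e, orderOf_one])
  have hyq : y ^ q = 1 := hyo ▸ pow_orderOf_eq_one y
  have hq3 : 3 ≤ q := by
    rcases Nat.lt_or_ge q 3 with h | h
    · exfalso
      have h2 : q = 2 := by have := hq.two_le; omega
      exact H62.GW.prime_ne_two_of_mem (fixPart_le_core hy) hyo h2
    · exact h
  have hone : ∀ r : ℕ, r.Prime → r ≠ q → pCoreIn r O ≤ torusPart (c ^ l) L := by
    intro r hr hne
    haveI := Fact.mk hr
    exact pCore_le_torus hM (fun v hv => mem_normalizer_of_commute hM (H62.GW.pCoreAt_le _ _ hv)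
      hy hy1 (hcross hr hne v hv y hyP)) fun h => hne (honlyE r hr h)
  -- decomposition inside `P`
  have hPdec : ∀ {A : Subgroup G}, A ≤ P → (∀ v ∈ A, s * v * s⁻¹ ∈ A) → ∀ v ∈ A,
      ∃ x ∈ A, ∃ f ∈ A, s * x * s⁻¹ = x⁻¹ ∧ Commute s f ∧ v = x * f := fun {A} hA hs v hv =>
    exists_decomp (ss hM) ((H62.GW.odd_coreAt (c ^ l)).of_dvd_nat
      (Subgroup.card_dvd_of_le (hA.trans (H62.GW.pCoreAt_le _ _)))) hs hv
  have hfixE : ∀ {v : G}, v ∈ P → Commute s v → v ∈ E := fun hv hc =>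
    mem_fixPart (pCore_le_fit hv) hc
  -- no element of `E` is central in `P`
  have hEZ : ∀ e ∈ E, (∀ p ∈ P, Commute e p) → e = 1 := fun e he h => by
    by_contra he1
    exact hqP fun p hp => mem_normalizer_of_commute hM (H62.GW.pCoreAt_le _ _ hp) he he1
      (h p hp).symm
  -- the second centre
  let U : Subgroup G :=
    { carrier := {u | u ∈ P ∧ ∀ i ∈ P, ∀ j ∈ P, Commute ⁅u, i⁆ j}
      one_mem' := ⟨one_mem P, fun i _ j _ => by rw [commutatorElement_one_left]; exact Commute.one_left j⟩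
      mul_mem' := by
        rintro a b ⟨ha, ha'⟩ ⟨hb, hb'⟩
        refine ⟨mul_mem ha hb, fun i hi j hj => ?_⟩
        have e : ⁅a * b, i⁆ = a * ⁅b, i⁆ * a⁻¹ * ⁅a, i⁆ := by
          simp [commutatorElement_def, mul_assoc]
        rw [e, ← (hb' i hi a ha).eq, mul_inv_cancel_right]
        exact (hb' i hi j hj).mul_left (ha' i hi j hj)
      inv_mem' := by
        rintro a ⟨ha, ha'⟩
        refine ⟨inv_mem ha, fun i hi j hj => ?_⟩
        have e : ⁅a⁻¹, i⁆ = a⁻¹ * ⁅a, i⁆⁻¹ * a := by simp [commutatorElement_def, mul_assoc]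
        rw [e, mul_assoc, ((ha' i hi a ha).inv_left).eq, inv_mul_cancel_left]
        exact (ha' i hi j hj).inv_left }
  have hUP : U ≤ P := fun u hu => hu.1
  have hconjP : ∀ {g : G}, g ∈ centralizer ({c ^ l} : Set G) → ∀ v ∈ P, g * v * g⁻¹ ∈ P :=
    fun hg v hv => Coprime.conj_mem (H62.GW.centralizer_le_normalizer_pCoreAt _ q hg) hv
  have hconjP' : ∀ {g : G}, g ∈ centralizer ({c ^ l} : Set G) → ∀ v ∈ P, g⁻¹ * v * g ∈ P :=
    fun {g} hg v hv => by simpa using hconjP (inv_mem hg) v hv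
  have hUconj : ∀ g ∈ centralizer ({c ^ l} : Set G), ∀ u ∈ U, g * u * g⁻¹ ∈ U := by
    rintro g hg u ⟨hu, hu'⟩
    refine ⟨hconjP hg u hu, fun i hi j hj => ?_⟩
    have h := hu' _ (hconjP' hg i hi) _ (hconjP' hg j hj)
    have e : ⁅g * u * g⁻¹, i⁆ = g * ⁅u, g⁻¹ * i * g⁆ * g⁻¹ := by
      simp [commutatorElement_def, mul_assoc]
    rw [e]
    calc g * ⁅u, g⁻¹ * i * g⁆ * g⁻¹ * j = g * (⁅u, g⁻¹ * i * g⁆ * (g⁻¹ * j * g)) * g⁻¹ := by group
      _ = g * ((g⁻¹ * j * g) * ⁅u, g⁻¹ * i * g⁆) * g⁻¹ := by rw [h.eq]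
      _ = j * (g * ⁅u, g⁻¹ * i * g⁆ * g⁻¹) := by group
  have hsC : s ∈ centralizer ({c ^ l} : Set G) :=
    mem_centralizer_singleton_iff.2 (s_comm_t hM).eq
  have hUs : ∀ u ∈ U, s * u * s⁻¹ ∈ U := hUconj s hsC
  -- inverted elements of `U` commute with those of `P`
  have hinvU : ∀ u ∈ U, s * u * s⁻¹ = u⁻¹ → ∀ i ∈ P, s * i * s⁻¹ = i⁻¹ → Commute u i := by
    intro u hu hui i hi hii
    have hcP : ⁅u, i⁆ ∈ P := mul_mem (mul_mem (mul_mem hu.1 hi) (inv_mem hu.1)) (inv_mem hi)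
    have hs' : s * ⁅u, i⁆ * s⁻¹ = ⁅u, i⁆ := by
      have h := hu.2 i hi (i * u) (mul_mem hi hu.1)
      calc s * ⁅u, i⁆ * s⁻¹ = ⁅s * u * s⁻¹, s * i * s⁻¹⁆ := by
            simp [commutatorElement_def, mul_assoc]
        _ = ⁅u⁻¹, i⁻¹⁆ := by rw [hui, hii]
        _ = (i * u)⁻¹ * (⁅u, i⁆ * (i * u)) := by simp [commutatorElement_def, mul_assoc]
        _ = ⁅u, i⁆ := by rw [h.eq, inv_mul_cancel_left]
    exact commutatorElement_eq_one_iff_commute.1
      (hEZ _ (hfixE hcP (mul_inv_eq_iff_eq_mul.1 hs')) fun p hp => hu.2 i hi p hp)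
  -- central elements of exponent `q`
  have hcen : ∀ w ∈ P, w ^ q = 1 → (∀ p ∈ P, Commute w p) → w ∈ zpowers z := by
    intro w hw hwq hwc
    let A : Subgroup G :=
      { carrier := {v | v ∈ P ∧ v ^ q = 1 ∧ ∀ p ∈ P, Commute v p}
        one_mem' := ⟨one_mem P, one_pow q, fun p _ => Commute.one_left p⟩
        mul_mem' := fun {a b} ha hb => ⟨mul_mem ha.1 hb.1, by
          rw [(ha.2.2 b hb.1).mul_pow, ha.2.1, hb.2.1, one_mul],
          fun p hp => (ha.2.2 p hp).mul_left (hb.2.2 p hp)⟩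
        inv_mem' := fun {a} ha => ⟨inv_mem ha.1, by rw [inv_pow, ha.2.1, inv_one],
          fun p hp => (ha.2.2 p hp).inv_left⟩ }
    have hAs : ∀ v ∈ A, s * v * s⁻¹ ∈ A := fun v hv => ⟨conj_pCore hM hv.1,
      by rw [conj_pow, hv.2.1, mul_one, mul_inv_cancel], fun p hp => by
        have h := hv.2.2 _ (hconjP' hsC p hp)
        calc s * v * s⁻¹ * p = s * (v * (s⁻¹ * p * s)) * s⁻¹ := by group
          _ = s * ((s⁻¹ * p * s) * v) * s⁻¹ := by rw [h.eq]
          _ = p * (s * v * s⁻¹) := by group⟩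
    obtain ⟨x, hx, f, hf, hxi, hfc, rfl⟩ := hPdec (A := A) (fun v hv => hv.1) hAs w ⟨hw, hwq, hwc⟩
    rw [hEZ f (hfixE hf.1 hfc) hf.2.2, mul_one]
    exact mem_zpowers_of_inverted hM hy hyo hzT hzo (H62.GW.pCoreAt_le _ _ hx.1) hx.2.1 hxi
      (hx.2.2 y hyP)
  have hPne : ∃ v ∈ P, ¬ ∀ p ∈ P, Commute v p := ⟨y, hyP, fun h => hy1 (hEZ y hy h)⟩
  by_cases hyU : y ∈ U
  · -- `j = q`
    have hzc : ∀ p ∈ P, Commute z p := by
      haveI : Nontrivial ↥P := ⟨⟨⟨y, hyP⟩, 1, fun h => hy1 (congrArg Subtype.val h)⟩⟩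
      haveI hZ := (Components.isPGroup_pCoreIn (p := q) O).center_nontrivial
      have hdvd : q ∣ Nat.card ↥(center ↥P) := by
        obtain ⟨k, hk, hk'⟩ := (Components.isPGroup_pCoreIn (p := q) O).to_subgroup (center ↥P) |>.nontrivial_iff_card.mp hZ
        exact hk' ▸ dvd_pow_self q hk.ne'
      obtain ⟨w, hw⟩ := exists_prime_orderOf_dvd_card' (G := ↥(center ↥P)) q hdvd
      have hwo : orderOf ((w : ↥P) : G) = q := by rw [Subgroup.orderOf_coe, Subgroup.orderOf_coe, hw]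
      have hwc : ∀ p ∈ P, Commute ((w : ↥P) : G) p := fun p hp =>
        (congrArg Subtype.val (mem_center_iff.1 w.2 ⟨p, hp⟩)).symm
      have hwz := hcen _ (w : ↥P).2 (hwo ▸ pow_orderOf_eq_one _) hwc
      have hzw : z ∈ zpowers ((w : ↥P) : G) := by
        haveI := hM.torus_cyclic
        exact mem_zpowers_of_cyclic ((zpowers_le.2 hzT) hwz) hwo hzT (hzo ▸ pow_orderOf_eq_one z)
      intro p hp
      obtain ⟨i, hi⟩ := mem_zpowers_iff.1 hzw
      rw [← hi]
      exact (hwc p hp).zpow_left i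
    -- commutators of elements of `U` of exponent `q`
    have hcq : ∀ u ∈ U, u ^ q = 1 → ∀ v ∈ P, ⁅u, v⁆ ∈ zpowers z := by
      intro u hu huq v hv
      have hcP : ⁅u, v⁆ ∈ P := mul_mem (mul_mem (mul_mem hu.1 hv) (inv_mem hu.1)) (inv_mem hv)
      have hn : ∀ n : ℕ, u ^ n * v * (u ^ n)⁻¹ = ⁅u, v⁆ ^ n * v := by
        intro n
        induction n with
        | zero => simp
        | succ n ihn =>
          calc u ^ (n + 1) * v * (u ^ (n + 1))⁻¹ = u * (u ^ n * v * (u ^ n)⁻¹) * u⁻¹ := by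
                rw [pow_succ']; group
            _ = (u * ⁅u, v⁆ ^ n * u⁻¹) * (u * v * u⁻¹) := by rw [ihn]; group
            _ = ⁅u, v⁆ ^ n * (u * v * u⁻¹) := by
                rw [((hu.2 v hv u hu.1).symm.pow_right n).eq, mul_inv_cancel_right]
            _ = ⁅u, v⁆ ^ (n + 1) * v := by
                rw [pow_succ, mul_assoc]; simp [commutatorElement_def, mul_assoc]
      refine hcen _ hcP ?_ (fun p hp => hu.2 v hv p hp)
      have h1 := hn q
      rw [huq, one_mul, inv_one, mul_one] at h1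
      exact mul_eq_right.1 h1.symm
    -- `j = q`
    have hzF : ∀ v ∈ fitIn O, Commute z v := fun v hv => by
      suffices v ∈ centralizer ({z} : Set G) from (mem_centralizer_singleton_iff.1 this).symm
      refine mem_of_primePow fun r k i hr h => mem_centralizer_singleton_iff.2 ?_
      haveI := Fact.mk hr
      have hm := H62.GW.mem_pCoreIn_of_fitIn (pow_mem hv i) h
      by_cases hne : r = q
      · exact (hzc _ (show v ^ i ∈ pCoreIn q O from hne ▸ hm)).eq.symm
      · exact (hcross hr hne _ hm z hzP).eq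
    have hyF : ∀ v ∈ fitIn O, ⁅y, v⁆ ∈ zpowers z := by
      intro v hv
      let K : Subgroup G :=
        { carrier := {w | w ∈ fitIn O ∧ ⁅y, w⁆ ∈ zpowers z}
          one_mem' := ⟨one_mem _, by rw [commutatorElement_one_right]; exact one_mem _⟩
          mul_mem' := fun {a b} ha hb => ⟨mul_mem ha.1 hb.1, by
            rw [show ⁅y, a * b⁆ = ⁅y, a⁆ * (a * ⁅y, b⁆ * a⁻¹) by simp [commutatorElement_def, mul_assoc]]
            obtain ⟨i, hi⟩ := mem_zpowers_iff.1 hb.2
            rw [← hi, (((hzF a ha.1).symm).zpow_right i).eq, mul_inv_cancel_right]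
            exact mul_mem ha.2 ⟨i, rfl⟩⟩
          inv_mem' := fun {a} ha => ⟨inv_mem ha.1, by
            rw [show ⁅y, a⁻¹⁆ = a⁻¹ * ⁅y, a⁆⁻¹ * a by simp [commutatorElement_def, mul_assoc]]
            obtain ⟨i, hi⟩ := mem_zpowers_iff.1 ha.2
            rw [← hi, mul_assoc, ((((hzF a ha.1).zpow_left i).inv_left)).eq, inv_mul_cancel_left]
            exact inv_mem ⟨i, rfl⟩⟩ }
      suffices v ∈ K from this.2
      refine mem_of_primePow fun r k i hr h => ?_
      haveI := Fact.mk hr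
      have hm := H62.GW.mem_pCoreIn_of_fitIn (pow_mem hv i) h
      refine ⟨pow_mem hv i, ?_⟩
      by_cases hne : r = q
      · exact hcq y hyU hyq _ (show v ^ i ∈ pCoreIn q O from hne ▸ hm)
      · rw [commutatorElement_eq_one_iff_commute.2 (hcross hr hne _ hm y hyP).symm]
        exact one_mem _
    have hjq : jNum (c ^ l) s = q := by
      let φ : ↥(fitIn O) →* G :=
        { toFun := fun v => ⁅y, (v : G)⁆
          map_one' := commutatorElement_one_right y
          map_mul' := fun a b => by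
            obtain ⟨i, hi⟩ := mem_zpowers_iff.1 (hyF b b.2)
            show ⁅y, (a : G) * b⁆ = _
            rw [show ⁅y, (a : G) * b⁆ = ⁅y, (a : G)⁆ * ((a : G) * ⁅y, (b : G)⁆ * (a : G)⁻¹) by
              simp [commutatorElement_def, mul_assoc], ← hi,
              (((hzF a a.2).symm).zpow_right i).eq, mul_inv_cancel_right] }
      have hker : φ.ker = (fitIn O ⊓ normalizer (E : Set G)).subgroupOf (fitIn O) := by
        ext v
        rw [MonoidHom.mem_ker, mem_subgroupOf]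
        show ⁅y, (v : G)⁆ = 1 ↔ _
        rw [commutatorElement_eq_one_iff_commute]
        exact ⟨fun h => ⟨v.2, mem_normalizer_of_commute hM (fit_le v.2) hy hy1 h.symm⟩,
          fun h => (commute_of_fit_normalizer hM v.2 h.2 hy).symm⟩
      have hj : jNum (c ^ l) s = φ.ker.index := by rw [hker]; rfl
      rw [hj, index_ker]
      have hle : φ.range ≤ zpowers z := by
        rintro _ ⟨v, rfl⟩
        exact hyF v v.2
      have hd : Nat.card ↥φ.range ∣ q := hzo ▸ Nat.card_zpowers z ▸ Subgroup.card_dvd_of_le hle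
      rcases (Nat.dvd_prime hq).1 hd with h | h
      · exfalso
        apply hFN
        have : φ.ker.index = 1 := by rw [index_ker, h]
        rw [index_eq_one, hker, subgroupOf_eq_top] at this
        exact this.trans inf_le_right
      · exact h
    -- the exponent `q` part of `U`
    let U₁ : Subgroup G :=
      { carrier := {u | u ∈ U ∧ u ^ q = 1}
        one_mem' := ⟨one_mem U, one_pow q⟩
        mul_mem' := by
          rintro a b ⟨ha, haq⟩ ⟨hb, hbq⟩
          refine ⟨mul_mem ha hb, ?_⟩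
          have hca : Commute a ⁅b, a⁆ := (hb.2 a ha.1 a ha.1).symm
          have hcb : Commute b ⁅b, a⁆ := (hb.2 a ha.1 b hb.1).symm
          rw [S1949.mul_pow_central hca hcb q, haq, hbq, one_mul, one_mul]
          obtain ⟨d, hd⟩ : q ∣ q.choose 2 :=
            hq.dvd_choose_self (by norm_num) (by omega)
          obtain ⟨i, hi⟩ := mem_zpowers_iff.1 (hcq b hb hbq a ha.1)
          have hzq : z ^ (q : ℤ) = 1 := by rw [zpow_natCast, ← hzo, pow_orderOf_eq_one]
          rw [hd, pow_mul, ← hi, ← zpow_natCast (z ^ i) q, ← zpow_mul, mul_comm, zpow_mul, hzq,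
            one_zpow, one_pow]
        inv_mem' := fun {a} ha => ⟨inv_mem ha.1, by rw [inv_pow, ha.2, inv_one]⟩ }
    let J : Subgroup G :=
      { carrier := {u | u ∈ U₁ ∧ s * u * s⁻¹ = u⁻¹}
        one_mem' := ⟨one_mem U₁, by simp⟩
        mul_mem' := fun {a b} ha hb => ⟨mul_mem ha.1 hb.1, by
          rw [show s * (a * b) * s⁻¹ = (s * a * s⁻¹) * (s * b * s⁻¹) by group, ha.2, hb.2,
            mul_inv_rev, ((hinvU a ha.1.1 ha.2 b hb.1.1.1 hb.2).inv_inv).eq]⟩
        inv_mem' := fun {a} ha => ⟨inv_mem ha.1, by rw [← conj_inv, ha.2]⟩ }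
    have hU₁n : O ≤ normalizer (U₁ : Set G) := by
      intro g hg
      have hh : ∀ a ∈ O, ∀ u ∈ U₁, a * u * a⁻¹ ∈ U₁ := fun a ha u hu =>
        ⟨hUconj a (H62.GW.coreAt_le _ ha) u hu.1, by rw [conj_pow, hu.2, mul_one, mul_inv_cancel]⟩
      refine mem_normalizer_iff.2 fun u => ⟨hh g hg u, fun h => ?_⟩
      have := hh g⁻¹ (inv_mem hg) _ h
      simpa [mul_assoc] using this
    have hU₁s : ∀ u ∈ U₁, s * u * s⁻¹ ∈ U₁ := fun u hu =>
      ⟨hUs u hu.1, by rw [conj_pow, hu.2, mul_one, mul_inv_cancel]⟩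
    have hzJ : z ∈ J := ⟨⟨⟨hzP, fun i hi j _ => by
      rw [commutatorElement_eq_one_iff_commute.2 (hzc i hi)]; exact Commute.one_left j⟩,
      hzo ▸ pow_orderOf_eq_one z⟩, hM.torus_inverted z hzT⟩
    have hJcard : Nat.card ↥J ≤ q * q := by
      let d : ↥J → ↥(zpowers z) := fun u => ⟨⁅y, (u : G)⁆, hcq y hyU hyq _ u.2.1.1.1⟩
      have hfib : ∀ u v : ↥J, d u = d v → (v : G)⁻¹ * u ∈ zpowers z := by
        intro u v h
        have h1 : ⁅y, (u : G)⁆ = ⁅y, (v : G)⁆ := congrArg Subtype.val h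
        have hw : (v : G)⁻¹ * u ∈ J := mul_mem (inv_mem v.2) u.2
        refine mem_zpowers_of_inverted hM hy hyo hzT hzo
          (H62.GW.pCoreAt_le _ _ hw.1.1.1) hw.1.2 hw.2 ?_
        have h2 : y * (u : G) * y⁻¹ * (u : G)⁻¹ = y * (v : G) * y⁻¹ * (v : G)⁻¹ := by
          simpa [commutatorElement_def] using h1
        refine Commute.symm (mul_inv_eq_iff_eq_mul.1 ?_)
        calc y * ((v : G)⁻¹ * u) * y⁻¹ = (y * v * y⁻¹)⁻¹ * (y * (u : G) * y⁻¹ * (u : G)⁻¹ * u) := by
              group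
          _ = (v : G)⁻¹ * u := by rw [h2]; group
      let sec : ↥(zpowers z) → ↥J := fun j => if h : ∃ u, d u = j then h.choose else 1
      have hsec : ∀ u, d (sec (d u)) = d u := fun u => by
        have h : ∃ u', d u' = d u := ⟨u, rfl⟩
        simp only [sec, dif_pos h]
        exact h.choose_spec
      let ψ : ↥J → ↥(zpowers z) × ↥(zpowers z) := fun u =>
        (d u, ⟨((sec (d u) : ↥J) : G)⁻¹ * u, hfib u _ (hsec u).symm⟩)
      have hψ : Function.Injective ψ := by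
        intro u v h
        have h1 : d u = d v := congrArg Prod.fst h
        have h2 := congrArg (fun p : ↥(zpowers z) × ↥(zpowers z) => (p.2 : G)) h
        simp only [ψ, h1] at h2
        exact Subtype.ext (mul_left_cancel h2)
      have h3 := Nat.card_le_card_of_injective ψ hψ
      rwa [Nat.card_prod, Nat.card_zpowers, hzo] at h3
    have hfix : ∀ u ∈ U₁, Commute s u → u ∈ zpowers y := fun u hu hc =>
      mem_zpowers_of_fixed hM hy hyo hu.1.1 hu.2 hc
    have hJiff : ∀ u ∈ U₁, u ∈ J ↔ s * u * s⁻¹ = u⁻¹ := fun u hu =>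
      ⟨fun h => h.2, fun h => ⟨hu, h⟩⟩
    have hcount := (count hM hy hyo (U := U₁) (J := J) (fun u hu => H62.GW.pCoreAt_le _ _ hu.1.1) hU₁n hU₁s
      ⟨hyU, hyq⟩ (fun u hu => hu.1) hJiff hfix).1
    rw [index_eq hM, hjq] at hcount
    have hmq : mNum (c ^ l) s ≤ q := Nat.le_of_mul_le_mul_left (hcount.trans hJcard) hq.pos
    refine ⟨q, hq, hqE.trans (Subgroup.card_dvd_of_le fixPart_le), ⟨y, hy, hyo⟩, ?_,
      Or.inr (Or.inl hjq)⟩
    obtain ⟨a, ha⟩ := odd_mNum hM
    obtain ⟨b, hb⟩ := hq.odd_of_ne_two (by omega)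
    rcases eq_or_ne (mNum (c ^ l) s) q with he | he
    · have h1 : mNum (c ^ l) s = 1 := mNum_eq_one_of_sharp hM hy hyo hzo hzT (U := U₁) (J := J)
        (fun u hu => hu.1.1) hU₁n hU₁s ⟨hyU, hyq⟩ (fun u hu => hu.1) hJiff hzJ hfix hone
        (by rw [hjq, he]; rw [he] at hcount; exact le_antisymm hcount hJcard)
      omega
    · omega
  · -- `E ∩ Z₂ = 1`
    haveI := hM.fix_cyclic
    have hUfix : ∀ u ∈ U, Commute s u → u = 1 := by
      intro u hu hc
      by_contra h1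
      obtain ⟨k, hk⟩ := (Components.isPGroup_pCoreIn (p := q) O) ⟨u, hu.1⟩
      have hk' : u ^ q ^ k = 1 := congrArg Subtype.val hk
      obtain ⟨n, -, hn⟩ := (Nat.dvd_prime_pow hq).1 (orderOf_dvd_of_pow_eq_one hk')
      rcases n with _ | n
      · rw [pow_zero, orderOf_eq_one_iff] at hn; exact h1 hn
      have ho : orderOf (u ^ q ^ n) = q := by
        rw [orderOf_pow' u (pow_ne_zero _ hq.ne_zero), hn,
          Nat.gcd_eq_right (pow_dvd_pow q n.le_succ), pow_succ,
          Nat.mul_div_cancel_left _ (pow_pos hq.pos n)]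
      have hyz : y ∈ zpowers (u ^ q ^ n) :=
        mem_zpowers_of_cyclic (pow_mem (hfixE hu.1 hc) _) ho hy hyq
      exact hyU ((zpowers_le.2 (pow_mem hu _)) hyz)
    have hUinv : ∀ u ∈ U, s * u * s⁻¹ = u⁻¹ := by
      intro u hu
      obtain ⟨x, hx, f, hf, hxi, hfc, rfl⟩ := hPdec hUP hUs u hu
      rw [hUfix f hf hfc, mul_one]
      exact hxi
    set B₀ := P ⊓ centralizer (U : Set G) with hB₀
    have hB₀inv : ∀ i ∈ P, s * i * s⁻¹ = i⁻¹ → i ∈ B₀ := fun i hi hii =>
      ⟨hi, mem_centralizer_iff.2 fun u hu => (hinvU u hu (hUinv u hu) i hi hii).eq⟩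
    have hyB : ∀ e ∈ E, e ∈ P → (∀ u ∈ U, Commute u e) → e = 1 := by
      intro e he heP hec
      by_contra he1
      have hUT : ∀ u ∈ U, ∀ f ∈ E, Commute u f := fun u hu f hf =>
        torus_comm_fix hM
          (hM.mem_torus u (H62.GW.pCoreAt_le _ _ hu.1) (hUinv u hu) e he he1 (hec u hu)) hf
      have hUZ : ∀ u ∈ U, ∀ p ∈ P, Commute u p := by
        intro u hu p hp
        obtain ⟨x, hx, f, hf, hxi, hfc, rfl⟩ :=
          hPdec le_rfl (fun v hv => conj_pCore hM hv) p hp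
        exact (hinvU u hu (hUinv u hu) x hx hxi).mul_right (hUT u hu f (hfixE hf hfc))
      -- then `P` is abelian
      haveI : Finite ↥P := inferInstance
      obtain ⟨v, hv, hvc⟩ := hPne
      haveI : Nontrivial (↥P ⧸ center ↥P) := by
        refine QuotientGroup.nontrivial_iff.2 fun htop => hvc fun p hp => ?_
        exact (congrArg Subtype.val (mem_center_iff.1
          (htop ▸ mem_top (⟨v, hv⟩ : ↥P)) ⟨p, hp⟩)).symm
      haveI hnt := ((Components.isPGroup_pCoreIn (p := q) O).to_quotient (center ↥P)).center_nontrivial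
      obtain ⟨w', hw'⟩ := exists_ne (1 : ↥(center (↥P ⧸ center ↥P)))
      obtain ⟨w, hw⟩ := QuotientGroup.mk_surjective (w' : ↥P ⧸ center ↥P)
      have hwU : (w : G) ∈ U := by
        refine ⟨w.2, fun i hi j hj => ?_⟩
        have hcomm := mem_center_iff.1 w'.2 (QuotientGroup.mk (⟨i, hi⟩ : ↥P))
        rw [← hw, ← QuotientGroup.mk_mul, ← QuotientGroup.mk_mul, QuotientGroup.eq] at hcomm
        have hin : ⁅w, (⟨i, hi⟩ : ↥P)⁆ ∈ center ↥P := by
          rw [show ⁅w, (⟨i, hi⟩ : ↥P)⁆ =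
            (⟨i, hi⟩ * w) * ((⟨i, hi⟩ * w)⁻¹ * (w * ⟨i, hi⟩)) * (⟨i, hi⟩ * w)⁻¹ by
              simp [commutatorElement_def, mul_assoc]]
          exact (inferInstance : (center ↥P).Normal).conj_mem _ hcomm _
        exact (congrArg Subtype.val (mem_center_iff.1 hin ⟨j, hj⟩)).symm
      apply hw'
      refine Subtype.ext ?_
      rw [← hw, OneMemClass.coe_one, QuotientGroup.eq_one_iff, mem_center_iff]
      exact fun p => Subtype.ext (hUZ _ hwU p p.2).eq.symm
    have hB₀s : ∀ v ∈ B₀, s * v * s⁻¹ = v⁻¹ := by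
      intro v hv
      have hBs : ∀ v ∈ B₀, s * v * s⁻¹ ∈ B₀ := by
        rintro v ⟨hvP, hvU⟩
        refine ⟨conj_pCore hM hvP, mem_centralizer_iff.2 fun u hu => ?_⟩
        have h1 : s⁻¹ * u * s ∈ U := by simpa using hUconj s⁻¹ (inv_mem hsC) u hu
        have h2 : s⁻¹ * u * s * v = v * (s⁻¹ * u * s) := mem_centralizer_iff.1 hvU _ h1
        calc u * (s * v * s⁻¹) = s * (s⁻¹ * u * s * v) * s⁻¹ := by group
          _ = s * (v * (s⁻¹ * u * s)) * s⁻¹ := by rw [h2]
          _ = s * v * s⁻¹ * u := by group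
      obtain ⟨x, hx, f, hf, hxi, hfc, rfl⟩ := hPdec (A := B₀) inf_le_left hBs v hv
      rw [hyB f (hfixE hf.1 hfc) hf.1 (fun u hu => mem_centralizer_iff.1 hf.2 u hu), mul_one]
      exact hxi
    have hB₀n : ∀ g ∈ centralizer ({c ^ l} : Set G), ∀ v ∈ B₀, g * v * g⁻¹ ∈ B₀ := by
      rintro g hg v ⟨hvP, hvU⟩
      refine ⟨hconjP hg v hvP, mem_centralizer_iff.2 fun u hu => ?_⟩
      have h1 : g⁻¹ * u * g ∈ U := by simpa using hUconj g⁻¹ (inv_mem hg) u hu
      have h2 : g⁻¹ * u * g * v = v * (g⁻¹ * u * g) := mem_centralizer_iff.1 hvU _ h1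
      calc u * (g * v * g⁻¹) = g * (g⁻¹ * u * g * v) * g⁻¹ := by group
        _ = g * (v * (g⁻¹ * u * g)) * g⁻¹ := by rw [h2]
        _ = g * v * g⁻¹ * u := by group
    have hB₀n' : O ≤ normalizer (B₀ : Set G) := by
      intro g hg
      have hg' := H62.GW.coreAt_le _ hg
      refine mem_normalizer_iff.2 fun v => ⟨hB₀n g hg' v, fun h => ?_⟩
      have := hB₀n g⁻¹ (inv_mem hg') _ h
      simpa [mul_assoc] using this
    have hzB : z ∈ B₀ := hB₀inv z hzP (hM.torus_inverted z hzT)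
    have hfit : ∀ x ∈ O, s * x * s⁻¹ = x⁻¹ → x ∈ fitIn O := fun x hx hxi =>
      mem_fit_of_kernel hM hy hyo hzo hzT inf_le_left hB₀s hB₀n' hzB (fun o ho => by
        have hv : o * y * o⁻¹ ∈ P := conj_pCore' hM ho hyP
        exact hB₀inv _ (mul_mem (conj_pCore hM hv) (inv_mem hv))
          (H62.GW.conj_commutator_inverted (ss hM))) hone hx hxi
    have hm1 := mNum_eq_one hM hfit
    refine ⟨q, hq, hqE.trans (Subgroup.card_dvd_of_le fixPart_le), ⟨y, hy, hyo⟩, by omega,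
      Or.inr (Or.inr ⟨hm1, ?_⟩)⟩
    set R := fitIn O ⊓ torusPart (c ^ l) L with hR
    -- `r`-parts of elements of `R`
    have hRpart : ∀ k ∈ R, ∀ (r n i : ℕ), r.Prime → (k ^ i) ^ r ^ n = 1 →
        k ^ i ∈ pCoreIn r O ∧ (r = q → k ^ i ∈ B₀) := fun k hk r n i hr h => by
      haveI := Fact.mk hr
      have hm := H62.GW.mem_pCoreIn_of_fitIn (pow_mem hk.1 i) h
      exact ⟨hm, fun e => hB₀inv _ (show k ^ i ∈ pCoreIn q O from e ▸ hm) (hM.torus_inverted _ (pow_mem hk.2 i))⟩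
    let B : Subgroup G := B₀ ⊔ R
    have hBn : centralizer ({c ^ l} : Set G) ≤ normalizer (B : Set G) := by
      intro g hg
      have hh : ∀ a ∈ centralizer ({c ^ l} : Set G), ∀ v ∈ B, a * v * a⁻¹ ∈ B := by
        intro a ha v hv
        have : B ≤ B.comap (MulAut.conj a).toMonoidHom := by
          refine sup_le (fun v hv => mem_sup_left (hB₀n a ha v hv)) fun k hk => ?_
          refine mem_of_primePow (H := B.comap (MulAut.conj a).toMonoidHom) fun r n i hr h => ?_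
          haveI := Fact.mk hr
          show a * k ^ i * a⁻¹ ∈ B
          obtain ⟨hm, hm'⟩ := hRpart k hk r n i hr h
          by_cases hne : r = q
          · exact mem_sup_left (hB₀n a ha _ (hm' hne))
          · have hm2 := Coprime.conj_mem (H62.GW.centralizer_le_normalizer_pCoreAt _ r ha) hm
            exact mem_sup_right ⟨pCore_le_fit hm2, hone r hr hne hm2⟩
        exact this hv
      refine mem_normalizer_iff.2 fun v => ⟨hh g hg v, fun h => ?_⟩
      have := hh g⁻¹ (inv_mem hg) _ h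
      simpa [mul_assoc] using this
    have hBR : ∀ k ∈ R, ∀ b ∈ B₀, Commute k b := fun k hk b hb => by
      suffices k ∈ centralizer ({b} : Set G) from mem_centralizer_singleton_iff.1 this
      refine mem_of_primePow fun r n i hr h => mem_centralizer_singleton_iff.2 ?_
      obtain ⟨hm, hm'⟩ := hRpart k hk r n i hr h
      by_cases hne : r = q
      · exact (commute_inverted hM (H62.GW.pCoreAt_le _ _ hb.1) (hB₀s b hb)
          (hB₀s _ (hm' hne)) (hB₀s _ (hB₀n b (H62.GW.coreAt_le _ (H62.GW.pCoreAt_le _ _ hb.1)) _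
            (hm' hne)))).eq.symm
      · exact (hcross hr hne _ hm b hb.1).eq
    have hBinv : ∀ v ∈ B, s * v * s⁻¹ = v⁻¹ := by
      intro v hv
      rw [show (v ∈ B) = (v ∈ ((B₀ ⊔ R : Subgroup G) : Set G)) from rfl,
        coe_mul_of_left_le_normalizer_right B₀ R (fun b hb =>
          centralizer_le_normalizer _ (mem_centralizer_iff.2 fun k hk => (hBR k hk b hb).eq))] at hv
      obtain ⟨b, hb, k, hk, rfl⟩ := hv
      show s * (b * k) * s⁻¹ = (b * k)⁻¹
      rw [show s * (b * k) * s⁻¹ = (s * b * s⁻¹) * (s * k * s⁻¹) by group, hB₀s b hb,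
        hM.torus_inverted k hk.2, mul_inv_rev, ((hBR k hk b hb).symm.inv_inv).eq]
    have hBO : B ≤ O := sup_le (inf_le_left.trans (H62.GW.pCoreAt_le _ _)) (inf_le_left.trans fit_le)
    refine ⟨B, hBO, hBn, ?_, le_antisymm (sup_le hBO inf_le_left) ?_⟩
    · refine le_bot_iff.1 fun v hv => mem_bot.2 ?_
      exact eq_one_of_fixed_inverted (odd_of_core hM (hBO hv.1)) (hBinv v hv.1)
        (mem_centralizer_singleton_iff.1 hv.2.2).symm
    · intro o ho
      obtain ⟨x, hx, f, hf, hxi, hfc, rfl⟩ :=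
        exists_decomp (ss hM) (H62.GW.odd_coreAt _) (fun v hv => conj_core hM hv) ho
      refine mul_mem (mem_sup_left ?_)
        (mem_sup_right ⟨hf, mem_centralizer_singleton_iff.2 hfc.eq.symm⟩)
      refine mem_of_primePow fun r n i hr h => ?_
      haveI := Fact.mk hr
      have hm := H62.GW.mem_pCoreIn_of_fitIn (pow_mem (hfit x hx hxi) i) h
      by_cases hne : r = q
      · refine mem_sup_left (hB₀inv _ (show x ^ i ∈ pCoreIn q O from hne ▸ hm) ?_)
        rw [← conj_pow, hxi, inv_pow]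
      · exact mem_sup_right ⟨pCore_le_fit hm, hone r hr hne hm⟩

end Cfsg.Agent.H77.GW.Bound
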