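import Cfsg.Agent.H77.GW.FittingMain
import Cfsg.Agent.H36.GW.Step

/-!
# GW programme: `FittingStep`
-/

set_option autoImplicit false

namespace Cfsg.Agent.H77.GW

universe u

/-- **FittingStep**, unconditionally. -/
theorem fittingStep_all {G : Type u} [Group G] [Finite G] : GW.FittingStep (G := G) :=
  fittingStep H36.GW.layerStep

end Cfsg.Agent.H77.GW
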