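import Cfsg.Agent.H77.GW.Unique

/-!
# GW programme, case (N): lemma L0

`M` is a maximal subgroup over `C(t)` with two primes and with a maximal set of primes `r` for
which `t` moves `O_r(M)`.  A maximal subgroup over `C(t)` and `F(M)` equals `M`; hence
`C([O_r(M), t]) ≤ M` for these primes.
-/

set_option autoImplicit false
set_option linter.style.haveILetI false
set_option linter.unusedSectionVars false

namespace Cfsg.Agent.H77.GW

open Subgroup
open Cfsg.Agent.Components (pCoreIn isPGroup_pCoreIn gFitIn fitIn)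
open scoped commutatorElement

variable {G : Type*} [Group G] [Finite G]

/-- `t` moves `O_r(M)`. -/
def Moves (t : G) (M : Subgroup G) (r : ℕ) : Prop :=
  ¬ pCoreIn r M ≤ centralizer ({t} : Set G)

/-- No maximal subgroup over `C(t)` has strictly more moved primes than `M`. -/
def MovedMax (t : G) (M : Subgroup G) : Prop :=
  ∀ X : Subgroup G, IsCoatom X → centralizer ({t} : Set G) ≤ X →
    (∀ r : ℕ, r.Prime → Moves t M r → Moves t X r) → ∀ r : ℕ, r.Prime → Moves t X r → Moves t M r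

theorem gFitIn_le_of_cores {K L : Subgroup G} (hE : Cfsg.layer K = ⊥)
    (h : ∀ r : ℕ, r.Prime → pCoreIn r K ≤ L) : gFitIn K ≤ L := by
  rw [Components.gFitIn, Components.genFitting_eq_sup, hE, bot_sup_eq,
    Components.fitting_eq_iSup_pCore, Subgroup.map_iSup]
  exact iSup_le fun r => h _ (Nat.prime_of_mem_primeFactors r.2)

/-- `[K, t]` centralises what `K` normalises and `t` centralises. -/
theorem commutator_le_centralizer_of_fixes {t : G} {P K : Subgroup G}
    (hfix : P ≤ centralizer ({t} : Set G)) (hK : K ≤ normalizer (P : Set G)) :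
    ⁅K, zpowers t⁆ ≤ centralizer (P : Set G) := by
  rw [commutator_le]
  intro f hf g hg
  obtain ⟨k, rfl⟩ := mem_zpowers_iff.1 hg
  intro v hv
  have h1 : ∀ w ∈ P, t ^ k * w = w * t ^ k := fun w hw =>
    ((show Commute w t from mem_centralizer_singleton_iff.1 (hfix hw)).zpow_right k).eq.symm
  have h2 : t ^ k * (f⁻¹ * v * f) * (t ^ k)⁻¹ = f⁻¹ * v * f := by
    rw [h1 _ (Coprime.conj_mem' (hK hf) hv), mul_inv_cancel_right]
  have h3 : (t ^ k)⁻¹ * v * t ^ k = v := by
    rw [mul_assoc, ← h1 v hv, inv_mul_cancel_left]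
  have key : ⁅f, t ^ k⁆ * v * ⁅f, t ^ k⁆⁻¹ = v := by
    calc ⁅f, t ^ k⁆ * v * ⁅f, t ^ k⁆⁻¹
        = f * (t ^ k * (f⁻¹ * ((t ^ k)⁻¹ * v * t ^ k) * f) * (t ^ k)⁻¹) * f⁻¹ := by
          simp [commutatorElement_def, mul_assoc]
      _ = v := by rw [h3, h2]; simp [mul_assoc]
  exact (mul_inv_eq_iff_eq_mul.mp key).symm

/-- An involution commuting with `[f, t]`, of odd order, commutes with `f`. -/
theorem commute_of_commute_commutator {t f : G} (htt : t * t = 1) {r : ℕ} [Fact r.Prime]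
    (hr : r ≠ 2) {P : Subgroup G} (hP : IsPGroup r P) (hy : ⁅f, t⁆ ∈ P)
    (h : ⁅f, t⁆ * t = t * ⁅f, t⁆) : Commute f t := by
  have ht : t⁻¹ = t := inv_eq_of_mul_eq_one_right htt
  have h2 : t * ⁅f, t⁆ * t⁻¹ = ⁅f, t⁆⁻¹ := by simp [commutatorElement_def, mul_assoc, ht, htt]
  have h3 : t * ⁅f, t⁆ * t⁻¹ = ⁅f, t⁆ := by rw [← h, mul_inv_cancel_right]
  have h4 : ⁅f, t⁆ ^ 2 = 1 := by
    rw [sq]
    nth_rewrite 1 [← h3]
    rw [h2, inv_mul_cancel]
  obtain ⟨a, ha⟩ := hP ⟨_, hy⟩
  have ho := Nat.dvd_gcd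
    (orderOf_dvd_of_pow_eq_one (by simpa using congrArg Subtype.val ha) : orderOf ⁅f, t⁆ ∣ r ^ a)
    (orderOf_dvd_of_pow_eq_one h4)
  rw [((Nat.coprime_primes Fact.out Nat.prime_two).mpr hr).pow_left a] at ho
  exact commutatorElement_eq_one_iff_commute.1 (orderOf_eq_one_iff.1 (Nat.dvd_one.1 ho))

/-- A moved prime stays moved in a component-free `X` over `C(t)` and `F(M)`. -/
theorem moves_of_moves {M X : Subgroup G} {t : G} (htt : t * t = 1) (htM : t ∈ M) (htX : t ∈ X)
    (hEX : Cfsg.layer X = ⊥) (hCt : centralizer ({t} : Set G) ≤ M) {r : ℕ} [Fact r.Prime]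
    (hr : r ≠ 2) (hFX : pCoreIn r M ≤ X)
    (hin : ∀ q : ℕ, q.Prime → pCoreIn q M ≠ ⊥ → pCoreIn q X ≤ M)
    (hout : ∀ q : ℕ, q.Prime → pCoreIn q M = ⊥ → pCoreIn q X ⊓ M = ⊥)
    (h : Moves t M r) : Moves t X r := by
  intro hfix
  set K := ⁅pCoreIn r M, zpowers t⁆ with hK
  have hKF : K ≤ pCoreIn r M := Subgroup.le_normalizer_iff_commutator_le_left.mp
    (zpowers_le.2 (le_normalizer_pCoreIn M htM))
  have hnX : ∀ q : ℕ, pCoreIn r M ≤ normalizer (pCoreIn q X : Set G) := fun q =>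
    hFX.trans (le_normalizer_pCoreIn X)
  have hKC : ∀ q : ℕ, q.Prime → K ≤ centralizer (pCoreIn q X : Set G) := by
    intro q hq
    haveI := Fact.mk hq
    by_cases hqr : q = r
    · subst hqr
      exact commutator_le_centralizer_of_fixes hfix (hnX q)
    by_cases hb : pCoreIn q M = ⊥
    · have hinv := inverts_of_fpf htt (le_normalizer_pCoreIn X htX) fun v hv hc =>
        (mem_bot (G := G)).1
          ((hout q hq hb).le ⟨hv, hCt (mem_centralizer_singleton_iff.2 hc.eq.symm)⟩)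
      exact commutator_le_centralizer_of_inverts htt hinv (hnX q)
    · intro y hy v hv
      exact (commute_cross (Ne.symm hqr) (hKF hy) (hFX (hKF hy)) hv (hin q hq hb hv)).eq.symm
  have hKX : K ≤ X := hKF.trans hFX
  have hKgen : K.subgroupOf X ≤ Cfsg.fittingSubgroup X := by
    have h1 : K.subgroupOf X ≤ centralizer (Cfsg.generalizedFittingSubgroup X : Set X) := by
      rw [le_centralizer_iff, Components.genFitting_eq_sup, hEX, bot_sup_eq,
        Components.fitting_eq_iSup_pCore]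
      refine iSup_le fun q a ha y hy => ?_
      refine Subtype.ext ?_
      exact (mem_centralizer_iff.1 (hKC q (Nat.prime_of_mem_primeFactors q.2) hy) _
        ⟨a, ha, rfl⟩).symm
    refine h1.trans (Components.centralizer_genFitting_le.trans ?_)
    rw [Components.genFitting_eq_sup, hEX, bot_sup_eq]
  have hKr : K.subgroupOf X ≤ Cfsg.pCore r X :=
    Components.le_pCore_of_le_fitting ((isPGroup_pCoreIn (p := r) M).to_le hKF |>.comap_subtype)
      hKgen
  have hKt : K ≤ centralizer ({t} : Set G) := fun y hy =>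
    hfix ⟨⟨y, hKX hy⟩, hKr hy, rfl⟩
  refine h fun f hf => ?_
  have hy : ⁅f, t⁆ ∈ K := commutator_mem_commutator hf (mem_zpowers t)
  exact mem_centralizer_singleton_iff.2 (commute_of_commute_commutator htt hr (isPGroup_pCoreIn M)
    (hKF hy) (mem_centralizer_singleton_iff.1 (hKt hy))).eq

/-- **L0.** A component-free maximal subgroup over `C(t)` and `F(M)` is `M`. -/
theorem eq_of_over_fit [IsSimpleGroup G] {M X : Subgroup G} (hM : IsCoatom M) (hX : IsCoatom X)
    (hEM : Cfsg.layer M = ⊥) (hEX : Cfsg.layer X = ⊥) {t : G} (htt : t * t = 1)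
    (hCt : centralizer ({t} : Set G) ≤ M) (hCtX : centralizer ({t} : Set G) ≤ X)
    (hFX : ∀ r : ℕ, r.Prime → pCoreIn r M ≤ X)
    (hodd : ∀ r : ℕ, r.Prime → pCoreIn r M ≠ ⊥ → r ≠ 2)
    (htwo : ∀ p : ℕ, ∃ q : ℕ, q.Prime ∧ q ≠ p ∧ pCoreIn q M ≠ ⊥)
    (hmax : MovedMax t M) : X = M := by
  have hQN : gFitIn M ⊓ normalizer (fitIn M : Set G) ≤ X :=
    inf_le_left.trans (gFitIn_le_of_cores hEM hFX)
  have hcore : ∀ {r : ℕ}, pCoreIn r M ≠ ⊥ → Cfsg.pCore r M ≠ ⊥ := fun h h' =>
    h (by rw [pCoreIn, h', Subgroup.map_bot])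
  have hin : ∀ q : ℕ, q.Prime → pCoreIn q M ≠ ⊥ → pCoreIn q X ≤ M := by
    intro q hq hb
    haveI := Fact.mk hq
    obtain ⟨l, hl, hlq, hlne⟩ := htwo q
    haveI := Fact.mk hl
    exact Components.pCoreIn_le_of_two_primes (fun A a b c => normalizer_eq_of_coatom hM a b c)
      (le_refl (fitIn M)) hQN (hcore hb) hlq (hcore hlne)
  have hout : ∀ q : ℕ, q.Prime → pCoreIn q M = ⊥ → pCoreIn q X ⊓ M = ⊥ := by
    intro q hq hb
    haveI := Fact.mk hq
    exact Components.pCoreIn_inf_eq_bot (le_refl (fitIn M)) hQN fun h =>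
      Components.pCore_ne_bot_iff.mpr h ((map_eq_bot_iff_of_injective _ M.subtype_injective).mp hb)
  have htM : t ∈ M := hCt (mem_centralizer_singleton_iff.2 rfl)
  have htX : t ∈ X := hCtX (mem_centralizer_singleton_iff.2 rfl)
  have hgrow : ∀ r : ℕ, r.Prime → Moves t M r → Moves t X r := by
    intro r hr h
    haveI := Fact.mk hr
    exact moves_of_moves htt htM htX hEX hCt (hodd r hr fun h' => h (h' ▸ bot_le)) (hFX r hr)
      hin hout h
  have hXM : ∀ q : ℕ, q.Prime → pCoreIn q X ≤ M := by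
    intro q hq
    by_cases hb : pCoreIn q M = ⊥
    · by_cases hm : Moves t X q
      · exact absurd (hb ▸ bot_le) (hmax X hX hCtX hgrow q hq hm)
      · exact (not_not.1 hm).trans hCt
    · exact hin q hq hb
  obtain ⟨q, hq, -, hqne⟩ := htwo 0
  obtain ⟨r, hr, hrq, hrne⟩ := htwo q
  haveI := Fact.mk hq
  haveI := Fact.mk hr
  exact eq_of_fit_le hX hM hEX hEM hXM hFX (Ne.symm hrq) hqne hrne

/-- **Consequence of L0.** `C([O_r(M), t]) ≤ M` for a moved prime `r`. -/
theorem centralizer_commutator_le [IsSimpleGroup G] {M : Subgroup G} (hM : IsCoatom M)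
    (hEM : Cfsg.layer M = ⊥) {t : G} (htt : t * t = 1)
    (hCt : centralizer ({t} : Set G) ≤ M)
    (hodd : ∀ r : ℕ, r.Prime → pCoreIn r M ≠ ⊥ → r ≠ 2)
    (htwo : ∀ p : ℕ, ∃ q : ℕ, q.Prime ∧ q ≠ p ∧ pCoreIn q M ≠ ⊥)
    (hmax : MovedMax t M)
    (hLay : ∀ X : Subgroup G, IsCoatom X → centralizer ({t} : Set G) ≤ X →
      (∀ r : ℕ, r.Prime → pCoreIn r M ≤ X) → Cfsg.layer X = ⊥)
    {r : ℕ} [Fact r.Prime] (h : Moves t M r) :
    centralizer ((⁅pCoreIn r M, zpowers t⁆ : Subgroup G) : Set G) ≤ M := by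
  set K := ⁅pCoreIn r M, zpowers t⁆ with hK
  have htM : t ∈ M := hCt (mem_centralizer_singleton_iff.2 rfl)
  have hKF : K ≤ pCoreIn r M := Subgroup.le_normalizer_iff_commutator_le_left.mp
    (zpowers_le.2 (le_normalizer_pCoreIn M htM))
  have hKne : K ≠ ⊥ := fun hb => h fun f hf => mem_centralizer_singleton_iff.2
    (commutatorElement_eq_one_iff_mul_comm.1 ((mem_bot (G := G)).1
      (hb.le (commutator_mem_commutator hf (mem_zpowers t)))))
  have hn : normalizer (K : Set G) ≠ ⊤ := by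
    intro htop
    haveI : K.Normal := normalizer_eq_top_iff.mp htop
    rcases IsSimpleGroup.eq_bot_or_eq_top_of_normal K inferInstance with h' | h'
    · exact hKne h'
    · exact hM.1 (top_le_iff.mp (h' ▸ hKF.trans (pCoreIn_le_self M)))
  have hCtK : centralizer ({t} : Set G) ≤ normalizer (K : Set G) := by
    intro c hc
    refine Coprime.mem_normalizer_of_map_conj ?_
    rw [hK, Subgroup.map_commutator,
      Coprime.map_conj_eq (le_normalizer_pCoreIn M (hCt hc)),
      MonoidHom.map_zpowers]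
    have h1 : (MulAut.conj c).toMonoidHom t = t := by
      show c * t * c⁻¹ = t
      rw [mem_centralizer_singleton_iff.1 hc, mul_inv_cancel_right]
    rw [h1]
  have hFK : ∀ q : ℕ, q.Prime → pCoreIn q M ≤ normalizer (K : Set G) := by
    intro q hq
    haveI := Fact.mk hq
    by_cases hqr : q = r
    · subst hqr
      exact Subgroup.normalizer_commutator_ge_left _ _
    intro v hv
    refine centralizer_le_normalizer _ ?_
    intro y hy
    exact (commute_cross (Ne.symm hqr) (hKF hy) (pCoreIn_le_self M (hKF hy)) hv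
      (pCoreIn_le_self M hv)).eq
  obtain ⟨X, hX, hXle⟩ := (eq_top_or_exists_le_coatom _).resolve_left hn
  have hEX := hLay X hX (hCtK.trans hXle) fun q hq => (hFK q hq).trans hXle
  rw [← eq_of_over_fit hM hX hEM hEX htt hCt (hCtK.trans hXle)
    (fun q hq => (hFK q hq).trans hXle) hodd htwo hmax]
  exact (centralizer_le_normalizer _).trans hXle

end Cfsg.Agent.H77.GW
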