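import Cfsg.Agent.H77.GW.Fsingle
import Cfsg.Agent.Coprime.Generation

/-!
# GW programme, case (N): auxiliary facts on members
-/

set_option autoImplicit false
set_option linter.style.haveILetI false
set_option linter.unusedSectionVars false

namespace Cfsg.Agent.H77.GW

open Subgroup
open Cfsg.Agent.Components (pCoreIn isPGroup_pCoreIn)

variable {G : Type*} [Group G] [Finite G]

theorem pCoreIn_map_equiv (φ : MulAut G) (r : ℕ) (M : Subgroup G) :
    (pCoreIn r M).map φ.toMonoidHom = pCoreIn r (M.map φ.toMonoidHom) := by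
  set N : Subgroup G := M.map φ.toMonoidHom with hN
  let e : M ≃* N := φ.subgroupMap M
  have h : (Cfsg.pCore r M).map e.toMonoidHom = Cfsg.pCore r N := Cores.pCore_map_mulEquiv e
  show ((Cfsg.pCore r M).map M.subtype).map φ.toMonoidHom = (Cfsg.pCore r N).map N.subtype
  rw [← h, Subgroup.map_map, Subgroup.map_map]
  rfl

theorem layer_map_eq_bot (φ : MulAut G) {M : Subgroup G} (h : Cfsg.layer M = ⊥) :
    Cfsg.layer (M.map φ.toMonoidHom) = ⊥ := by
  have h1 := Components.map_layer_equiv (φ.subgroupMap M)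
  rw [h, Subgroup.map_bot] at h1
  exact h1.symm

theorem eigen_mul {t s c : G} (h : Eigen t s c) : Eigen t (t * s) c := by
  refine ⟨h.1, ?_⟩
  rw [show t * s * c * (t * s)⁻¹ = t * (s * c * s⁻¹) * t⁻¹ by group]
  rcases h.2 with h2 | h2 <;> rw [h2]
  · exact h.1
  · rw [show t * c⁻¹ * t⁻¹ = (t * c * t⁻¹)⁻¹ by group]
    rcases h.1 with h1 | h1 <;> rw [h1]
    · exact Or.inr rfl
    · exact Or.inl (inv_inv c)

/-- The four group `{1, t, s, ts}`. -/
def fourSub {t s : G} (htt : t * t = 1) (hss : s * s = 1) (hts : Commute t s) : Subgroup G where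
  carrier := {a | a = 1 ∨ a = t ∨ a = s ∨ a = t * s}
  one_mem' := Or.inl rfl
  inv_mem' := by
    intro a ha
    have ht : t⁻¹ = t := inv_eq_of_mul_eq_one_right htt
    have hs : s⁻¹ = s := inv_eq_of_mul_eq_one_right hss
    simp only [Set.mem_ofPred_eq] at ha ⊢
    rcases ha with rfl | rfl | rfl | rfl
    · simp
    · simp [ht]
    · simp [hs]
    · simp [ht, hs, hts.eq]
  mul_mem' := by
    intro a b ha hb
    have h1 : s * t = t * s := hts.eq.symm
    have h2 : s * (t * s) = t := by rw [← mul_assoc, h1, mul_assoc, hss, mul_one]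
    have h3 : t * s * s = t := by rw [mul_assoc, hss, mul_one]
    have h4 : t * s * t = s := by rw [mul_assoc, h1, ← mul_assoc, htt, one_mul]
    have h5 : t * (t * s) = s := by rw [← mul_assoc, htt, one_mul]
    have h6 : t * s * (t * s) = 1 := by rw [mul_assoc, h2, htt]
    simp only [Set.mem_ofPred_eq] at ha hb ⊢
    rcases ha with ha | ha | ha | ha <;> rcases hb with hb | hb | hb | hb <;> subst a <;> subst b <;>
      simp [htt, hss, h1, h2, h3, h4, h5, h6]

/-- If `t` moves `O_p(M)`, some element of it inverted by `t` is centralised by `s` or by `ts`. -/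
theorem exists_exchange {p : ℕ} [Fact p.Prime] (hp : p ≠ 2) {M : Subgroup G} {t s : G}
    (htt : t * t = 1) (hss : s * s = 1) (hts : Commute t s) (ht1 : t ≠ 1) (hs1 : s ≠ 1)
    (hne : t ≠ s) (htM : t ∈ M) (hsM : s ∈ M)
    (hmove : ¬ pCoreIn p M ≤ centralizer ({t} : Set G)) :
    ∃ x ∈ pCoreIn p M, x ≠ 1 ∧ t * x * t⁻¹ = x⁻¹ ∧ (Commute s x ∨ Commute (t * s) x) := by
  by_contra hno
  push Not at hno
  refine hmove ?_
  have ht : t⁻¹ = t := inv_eq_of_mul_eq_one_right htt
  set A := fourSub htt hss hts with hA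
  have htA : t ∈ A := Or.inr (Or.inl rfl)
  have hsA : s ∈ A := Or.inr (Or.inr (Or.inl rfl))
  haveI : IsMulCommutative A := ⟨⟨fun a b => Subtype.ext (by
    have hc : ∀ c ∈ A, Commute t c ∧ Commute s c := fun c hc => by
      rcases hc with rfl | rfl | rfl | rfl
      · exact ⟨Commute.one_right _, Commute.one_right _⟩
      · exact ⟨Commute.refl _, hts.symm⟩
      · exact ⟨hts, Commute.refl _⟩
      · exact ⟨(Commute.refl t).mul_right hts, hts.symm.mul_right (Commute.refl s)⟩
    rcases a.2 with h | h | h | h <;> show (a : G) * b = b * a <;> rw [h]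
    · simp
    · exact (hc b b.2).1
    · exact (hc b b.2).2
    · exact ((hc b b.2).1.mul_left (hc b b.2).2))⟩⟩
  have hexp : ∀ a : A, a * a = 1 := by
    rintro ⟨a, ha⟩
    refine Subtype.ext ?_
    show a * a = 1
    rcases ha with rfl | rfl | rfl | rfl
    · simp
    · exact htt
    · exact hss
    · rw [hts.symm.mul_mul_mul_comm, htt, hss, one_mul]
  have hnc : ¬ IsCyclic A := by
    rintro ⟨a, ha⟩
    have hz : ∀ b : A, b = 1 ∨ b = a := by
      intro b
      obtain ⟨k, rfl⟩ := mem_zpowers_iff.1 (ha b)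
      have h2 : a ^ (2 : ℤ) = 1 := by rw [zpow_two, hexp]
      rcases Int.emod_two_eq k with h | h
      · exact Or.inl (by rw [← Int.mul_ediv_add_emod k 2, zpow_add, zpow_mul, h2, h]; simp)
      · exact Or.inr (by rw [← Int.mul_ediv_add_emod k 2, zpow_add, zpow_mul, h2, h]; simp)
    rcases hz ⟨t, htA⟩ with h | h
    · exact ht1 (congrArg Subtype.val h)
    rcases hz ⟨s, hsA⟩ with h' | h'
    · exact hs1 (congrArg Subtype.val h')
    · exact hne (congrArg Subtype.val (h.trans h'.symm))
  have hA2 : IsPGroup 2 A := fun a => ⟨1, by rw [pow_one, sq]; exact hexp a⟩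
  obtain ⟨i, hi⟩ := IsPGroup.iff_card.mp hA2
  obtain ⟨j, hj⟩ := IsPGroup.iff_card.mp (isPGroup_pCoreIn (p := p) M)
  have hcop : (Nat.card A).Coprime (Nat.card (pCoreIn p M)) := by
    rw [hi, hj]
    exact ((Nat.coprime_primes Nat.prime_two Fact.out).mpr (Ne.symm hp)).pow _ _
  have hAM : A ≤ M := by
    rintro a (rfl | rfl | rfl | rfl)
    exacts [one_mem _, htM, hsM, mul_mem htM hsM]
  have hkey : ∀ a : G, (a = s ∨ a = t * s) → ∀ v ∈ pCoreIn p M, Commute a v → Commute t v := by
    intro a ha v hv hav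
    by_contra hc
    have hw : v⁻¹ * (t * v * t⁻¹) ∈ pCoreIn p M :=
      mul_mem (inv_mem hv) (Coprime.conj_mem (le_normalizer_pCoreIn M htM) hv)
    have hat : Commute a t := by
      rcases ha with rfl | rfl
      · exact hts.symm
      · exact (Commute.refl t).mul_left hts.symm
    have hcw : Commute a (v⁻¹ * (t * v * t⁻¹)) :=
      hav.inv_right.mul_right ((hat.mul_right hav).mul_right hat.inv_right)
    have hne1 : v⁻¹ * (t * v * t⁻¹) ≠ 1 := fun h =>
      hc (mul_inv_eq_iff_eq_mul.mp (inv_mul_eq_one.1 h).symm)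
    have := hno _ hw hne1 (by simp [mul_assoc, ht, htt])
    rcases ha with rfl | rfl
    · exact this.1 hcw
    · exact this.2 hcw
  refine le_trans (Coprime.le_of_centralizer_noncyclic_le hnc (hAM.trans (le_normalizer_pCoreIn M))
    hcop (M := centralizer ({t} : Set G)) ?_) le_rfl
  rintro a (rfl | rfl | rfl | rfl) ha1 v ⟨hv, hva⟩
  · exact absurd rfl ha1
  · exact hva
  · exact mem_centralizer_singleton_iff.2
      (hkey _ (Or.inl rfl) v hv (mem_centralizer_singleton_iff.1 hva).symm).eq.symm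
  · exact mem_centralizer_singleton_iff.2
      (hkey _ (Or.inr rfl) v hv (mem_centralizer_singleton_iff.1 hva).symm).eq.symm

end Cfsg.Agent.H77.GW
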