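import Cfsg.Agent.H77.GW.BoundBasics

/-!
# GW, mixed case: the kernel argument and the orbit count
-/

set_option autoImplicit false
set_option linter.unusedSectionVars false

namespace Cfsg.Agent.H77.GW.Bound

open Subgroup Cfsg.Agent
open Cfsg.Agent.GW (coreAt pairCore)
open Cfsg.Agent.Components (pCoreIn fitIn)
open Cfsg.Agent.H62.GW (fixPart torusPart MixedData)

universe u

variable {G : Type u} [Group G] [Finite G] {S : Sylow 2 G} {l : ℕ} {c s : G} {L : Subgroup G}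
  (hM : MixedData S l c s L)
include hM

theorem fixPart_le_pCore {q : ℕ} [Fact q.Prime]
    (hone : ∀ r : ℕ, r.Prime → r ≠ q → pCoreIn r (coreAt (c ^ l)) ≤ torusPart (c ^ l) L) :
    fixPart (c ^ l) s ≤ pCoreIn q (coreAt (c ^ l)) := by
  intro e he
  refine mem_of_primePow fun r k i hr h => ?_
  haveI := Fact.mk hr
  have hm := H62.GW.mem_pCoreIn_of_fitIn (fixPart_le (pow_mem he i)) h
  by_cases hrq : r = q
  · exact hrq ▸ hm
  · rw [torus_inf_fix hM (hone r hr hrq hm) (fixPart_fixed (pow_mem he i))]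
    exact one_mem _

theorem commute_inverted {x u : G} (hx : x ∈ coreAt (c ^ l)) (hxi : s * x * s⁻¹ = x⁻¹)
    (hu : s * u * s⁻¹ = u⁻¹) (hw : s * (x * u * x⁻¹) * s⁻¹ = (x * u * x⁻¹)⁻¹) : Commute x u := by
  refine H62.GW.commute_of_sq (odd_of_core hM hx) ?_
  have h2 : x⁻¹ * u⁻¹ * x = x * u⁻¹ * x⁻¹ := by
    calc x⁻¹ * u⁻¹ * x = (s * x * s⁻¹) * (s * u * s⁻¹) * (s * x * s⁻¹)⁻¹ := by
          rw [hxi, hu, inv_inv]
      _ = s * (x * u * x⁻¹) * s⁻¹ := by group
      _ = x * u⁻¹ * x⁻¹ := by rw [hw]; group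
  have h3 : x⁻¹ * u * x = x * u * x⁻¹ := by
    have := congrArg (·⁻¹) h2
    simpa [mul_assoc] using this
  calc x * x * u = x * (x * u * x⁻¹) * x := by group
    _ = x * (x⁻¹ * u * x) * x := by rw [h3]
    _ = u * (x * x) := by group

/-- **Kernel.** An inverted element stabilising the series `1 ≤ J` under `y` lies in `F`. -/
theorem mem_fit_of_kernel {q : ℕ} [hq : Fact q.Prime] {y z : G} (hy : y ∈ fixPart (c ^ l) s)
    (hyo : orderOf y = q) (hzo : orderOf z = q) (hzT : z ∈ torusPart (c ^ l) L) {J : Subgroup G}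
    (hJP : J ≤ pCoreIn q (coreAt (c ^ l))) (hJi : ∀ u ∈ J, s * u * s⁻¹ = u⁻¹)
    (hJn : coreAt (c ^ l) ≤ normalizer (J : Set G)) (hzJ : z ∈ J)
    (hd : ∀ o ∈ coreAt (c ^ l), s * (o * y * o⁻¹) * s⁻¹ * (o * y * o⁻¹)⁻¹ ∈ J)
    (hone : ∀ r : ℕ, r.Prime → r ≠ q → pCoreIn r (coreAt (c ^ l)) ≤ torusPart (c ^ l) L)
    {x : G} (hx : x ∈ coreAt (c ^ l)) (hxi : s * x * s⁻¹ = x⁻¹) : x ∈ fitIn (coreAt (c ^ l)) := by
  set O := coreAt (c ^ l)
  have hyO : y ∈ O := fixPart_le_core hy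
  have hy' : ∀ o ∈ O, o * y * o⁻¹ ∈ O := fun o ho => mul_mem (mul_mem ho hyO) (inv_mem ho)
  have hJc : ∀ o ∈ O, ∀ u ∈ J, o * u * o⁻¹ ∈ J := fun o ho u hu => Coprime.conj_mem (hJn ho) hu
  let K : Subgroup G :=
    { carrier := {o | o ∈ O ∧ (∀ u ∈ J, Commute o u) ∧
        (∀ r : ℕ, r.Prime → r ≠ q → ∀ v ∈ pCoreIn r O, Commute o v) ∧
        ∀ g ∈ O, o * (g * y * g⁻¹) * o⁻¹ * (g * y * g⁻¹)⁻¹ ∈ J}
      one_mem' := ⟨one_mem O, fun u _ => Commute.one_left u, fun _ _ _ v _ => Commute.one_left v,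
        fun g _ => by
          rw [one_mul, inv_one, mul_one, mul_inv_cancel]
          exact one_mem J⟩
      mul_mem' := by
        rintro a b ⟨ha, ha1, ha2, ha3⟩ ⟨hb, hb1, hb2, hb3⟩
        refine ⟨mul_mem ha hb, fun u hu => (ha1 u hu).mul_left (hb1 u hu),
          fun r hr hne v hv => (ha2 r hr hne v hv).mul_left (hb2 r hr hne v hv), fun g hg => ?_⟩
        rw [show a * b * (g * y * g⁻¹) * (a * b)⁻¹ * (g * y * g⁻¹)⁻¹ =
          a * (b * (g * y * g⁻¹) * b⁻¹ * (g * y * g⁻¹)⁻¹) * a⁻¹ *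
            (a * (g * y * g⁻¹) * a⁻¹ * (g * y * g⁻¹)⁻¹) by group]
        exact mul_mem (hJc a ha _ (hb3 g hg)) (ha3 g hg)
      inv_mem' := by
        rintro a ⟨ha, ha1, ha2, ha3⟩
        refine ⟨inv_mem ha, fun u hu => (ha1 u hu).inv_left,
          fun r hr hne v hv => (ha2 r hr hne v hv).inv_left, fun g hg => ?_⟩
        rw [show a⁻¹ * (g * y * g⁻¹) * a⁻¹⁻¹ * (g * y * g⁻¹)⁻¹ =
          a⁻¹ * (a * (g * y * g⁻¹) * a⁻¹ * (g * y * g⁻¹)⁻¹)⁻¹ * a⁻¹⁻¹ by group]
        exact hJc a⁻¹ (inv_mem ha) _ (inv_mem (ha3 g hg)) }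
  have hKO : K ≤ O := fun o ho => ho.1
  -- `x` lies in `K`
  have hxc : ∀ u ∈ J, Commute x u := fun u hu =>
    commute_inverted hM hx hxi (hJi u hu) (hJi _ (hJc x hx u hu))
  have hxK : x ∈ K := by
    obtain ⟨m, hm⟩ := H62.GW.sq_pow_self (odd_of_core hM hx)
    have hx2 : x * x ∈ K := by
      refine ⟨mul_mem hx hx, fun u hu => (hxc u hu).mul_left (hxc u hu), fun r hr hne v hv => ?_,
        fun g hg => ?_⟩
      · have hvT := hone r hr hne hv
        have := commute_inverted hM hx hxi (hM.torus_inverted v hvT)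
          (hM.torus_inverted _ (hone r hr hne (conj_pCore' hM hx hv)))
        exact this.mul_left this
      · have hd1 := hd g hg
        have hd2 := hd (x * g) (mul_mem hx hg)
        rw [show x * g * y * (x * g)⁻¹ = x * (g * y * g⁻¹) * x⁻¹ by group] at hd2
        set y' := g * y * g⁻¹
        have e1 : s * (x * y' * x⁻¹) * s⁻¹ = x⁻¹ * (s * y' * s⁻¹) * x := by
          calc s * (x * y' * x⁻¹) * s⁻¹ = (s * x * s⁻¹) * (s * y' * s⁻¹) * (s * x * s⁻¹)⁻¹ := by
                group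
            _ = x⁻¹ * (s * y' * s⁻¹) * x := by rw [hxi, inv_inv]
        rw [e1] at hd2
        set d := s * y' * s⁻¹ * y'⁻¹ with hdd
        have hsy : s * y' * s⁻¹ = d * y' := by rw [hdd, inv_mul_cancel_right]
        rw [hsy] at hd2
        have h4 : d⁻¹ * (x⁻¹ * (d * y') * x * (x * y' * x⁻¹)⁻¹) ∈ J := mul_mem (inv_mem hd1) hd2
        have hxd : x⁻¹ * d = d * x⁻¹ := ((hxc d hd1).inv_left).eq
        rw [show d⁻¹ * (x⁻¹ * (d * y') * x * (x * y' * x⁻¹)⁻¹) =
          d⁻¹ * (x⁻¹ * d) * (y' * x * (x * y' * x⁻¹)⁻¹) by group, hxd,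
          show d⁻¹ * (d * x⁻¹) * (y' * x * (x * y' * x⁻¹)⁻¹) =
            x⁻¹ * (y' * (x * x * y' * (x * x)⁻¹)⁻¹) * x⁻¹⁻¹ by
              simp [mul_assoc]] at h4
        have h5 := hJc x hx _ h4
        rw [show x * (x⁻¹ * (y' * (x * x * y' * (x * x)⁻¹)⁻¹) * x⁻¹⁻¹) * x⁻¹ =
          y' * (x * x * y' * (x * x)⁻¹)⁻¹ by group] at h5
        have h6 := hJc y'⁻¹ (inv_mem (hy' g hg)) _ (inv_mem h5)
        rw [show y'⁻¹ * (y' * (x * x * y' * (x * x)⁻¹)⁻¹)⁻¹ * y'⁻¹⁻¹ =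
          y'⁻¹ * (x * x * y' * (x * x)⁻¹) by simp [mul_assoc]] at h6
        have h7 := hJc y' (hy' g hg) _ h6
        rwa [show y' * (y'⁻¹ * (x * x * y' * (x * x)⁻¹)) * y'⁻¹ =
          x * x * y' * (x * x)⁻¹ * y'⁻¹ by group] at h7
    rw [← hm]
    exact pow_mem hx2 m
  -- elements of order prime to `q` in `K` lie in `F` and are central in `K`
  have hq' : ∀ w ∈ K, (orderOf w).Coprime q → w ∈ fitIn O ∧ ∀ k ∈ K, Commute w k := by
    intro w hw hwq
    obtain ⟨hwO, hwJ, hwR, hwy'⟩ := hw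
    have hwy : Commute w y := by
      have hj := hwy' 1 (one_mem O)
      rw [one_mul, inv_one, mul_one] at hj
      set j := w * y * w⁻¹ * y⁻¹ with hjd
      have hwy1 : w * y * w⁻¹ = j * y := by rw [hjd, inv_mul_cancel_right]
      have hn : ∀ n : ℕ, w ^ n * y * (w ^ n)⁻¹ = j ^ n * y := by
        intro n
        induction n with
        | zero => simp
        | succ n ihn =>
          calc w ^ (n + 1) * y * (w ^ (n + 1))⁻¹ = w * (w ^ n * y * (w ^ n)⁻¹) * w⁻¹ := by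
                rw [pow_succ']; group
            _ = (w * j ^ n * w⁻¹) * (w * y * w⁻¹) := by rw [ihn]; group
            _ = j ^ n * (w * y * w⁻¹) := by
                rw [((hwJ j hj).pow_right n).eq, mul_inv_cancel_right]
            _ = j ^ n * (j * y) := by rw [hwy1]
            _ = j ^ (n + 1) * y := by rw [pow_succ]; exact (mul_assoc (j ^ n) j y).symm
      have h1 := hn (orderOf w)
      rw [pow_orderOf_eq_one, one_mul, inv_one, mul_one] at h1
      have hjn : j ^ orderOf w = 1 := mul_eq_right.1 h1.symm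
      obtain ⟨a, ha⟩ := (Components.isPGroup_pCoreIn (p := q) O) ⟨j, hJP hj⟩
      have hj1 : j = 1 := orderOf_eq_one_iff.1 (Nat.eq_one_of_dvd_coprimes (hwq.pow_right a)
        (orderOf_dvd_of_pow_eq_one hjn)
        (orderOf_dvd_of_pow_eq_one (congrArg Subtype.val ha : j ^ q ^ a = 1)))
      rw [hj1, one_mul] at hwy1
      exact mul_inv_eq_iff_eq_mul.1 hwy1
    have hy1 : y ≠ 1 := fun e => hq.out.ne_one (by rw [← hyo, e, orderOf_one])
    have hwn := mem_normalizer_of_commute hM hwO hy hy1 hwy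
    have hEP := fixPart_le_pCore hM hone
    have hEp : IsPGroup q ↥(fixPart (c ^ l) s) :=
      (Components.isPGroup_pCoreIn (p := q) O).to_le hEP
    haveI := hM.fix_cyclic
    have hwE : ∀ e ∈ fixPart (c ^ l) s, Commute w e :=
      commute_of_omega (fun a ha b hb => fixPart_comm hM ha hb) hEp
        (fun a ha h => mem_zpowers_of_cyclic hy hyo ha h)
        (fun a ha => Coprime.conj_mem hwn ha) hwy hwq
    have hwL := hM.layer_norm w (H62.GW.coreAt_le _ hwO) hwn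
    haveI := hM.torus_cyclic
    have hwT : ∀ k ∈ torusPart (c ^ l) L, k ∈ fitIn O → Commute w k := by
      intro k hk hkF
      suffices k ∈ centralizer ({w} : Set G) from (mem_centralizer_singleton_iff.1 this).symm
      refine mem_of_primePow fun r n i hr h => mem_centralizer_singleton_iff.2 ?_
      haveI := Fact.mk hr
      have hm := H62.GW.mem_pCoreIn_of_fitIn (pow_mem hkF i) h
      by_cases hrq : r = q
      · subst hrq
        exact (commute_of_omega (A := torusPart (c ^ l) L ⊓ pCoreIn r O)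
          (fun a ha b hb => torus_comm hM ha.1 hb.1)
          ((Components.isPGroup_pCoreIn (p := r) O).to_le inf_le_right)
          (fun a ha h => mem_zpowers_of_cyclic hzT hzo ha.1 h)
          (fun a ha => ⟨⟨O.mul_mem (O.mul_mem hwO ha.1.1) (O.inv_mem hwO),
            Coprime.conj_mem hwL ha.1.2⟩, conj_pCore' hM hwO ha.2⟩)
          (hwJ z hzJ) hwq _ ⟨pow_mem hk i, hm⟩).eq.symm
      · exact (hwR r hr hrq _ hm).eq.symm
    have hwF : w ∈ fitIn O := H62.GW.mem_fitIn_of_commute hwO fun r hr v hv => by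
      by_cases hrq : r = q
      · exact hM.coprime_fixed w (H62.GW.coreAt_le _ hwO) q hq.out hwq hwE hwT v (hrq ▸ hv)
      · exact hwR r hr hrq v hv
    refine ⟨hwF, fun k hk => ?_⟩
    suffices w ∈ centralizer ({k} : Set G) from mem_centralizer_singleton_iff.1 this
    refine mem_of_primePow fun r n i hr h => mem_centralizer_singleton_iff.2 ?_
    haveI := Fact.mk hr
    by_cases hrq : r = q
    · subst hrq
      have h0 : w ^ i = 1 := orderOf_eq_one_iff.1 (Nat.eq_one_of_dvd_coprimes (hwq.pow_right n)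
        (orderOf_pow_dvd i) (orderOf_dvd_of_pow_eq_one h))
      rw [h0, one_mul, mul_one]
    · exact (hk.2.2.1 r hr hrq _ (H62.GW.mem_pCoreIn_of_fitIn (pow_mem hwF i) h)).eq.symm
  -- `K` is a normal nilpotent subgroup of `O`
  have hnil : Group.IsNilpotent ↥K := by
    have hp : IsPGroup q (↥K ⧸ center ↥K) := by
      intro v
      obtain ⟨k, rfl⟩ := QuotientGroup.mk_surjective v
      obtain ⟨a, b, hb, hab⟩ := Nat.exists_eq_pow_mul_and_not_dvd (orderOf_pos (k : G)).ne' q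
        hq.out.ne_one
      refine ⟨a, ?_⟩
      rw [← QuotientGroup.mk_pow, QuotientGroup.eq_one_iff, mem_center_iff]
      intro k'
      refine Subtype.ext ?_
      have ho : (orderOf ((k : G) ^ q ^ a)).Coprime q := by
        rw [orderOf_pow' _ (pow_ne_zero _ hq.out.ne_zero), hab,
          Nat.gcd_eq_right (dvd_mul_right _ _), Nat.mul_div_cancel_left _ (pow_pos hq.out.pos _)]
        exact ((hq.out.coprime_iff_not_dvd).2 hb).symm
      exact ((hq' _ (pow_mem k.2 _) ho).2 k' k'.2).eq.symm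
    haveI := hp.isNilpotent
    exact Subgroup.isNilpotent_of_ker_le_center (QuotientGroup.mk' (center ↥K))
      (by rw [QuotientGroup.ker_mk'])
  have hKn : (K.subgroupOf O).Normal := by
    refine Subgroup.normal_subgroupOf_of_le_normalizer ?_
    intro g hg
    have key : ∀ a ∈ O, ∀ k ∈ K, a * k * a⁻¹ ∈ K := by
      rintro a ha k ⟨hk, hk1, hk2, hk3⟩
      have hc : ∀ u : G, Commute k (a⁻¹ * u * a) → Commute (a * k * a⁻¹) u := fun u h => by
        calc a * k * a⁻¹ * u = a * (k * (a⁻¹ * u * a)) * a⁻¹ := by group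
          _ = a * (a⁻¹ * u * a * k) * a⁻¹ := by rw [h.eq]
          _ = u * (a * k * a⁻¹) := by group
      refine ⟨mul_mem (mul_mem ha hk) (inv_mem ha), fun u hu => hc u (hk1 _ ?_),
        fun r hr hne v hv => hc v (hk2 r hr hne _ ?_), fun g' hg' => ?_⟩
      · simpa using hJc a⁻¹ (inv_mem ha) u hu
      · simpa using conj_pCore' hM (inv_mem ha) hv
      · have h1 := hJc a ha _ (hk3 (a⁻¹ * g') (mul_mem (inv_mem ha) hg'))
        rwa [show a * (k * (a⁻¹ * g' * y * (a⁻¹ * g')⁻¹) * k⁻¹ *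
          (a⁻¹ * g' * y * (a⁻¹ * g')⁻¹)⁻¹) * a⁻¹ =
          a * k * a⁻¹ * (g' * y * g'⁻¹) * (a * k * a⁻¹)⁻¹ * (g' * y * g'⁻¹)⁻¹ by group] at h1
    refine mem_normalizer_iff.2 fun k => ⟨key g hg k, fun h => ?_⟩
    have := key g⁻¹ (inv_mem hg) _ h
    simpa [mul_assoc] using this
  haveI : Group.IsNilpotent ↥(K.subgroupOf O) :=
    (Group.isNilpotent_congr (Subgroup.subgroupOfEquivOfLe hKO).symm).1 hnil
  exact ⟨⟨x, hx⟩, Components.normal_nilpotent_le_fitting hKn inferInstance hxK, rfl⟩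

/-- The stabiliser of the line of `y` in `O` is `N_O(E)`. -/
theorem mem_normalizer_of_conj_mem {q : ℕ} [Fact q.Prime] {y g : G}
    (hy : y ∈ fixPart (c ^ l) s) (hyo : orderOf y = q) (hg : g ∈ coreAt (c ^ l)) {i : ℕ}
    (hi : y ^ i ≠ 1) (h : g * y ^ i * g⁻¹ ∈ fixPart (c ^ l) s) :
    g ∈ normalizer (fixPart (c ^ l) s : Set G) :=
  hM.ti g (H62.GW.coreAt_le _ hg) _ (pow_mem hy i) hi h

/-- An element of `O` conjugating an element of `E` to an inverted one. -/
theorem eq_one_of_conj_inverted {g e : G} (hg : g ∈ coreAt (c ^ l)) (he : e ∈ fixPart (c ^ l) s)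
    (h : s * (g * e * g⁻¹) * s⁻¹ = (g * e * g⁻¹)⁻¹) : e = 1 := by
  set o := g⁻¹ * (s * g * s⁻¹) with hod
  have ho : o ∈ coreAt (c ^ l) := mul_mem (inv_mem hg) (conj_core hM hg)
  have h1 : o * e * o⁻¹ = e⁻¹ := by
    calc o * e * o⁻¹ = g⁻¹ * ((s * g * s⁻¹) * e * (s * g * s⁻¹)⁻¹) * g := by rw [hod]; group
      _ = g⁻¹ * ((s * g * s⁻¹) * (s * e * s⁻¹) * (s * g * s⁻¹)⁻¹) * g := by
          rw [(fixPart_fixed he).eq, mul_inv_cancel_right]
      _ = g⁻¹ * (s * (g * e * g⁻¹) * s⁻¹) * g := by group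
      _ = e⁻¹ := by rw [h]; group
  have h2 : Commute (o * o) e := by
    refine mul_inv_eq_iff_eq_mul.1 ?_
    calc o * o * e * (o * o)⁻¹ = o * (o * e * o⁻¹) * o⁻¹ := by group
      _ = o * e⁻¹ * o⁻¹ := by rw [h1]
      _ = (o * e * o⁻¹)⁻¹ := by group
      _ = e := by rw [h1, inv_inv]
  have h3 := H62.GW.commute_of_sq (odd_of_core hM ho) h2
  rw [h3.eq, mul_inv_cancel_right] at h1
  have h4 : e * e = 1 := by nth_rewrite 2 [h1]; exact mul_inv_cancel e
  exact H62.GW.eq_one_of_odd (odd_of_core hM (fixPart_le_core he)) h4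

/-- **Count.** The lines of `y` avoid the inverted part `J` of `U`; so their number is at most
`|J|`, and in case of equality `J` is invariant. -/
theorem count {q : ℕ} [hq : Fact q.Prime] {y : G} (hy : y ∈ fixPart (c ^ l) s)
    (hyo : orderOf y = q) {U J : Subgroup G} (hUO : U ≤ coreAt (c ^ l))
    (hUn : coreAt (c ^ l) ≤ normalizer (U : Set G)) (hUs : ∀ u ∈ U, s * u * s⁻¹ ∈ U)
    (hyU : y ∈ U) (hJU : J ≤ U) (hJ : ∀ u ∈ U, u ∈ J ↔ s * u * s⁻¹ = u⁻¹)
    (hfix : ∀ u ∈ U, Commute s u → u ∈ zpowers y) :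
    (coreAt (c ^ l) ⊓ normalizer (fixPart (c ^ l) s : Set G)).relIndex (coreAt (c ^ l)) ≤
        Nat.card ↥J ∧
      ((coreAt (c ^ l) ⊓ normalizer (fixPart (c ^ l) s : Set G)).relIndex (coreAt (c ^ l)) =
        Nat.card ↥J → coreAt (c ^ l) ≤ normalizer (J : Set G)) := by
  classical
  set O := coreAt (c ^ l)
  set N := O ⊓ normalizer (fixPart (c ^ l) s : Set G)
  set idx := N.relIndex O with hidx
  have hidx' : idx = Nat.card (↥O ⧸ N.subgroupOf O) := rfl
  have hpow : ∀ i : Fin (q - 1), y ^ ((i : ℕ) + 1) ≠ 1 := fun i h => by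
    have h1 := Nat.le_of_dvd (Nat.succ_pos _) (hyo ▸ orderOf_dvd_of_pow_eq_one h)
    have h2 := i.isLt
    omega
  -- the lines, away from `J`
  let φ : (↥O ⧸ N.subgroupOf O) × Fin (q - 1) ⊕ ↥J → ↥U := fun v => match v with
    | Sum.inl p => ⟨(p.1.out : ↥O) * y ^ ((p.2 : ℕ) + 1) * ((p.1.out : ↥O) : G)⁻¹,
        Coprime.conj_mem (hUn (p.1.out : ↥O).2) (pow_mem hyU _)⟩
    | Sum.inr j => ⟨j, hJU j.2⟩
  have hne : ∀ (g : ↥O) (i : Fin (q - 1)), (g : G) * y ^ ((i : ℕ) + 1) * (g : G)⁻¹ ∉ J := by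
    intro g i h
    exact hpow i (eq_one_of_conj_inverted hM g.2 (pow_mem hy _)
      ((hJ _ (hJU h)).1 h))
  have hφ : Function.Injective φ := by
    rintro (⟨a, i⟩ | j) (⟨b, k⟩ | j') h <;> have h' := congrArg Subtype.val h <;> simp only [φ] at h'
    · have hab : a = b := by
        have hmem : ((b.out : ↥O) : G)⁻¹ * (a.out : ↥O) ∈ N := by
          refine ⟨O.mul_mem (O.inv_mem (b.out : ↥O).2) (a.out : ↥O).2, ?_⟩
          refine mem_normalizer_of_conj_mem hM (g := ((b.out : ↥O) : G)⁻¹ * (a.out : ↥O)) hy hyo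
            (mul_mem (inv_mem (b.out : ↥O).2) (a.out : ↥O).2) (hpow i) ?_
          rw [show ((b.out : ↥O) : G)⁻¹ * (a.out : ↥O) * y ^ ((i : ℕ) + 1) *
            (((b.out : ↥O) : G)⁻¹ * (a.out : ↥O))⁻¹ = ((b.out : ↥O) : G)⁻¹ *
            ((a.out : ↥O) * y ^ ((i : ℕ) + 1) * ((a.out : ↥O) : G)⁻¹) * (b.out : ↥O) by group, h']
          simp [mul_assoc, pow_mem hy]
        have h2 := (QuotientGroup.eq (s := N.subgroupOf O) (a := b.out) (b := a.out)).2
          (by rw [mem_subgroupOf]; simpa using hmem)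
        rw [QuotientGroup.out_eq', QuotientGroup.out_eq'] at h2
        exact h2.symm
      subst hab
      have h3 : y ^ ((i : ℕ) + 1) = y ^ ((k : ℕ) + 1) := by simpa using h'
      have h4 := pow_injOn_Iio_orderOf (x := y)
        (show (i : ℕ) + 1 < orderOf y by have := i.isLt; omega)
        (show (k : ℕ) + 1 < orderOf y by have := k.isLt; omega) h3
      rw [Fin.ext (show (i : ℕ) = k by omega)]
    · exact absurd (h'.symm ▸ j'.2) (hne a.out i)
    · exact absurd (h' ▸ j.2) (hne b.out k)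
    · rw [Subtype.ext h']
  -- `|U| ≤ q |J|`
  have hUJ : Nat.card ↥U ≤ Nat.card ↥J * q := by
    have hd : ∀ u : ↥U, s * (u : G) * s⁻¹ * (u : G)⁻¹ ∈ J := fun u =>
      (hJ _ (mul_mem (hUs u u.2) (inv_mem u.2))).2 (H62.GW.conj_commutator_inverted (ss hM))
    let d : ↥U → ↥J := fun u => ⟨_, hd u⟩
    have hfib : ∀ u v : ↥U, d u = d v → (v : G)⁻¹ * u ∈ zpowers y := by
      intro u v h
      have h1 : s * (u : G) * s⁻¹ * (u : G)⁻¹ = s * (v : G) * s⁻¹ * (v : G)⁻¹ :=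
        congrArg Subtype.val h
      refine hfix _ (mul_mem (inv_mem v.2) u.2) (mul_inv_eq_iff_eq_mul.1 ?_)
      calc s * ((v : G)⁻¹ * u) * s⁻¹ = (s * (v : G) * s⁻¹)⁻¹ * (s * (u : G) * s⁻¹) := by group
        _ = (s * (v : G) * s⁻¹)⁻¹ * (s * (u : G) * s⁻¹ * (u : G)⁻¹ * u) := by group
        _ = (v : G)⁻¹ * u := by rw [h1]; group
    let sec : ↥J → ↥U := fun j => if h : ∃ u, d u = j then h.choose else 1
    have hsec : ∀ u, d (sec (d u)) = d u := fun u => by
      have h : ∃ u', d u' = d u := ⟨u, rfl⟩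
      simp only [sec, dif_pos h]
      exact h.choose_spec
    let ψ : ↥U → ↥J × ↥(zpowers y) := fun u =>
      (d u, ⟨((sec (d u) : ↥U) : G)⁻¹ * u, hfib u _ (hsec u).symm⟩)
    have hψ : Function.Injective ψ := by
      intro u v h
      have h1 : d u = d v := congrArg Prod.fst h
      have h2 := congrArg (fun p : ↥J × ↥(zpowers y) => (p.2 : G)) h
      simp only [ψ, h1] at h2
      exact Subtype.ext (mul_left_cancel h2)
    have h3 := Nat.card_le_card_of_injective ψ hψ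
    rwa [Nat.card_prod, Nat.card_zpowers, hyo] at h3
  have hcard : idx * (q - 1) + Nat.card ↥J ≤ Nat.card ↥U := by
    have h := Nat.card_le_card_of_injective φ hφ
    rwa [Nat.card_sum, Nat.card_prod, Nat.card_fin, ← hidx'] at h
  have hq2 := hq.out.two_le
  have hJpos : Nat.card ↥J * q = Nat.card ↥J * (q - 1) + Nat.card ↥J := by
    conv_lhs => rw [show q = (q - 1) + 1 by omega, Nat.mul_succ]
  have hle : idx ≤ Nat.card ↥J := Nat.le_of_mul_le_mul_right (by omega) (by omega : 0 < q - 1)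
  refine ⟨hle, fun he => ?_⟩
  have hbij : Function.Bijective φ := hφ.bijective_of_nat_card_le (by
    rw [Nat.card_sum, Nat.card_prod, Nat.card_fin, ← hidx', he]; omega)
  have key : ∀ g ∈ O, ∀ u ∈ J, g * u * g⁻¹ ∈ J := by
    intro g hg u hu
    obtain ⟨v, hv⟩ := hbij.2 ⟨g * u * g⁻¹, Coprime.conj_mem (hUn hg) (hJU hu)⟩
    rcases v with ⟨a, i⟩ | j
    · exfalso
      have h' : ((a.out : ↥O) : G) * y ^ ((i : ℕ) + 1) * ((a.out : ↥O) : G)⁻¹ = g * u * g⁻¹ :=
        congrArg Subtype.val hv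
      refine hne ⟨g⁻¹ * (a.out : ↥O), mul_mem (inv_mem hg) (a.out : ↥O).2⟩ i ?_
      show g⁻¹ * (a.out : ↥O) * y ^ ((i : ℕ) + 1) * (g⁻¹ * (a.out : ↥O))⁻¹ ∈ J
      rw [show g⁻¹ * (a.out : ↥O) * y ^ ((i : ℕ) + 1) * (g⁻¹ * (a.out : ↥O))⁻¹ =
        g⁻¹ * ((a.out : ↥O) * y ^ ((i : ℕ) + 1) * ((a.out : ↥O) : G)⁻¹) * g by group, h']
      simpa [mul_assoc] using hu
    · have h' : (j : G) = g * u * g⁻¹ := congrArg Subtype.val hv
      exact h' ▸ j.2
  intro g hg
  refine mem_normalizer_iff.2 fun u => ⟨key g hg u, fun h => ?_⟩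
  have := key g⁻¹ (inv_mem hg) _ h
  simpa [mul_assoc] using this

end Cfsg.Agent.H77.GW.Bound
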