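import Cfsg.Agent.H77.GW.BoundKernel

/-!
# GW, mixed case: the indices `j`, `m` and the last step of the bound
-/

set_option autoImplicit false
set_option linter.unusedSectionVars false
set_option linter.style.haveILetI false

namespace Cfsg.Agent.H77.GW.Bound

open Subgroup Cfsg.Agent
open Cfsg.Agent.GW (coreAt pairCore)
open Cfsg.Agent.Components (pCoreIn fitIn)
open Cfsg.Agent.H62.GW (fixPart torusPart jNum mNum MixedData)

universe u

variable {G : Type u} [Group G] [Finite G]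

/-- `|FN : N| = |F : F ∩ N|` when `N` normalises `F`. -/
theorem relIndex_sup_eq {F N : Subgroup G} (hN : N ≤ normalizer (F : Set G)) :
    N.relIndex (F ⊔ N) = N.relIndex F := by
  let f : ↥F ⧸ N.subgroupOf F → ↥(F ⊔ N) ⧸ N.subgroupOf (F ⊔ N) :=
    Quotient.map' (Subgroup.inclusion le_sup_left) fun a b h => by
      rw [QuotientGroup.leftRel_apply, mem_subgroupOf] at h ⊢
      simpa using h
  refine (Nat.card_eq_of_bijective f ⟨?_, ?_⟩).symm
  · rintro ⟨a⟩ ⟨b⟩ h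
    have h1 := QuotientGroup.eq.1 h
    exact QuotientGroup.eq.2 (by rw [mem_subgroupOf] at h1 ⊢; simpa using h1)
  · rintro ⟨⟨v, hv⟩⟩
    obtain ⟨w, hw, n, hn, rfl⟩ : ∃ w ∈ F, ∃ n ∈ N, v = w * n := by
      rw [sup_comm] at hv
      obtain ⟨n, hn, w, hw, rfl⟩ := (mem_sup_of_normal hN).1 hv
      exact ⟨n * w * n⁻¹, Coprime.conj_mem (hN hn) hw, n, hn, by simp⟩
    exact ⟨QuotientGroup.mk ⟨w, hw⟩, QuotientGroup.eq.2 (by rw [mem_subgroupOf]; simpa using hn)⟩
where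
  mem_sup_of_normal {F N : Subgroup G} (hN : N ≤ normalizer (F : Set G)) {v : G} :
      v ∈ N ⊔ F ↔ ∃ n ∈ N, ∃ w ∈ F, v = n * w := by
    rw [← SetLike.mem_coe, coe_mul_of_left_le_normalizer_right _ _ hN]
    simp [Set.mem_mul, eq_comm]

variable {S : Sylow 2 G} {l : ℕ} {c s : G} {L : Subgroup G} (hM : MixedData S l c s L)
include hM

theorem index_eq : (coreAt (c ^ l) ⊓ normalizer (fixPart (c ^ l) s : Set G)).relIndex
    (coreAt (c ^ l)) = jNum (c ^ l) s * mNum (c ^ l) s := by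
  set O := coreAt (c ^ l)
  set F := fitIn O
  set N := O ⊓ normalizer (fixPart (c ^ l) s : Set G)
  have hNn : N ≤ normalizer (F : Set G) := inf_le_left.trans (Components.le_normalizer_map_subtype _)
  have hj : N.relIndex F = jNum (c ^ l) s := by
    have e : N ⊓ F = (F ⊓ normalizer (fixPart (c ^ l) s : Set G)) := by
      refine le_antisymm (fun v hv => ⟨hv.2, hv.1.2⟩) (fun v hv => ⟨⟨fit_le hv.1, hv.2⟩, hv.1⟩)
    rw [← inf_relIndex_right, e]
    rfl
  rw [← hj, ← relIndex_sup_eq hNn]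
  exact (relIndex_mul_relIndex _ _ _ le_sup_right (sup_le fit_le inf_le_left)).symm

theorem odd_mNum : Odd (mNum (c ^ l) s) :=
  (H62.GW.odd_coreAt _).of_dvd_nat (relIndex_dvd_card _ _)

/-- If the inverted elements of `O` lie in `F` then `m = 1`. -/
theorem mNum_eq_one (h : ∀ x ∈ coreAt (c ^ l), s * x * s⁻¹ = x⁻¹ → x ∈ fitIn (coreAt (c ^ l))) :
    mNum (c ^ l) s = 1 := by
  refine relIndex_eq_one.2 fun o ho => ?_
  obtain ⟨x, hx, f, hf, hxi, hfc, rfl⟩ :=
    exists_decomp (ss hM) (H62.GW.odd_coreAt _) (fun v hv => conj_core hM hv) ho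
  exact mul_mem (mem_sup_left (h x hx hxi))
    (mem_sup_right ⟨hf, hM.pair_norm ⟨hf, mem_centralizer_singleton_iff.2 hfc.eq.symm⟩⟩)

/-- The last step: if the count is sharp then the inverted part is invariant and `m = 1`. -/
theorem mNum_eq_one_of_sharp {q : ℕ} [hq : Fact q.Prime] {y z : G}
    (hy : y ∈ fixPart (c ^ l) s) (hyo : orderOf y = q) (hzo : orderOf z = q)
    (hzT : z ∈ torusPart (c ^ l) L) {U J : Subgroup G} (hU : U ≤ pCoreIn q (coreAt (c ^ l)))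
    (hUn : coreAt (c ^ l) ≤ normalizer (U : Set G)) (hUs : ∀ u ∈ U, s * u * s⁻¹ ∈ U)
    (hyU : y ∈ U) (hJU : J ≤ U) (hJ : ∀ u ∈ U, u ∈ J ↔ s * u * s⁻¹ = u⁻¹) (hzJ : z ∈ J)
    (hfix : ∀ u ∈ U, Commute s u → u ∈ zpowers y)
    (hone : ∀ r : ℕ, r.Prime → r ≠ q → pCoreIn r (coreAt (c ^ l)) ≤ torusPart (c ^ l) L)
    (hsharp : jNum (c ^ l) s * mNum (c ^ l) s = Nat.card ↥J) : mNum (c ^ l) s = 1 := by
  have hUO : U ≤ coreAt (c ^ l) := hU.trans (H62.GW.pCoreAt_le _ _)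
  have hJn := (count hM hy hyo hUO hUn hUs hyU hJU hJ hfix).2 (by rw [index_eq hM, hsharp])
  refine mNum_eq_one hM fun x hx hxi => mem_fit_of_kernel hM hy hyo hzo hzT (hJU.trans hU)
    (fun u hu => (hJ u (hJU hu)).1 hu) hJn hzJ (fun o ho => ?_) hone hx hxi
  have hv : o * y * o⁻¹ ∈ U := Coprime.conj_mem (hUn ho) hyU
  exact (hJ _ (mul_mem (hUs _ hv) (inv_mem hv))).2 (H62.GW.conj_commutator_inverted (ss hM))

end Cfsg.Agent.H77.GW.Bound
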