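import Cfsg.Agent.H82.GW.Layer
import Cfsg.Agent.H77.GW.Lzero

/-!
# GW programme, case (N): lemma U with the component case discharged

`t = c ^ l`.  A maximal subgroup over a moved `O_r(M)` has no component: otherwise the layer would
contain `s` or `t * s` and fuse the four group `⟨t, s⟩` over `C(t)`.
-/

set_option autoImplicit false
set_option linter.style.haveILetI false
set_option linter.unusedSectionVars false

namespace Cfsg.Agent.H77.GW

open Subgroup
open Cfsg.Agent.Components (pCoreIn isPGroup_pCoreIn gFitIn fitIn layerIn)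
open scoped commutatorElement

universe u

variable {G : Type u} [Group G] [Finite G] {S : Sylow 2 G} {l : ℕ} {c s : G}

/-- A four group through `s` or `ts` fused inside `Y` contradicts `Separates`. -/
theorem fused_four_false (hD : H39.DGen (S : Subgroup G) l c s) {Y : Subgroup G}
    (hCtY : centralizer ({c ^ l} : Set G) ≤ Y) (hsep : GW.Separates Y (c ^ l) s (c * s))
    {g a b : G} (hgY : g ∈ Y) (haY : a ∈ Y) (hg : GW.Fuses g a b) (oa : orderOf a = 2)
    (ob : orderOf b = 2) (hba : b ≠ a) (hab : Commute a b) (ha : a = s ∨ a = c ^ l * s) :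
    False := by
  have hSY : (S : Subgroup G) ≤ Y := fun v hv =>
    hCtY (mem_centralizer_singleton_iff.2 (hD.z_central hv))
  have hbY : b ∈ Y := hg.1 ▸ mul_mem (mul_mem hgY haY) (inv_mem hgY)
  obtain ⟨T, hT, hTm⟩ := H39.klein_mk oa ob (Ne.symm hba) hab.eq
  have hTY : T ≤ Y := by
    intro v hv
    rcases (hTm v).mp hv with rfl | rfl | rfl | rfl
    exacts [one_mem _, haY, hbY, mul_mem haY hbY]
  have hp : IsPGroup 2 (T.subgroupOf Y) :=
    (IsPGroup.of_card (n := 2) hT.card_four).comap_of_injective _ (Subgroup.subtype_injective _)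
  obtain ⟨x, hx⟩ := H39.exists_conj_le_sylow hp (S.subtype hSY)
  have hxS : ∀ v ∈ T, (x : G) * v * (x : G)⁻¹ ∈ S := fun v hv =>
    hx ⟨v, hTY hv⟩ (mem_subgroupOf.mpr hv)
  obtain ⟨U, hU, hUm⟩ := H39.klein_mk (H39.orderOf_conj (x : G) a ▸ oa) (H39.orderOf_conj (x : G) b ▸ ob)
    (fun e => hba (mul_left_cancel (mul_right_cancel e)).symm)
    (show (x : G) * a * (x : G)⁻¹ * ((x : G) * b * (x : G)⁻¹) =
        (x : G) * b * (x : G)⁻¹ * ((x : G) * a * (x : G)⁻¹) by
      rw [show (x : G) * a * (x : G)⁻¹ * ((x : G) * b * (x : G)⁻¹) =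
        (x : G) * (a * b) * (x : G)⁻¹ by group, hab.eq]
      group)
  have hUS : U ≤ S := by
    intro v hv
    rcases (hUm v).mp hv with rfl | rfl | rfl | rfl
    exacts [one_mem _, hxS a ((hTm a).2 (by simp)), hxS b ((hTm b).2 (by simp)),
      mul_mem (hxS a ((hTm a).2 (by simp))) (hxS b ((hTm b).2 (by simp)))]
  -- every involution of `U` is conjugate to `a` within `Y`
  have hR : ∀ v ∈ U, v ≠ 1 → ∃ y ∈ Y, y * a * y⁻¹ = v := by
    intro v hv hv1
    rcases (hUm v).mp hv with rfl | rfl | rfl | rfl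
    · exact absurd rfl hv1
    · exact ⟨x, x.2, rfl⟩
    · exact ⟨x * g, mul_mem x.2 hgY, by rw [← hg.1]; group⟩
    · refine ⟨x * g * g, mul_mem (mul_mem x.2 hgY) hgY, ?_⟩
      calc (x : G) * g * g * a * ((x : G) * g * g)⁻¹
          = (x : G) * (g * (g * a * g⁻¹) * g⁻¹) * (x : G)⁻¹ := by group
        _ = (x : G) * (a * b) * (x : G)⁻¹ := by rw [hg.1, hg.2]
        _ = _ := by group
  obtain ⟨i, hiU, hzU, -⟩ := hD.klein_char hU hUS
  have hone : ∀ k : ℤ, c ^ k * s ≠ 1 := fun k =>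
    H39.ne_one_of_orderOf_eq_two (hD.orderOf_out k)
  obtain ⟨y, hy, hyt⟩ := hR _ hzU (H39.ne_one_of_orderOf_eq_two hD.z_order)
  have heven : ∀ k : ℤ, Even k → ∃ z ∈ Y, z * s * z⁻¹ = c ^ k * s := by
    rintro k ⟨j, rfl⟩
    refine ⟨c ^ j, Y.zpow_mem (hSY hD.mem_c) j, ?_⟩
    have h1 := hD.conj_reflection 0 j
    rw [zpow_zero, one_mul] at h1
    rw [h1]
    congr 2
    omega
  have hsa : ∃ z ∈ Y, z * s * z⁻¹ = a := by
    rcases ha with rfl | rfl
    · exact ⟨1, one_mem _, by group⟩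
    rcases Nat.even_or_odd l with hl | hl
    · have h1 := heven l ((Int.even_coe_nat l).2 hl)
      rwa [zpow_natCast] at h1
    · obtain ⟨k, hk, hkU⟩ : ∃ k : ℤ, Even k ∧ c ^ k * s ∈ U := by
        rcases Int.even_or_odd i with hi | hi
        · exact ⟨i, hi, hiU⟩
        · refine ⟨l + i, ((Int.odd_coe_nat l).2 hl).add_odd hi, ?_⟩
          rw [zpow_add, zpow_natCast, mul_assoc]
          exact mul_mem hzU hiU
      obtain ⟨z, hz, hzs⟩ := heven k hk
      obtain ⟨w, hw, hwa⟩ := hR _ hkU (hone k)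
      refine ⟨w⁻¹ * z, mul_mem (inv_mem hw) hz, ?_⟩
      rw [show w⁻¹ * z * s * (w⁻¹ * z)⁻¹ = w⁻¹ * (z * s * z⁻¹) * w by group, hzs, ← hwa]
      group
  obtain ⟨z, hz, hzs⟩ := hsa
  refine (hsep (y * z) (mul_mem hy hz)).1 ?_
  rw [← hyt, ← hzs]
  group

/-- Torus lemma: `[O_r(M), t] ≤ O(X)` is centralised by the layer, which misses `t`. -/
theorem layer_facts_of_moved (hD : H39.DGen (S : Subgroup G) l c s) {M X : Subgroup G}
    (hL : GW.LayerShape X) (hCtM : centralizer ({c ^ l} : Set G) ≤ M)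
    {r : ℕ} [Fact r.Prime] (hr : r ≠ 2) (hmov : Moves (c ^ l) M r) (hFX : pCoreIn r M ≤ X)
    (htX : c ^ l ∈ X) :
    layerIn X ≤ centralizer ((⁅pCoreIn r M, zpowers (c ^ l)⁆ : Subgroup G) : Set G) ∧
      c ^ l ∉ layerIn X := by
  set t := c ^ l with ht
  have htt : t * t = 1 := H39.mul_self_of_orderOf_eq_two hD.z_order
  have hodd : Odd (Nat.card (pCoreIn r M)) := by
    obtain ⟨k, hk⟩ := IsPGroup.iff_card.mp (isPGroup_pCoreIn (p := r) M)
    rw [hk]
    exact ((Fact.out : r.Prime).odd_of_ne_two hr).pow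
  have hcore : ∀ f ∈ pCoreIn r M, ⁅f, t⁆ ∈ GW.coreIn X := fun f hf =>
    hL.torus t htX hD.z_order _ hFX hodd ((isPGroup_pCoreIn (p := r) M).isNilpotent)
      (fun g _ hg => le_normalizer_pCoreIn M (hCtM (mem_centralizer_singleton_iff.2 hg.eq))) f hf
  refine ⟨?_, fun h => hmov fun f hf => ?_⟩
  · rw [le_centralizer_iff, commutator_le]
    intro f hf g hg v hv
    obtain ⟨k, rfl⟩ := mem_zpowers_iff.1 hg
    have h2 : t ^ (2 : ℤ) = 1 := by rw [zpow_two, htt]
    rcases Int.emod_two_eq k with h | h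
    · rw [show t ^ k = 1 by rw [← Int.mul_ediv_add_emod k 2, zpow_add, zpow_mul, h2, h]; simp,
        commutatorElement_one_right]
      simp
    · rw [show t ^ k = t by rw [← Int.mul_ediv_add_emod k 2, zpow_add, zpow_mul, h2, h]; simp]
      exact (hL.commute_core v hv _ (hcore f hf)).eq
  · exact mem_centralizer_singleton_iff.2 (commute_of_commute_commutator htt hr
      (isPGroup_pCoreIn M) (Subgroup.le_normalizer_iff_commutator_le_left.mp
        (zpowers_le.2 (le_normalizer_pCoreIn M (hCtM (mem_centralizer_singleton_iff.2 rfl))))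
        (commutator_mem_commutator hf (mem_zpowers t)))
      (hL.commute_core t h _ (hcore f hf)).eq.symm).eq

theorem ne_s (hD : H39.DGen (S : Subgroup G) l c s) : c ^ l ≠ s := fun e => hD.out_not_mem 0 (by
  rw [zpow_zero, one_mul, ← e]
  exact Subgroup.pow_mem _ (Subgroup.mem_zpowers c) l)

/-- The layer of a subgroup over `C(t)` contains `t`. -/
theorem mem_layer_of_over (hD : H39.DGen (S : Subgroup G) l c s) {X : Subgroup G}
    (hL : GW.LayerShape X) (hCtX : centralizer ({c ^ l} : Set G) ≤ X) :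
    c ^ l ∈ layerIn X := by
  have hSX : (S : Subgroup G) ≤ X := fun v hv =>
    hCtX (mem_centralizer_singleton_iff.2 (hD.z_central hv))
  obtain ⟨a, haL, hao⟩ : ∃ a ∈ layerIn X, orderOf a = 2 := by
    rcases hL.meets_four _ s (hSX hD.z_mem) (hSX hD.mem_s) hD.z_order hD.os (ne_s hD)
      (hD.z_central hD.mem_s).symm with h | h | h
    · exact ⟨_, h, hD.z_order⟩
    · exact ⟨_, h, hD.os⟩
    · exact ⟨_, h, by simpa using hD.orderOf_out (l : ℤ)⟩
  obtain ⟨g, hgL, b, hb, hba, hcom, hgab⟩ := hL.fused_inner a haL hao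
  have hbL : b ∈ layerIn X := hgab.1 ▸ mul_mem (mul_mem hgL haL) (inv_mem hgL)
  obtain ⟨T, hT, hTm⟩ := H39.klein_mk hao hb (Ne.symm hba) hcom.eq
  have hTL : T ≤ layerIn X := by
    intro v hv
    rcases (hTm v).mp hv with rfl | rfl | rfl | rfl
    exacts [one_mem _, haL, hbL, mul_mem haL hbL]
  have hTX : T ≤ X := hTL.trans (Subgroup.map_subtype_le _)
  have hp : IsPGroup 2 (T.subgroupOf X) :=
    (IsPGroup.of_card (n := 2) hT.card_four).comap_of_injective _ (Subgroup.subtype_injective _)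
  obtain ⟨x, hx⟩ := H39.exists_conj_le_sylow hp (S.subtype hSX)
  have hxn : ∀ v ∈ T, (x : G) * v * (x : G)⁻¹ ∈ layerIn X := fun v hv =>
    Coprime.conj_mem (Components.le_normalizer_map_subtype (Cfsg.layer X) x.2) (hTL hv)
  have hxS : ∀ v ∈ T, (x : G) * v * (x : G)⁻¹ ∈ S := fun v hv =>
    hx ⟨v, hTX hv⟩ (mem_subgroupOf.mpr hv)
  obtain ⟨U, hU, hUm⟩ := H39.klein_mk (H39.orderOf_conj (x : G) a ▸ hao)
    (H39.orderOf_conj (x : G) b ▸ hb)
    (fun e => hba (mul_left_cancel (mul_right_cancel e)).symm)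
    (show (x : G) * a * (x : G)⁻¹ * ((x : G) * b * (x : G)⁻¹) =
        (x : G) * b * (x : G)⁻¹ * ((x : G) * a * (x : G)⁻¹) by
      rw [show (x : G) * a * (x : G)⁻¹ * ((x : G) * b * (x : G)⁻¹) =
        (x : G) * (a * b) * (x : G)⁻¹ by group, hcom.eq]
      group)
  have haT : a ∈ T := (hTm a).2 (by simp)
  have hbT : b ∈ T := (hTm b).2 (by simp)
  have hUS : U ≤ S := by
    intro v hv
    rcases (hUm v).mp hv with rfl | rfl | rfl | rfl
    exacts [one_mem _, hxS a haT, hxS b hbT, mul_mem (hxS a haT) (hxS b hbT)]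
  obtain ⟨i, -, hzU, -⟩ := hD.klein_char hU hUS
  rcases (hUm _).mp hzU with h | h | h | h
  · exact absurd h (H39.ne_one_of_orderOf_eq_two hD.z_order)
  all_goals rw [h]
  exacts [hxn a haT, hxn b hbT, mul_mem (hxn a haT) (hxn b hbT)]

/-- A subgroup over a moved `O_r(M)` and `C(t)` has no component. -/
theorem layer_eq_bot_over (hD : H39.DGen (S : Subgroup G) l c s) {M X : Subgroup G}
    (hLS : layerIn X ≠ ⊥ → GW.LayerShape X) (hCtM : centralizer ({c ^ l} : Set G) ≤ M)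
    {r : ℕ} [Fact r.Prime] (hr : r ≠ 2) (hmov : Moves (c ^ l) M r) (hFX : pCoreIn r M ≤ X)
    (hCtX : centralizer ({c ^ l} : Set G) ≤ X) : Cfsg.layer X = ⊥ := by
  by_contra hne
  have hL := hLS fun h => hne ((map_eq_bot_iff_of_injective _ X.subtype_injective).mp h)
  exact (layer_facts_of_moved hD hL hCtM hr hmov hFX
    (hCtX (mem_centralizer_singleton_iff.2 rfl))).2 (mem_layer_of_over hD hL hCtX)

/-- A subgroup over a moved `O_r(M)`, containing `t` and `s`, has no component. -/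
theorem layer_eq_bot_of_moved (hD : H39.DGen (S : Subgroup G) l c s) {M X : Subgroup G}
    (hLS : layerIn X ≠ ⊥ → GW.LayerShape X) (hCtM : centralizer ({c ^ l} : Set G) ≤ M)
    (hsep : GW.Separates M (c ^ l) s (c * s))
    {r : ℕ} [Fact r.Prime] (hr : r ≠ 2) (hmov : Moves (c ^ l) M r) (hFX : pCoreIn r M ≤ X)
    (htX : c ^ l ∈ X) (hsX : s ∈ X)
    (hK : centralizer ((⁅pCoreIn r M, zpowers (c ^ l)⁆ : Subgroup G) : Set G) ≤ M) :
    Cfsg.layer X = ⊥ := by
  by_contra hne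
  have hL := hLS fun h => hne ((map_eq_bot_iff_of_injective _ X.subtype_injective).mp h)
  obtain ⟨hcent, hnt⟩ := layer_facts_of_moved hD hL hCtM hr hmov hFX htX
  set t := c ^ l with ht
  have hmem : s ∈ layerIn X ∨ t * s ∈ layerIn X :=
    (hL.meets_four t s htX hsX hD.z_order hD.os (ne_s hD)
      (hD.z_central hD.mem_s).symm).resolve_left hnt
  obtain ⟨a, ha, haL⟩ : ∃ a, (a = s ∨ a = t * s) ∧ a ∈ layerIn X := by
    rcases hmem with h | h
    · exact ⟨s, Or.inl rfl, h⟩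
    · exact ⟨t * s, Or.inr rfl, h⟩
  have hao : orderOf a = 2 := by
    rcases ha with rfl | rfl
    · exact hD.os
    · simpa using hD.orderOf_out (l : ℤ)
  obtain ⟨g, hgL, b, hb, hba, hcom, hgab⟩ := hL.fused_inner a haL hao
  exact fused_four_false hD hCtM hsep (hK (hcent hgL)) (hK (hcent haL)) hgab hao hb hba hcom ha

/-- **Lemma U.** `C(w) ≤ M` for an eigen element `w` of `F(M)` centralised by a moved
`O_r'(M)`, or central in `F(M)`. -/
theorem centralizer_eigen_le [IsSimpleGroup G] (hnab : ¬ IsMulCommutative G)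
    (hD : H39.DGen (S : Subgroup G) l c s)
    (hLS : ∀ X : Subgroup G, X ≠ ⊤ → layerIn X ≠ ⊥ → GW.LayerShape X)
    {M : Subgroup G} (hM : IsCoatom M) (hEM : Cfsg.layer M = ⊥)
    (hCt : centralizer ({c ^ l} : Set G) ≤ M) (hsep : GW.Separates M (c ^ l) s (c * s))
    (hodd : ∀ r : ℕ, r.Prime → pCoreIn r M ≠ ⊥ → r ≠ 2)
    (htwo : ∀ p : ℕ, ∃ q : ℕ, q.Prime ∧ q ≠ p ∧ pCoreIn q M ≠ ⊥)
    (hmax : MovedMax (c ^ l) M) (hmove : ∃ r : ℕ, r.Prime ∧ Moves (c ^ l) M r) :
    ∀ p : ℕ, p.Prime → ∀ w ∈ pCoreIn p M, w ≠ 1 → Eigen (c ^ l) s w →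
      ((∃ r : ℕ, r.Prime ∧ r ≠ p ∧ Moves (c ^ l) M r) ∨
        w ∈ centralizer (pCoreIn p M : Set G)) → centralizer ({w} : Set G) ≤ M := by
  intro p hp w hw hw1 heig hcase
  haveI := Fact.mk hp
  set t := c ^ l with ht
  have htt : t * t = 1 := H39.mul_self_of_orderOf_eq_two hD.z_order
  have hL0 : ∀ r : ℕ, r.Prime → Moves t M r →
      centralizer ((⁅pCoreIn r M, zpowers t⁆ : Subgroup G) : Set G) ≤ M := by
    intro r hr hm
    haveI := Fact.mk hr
    refine centralizer_commutator_le hM hEM htt hCt hodd htwo hmax (fun X hX hCX hFX => ?_) hm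
    exact layer_eq_bot_over hD (hLS X hX.1) hCt (hodd r hr fun h => hm (h ▸ bot_le)) hm
      (hFX r hr) hCX
  have hfull : normalizer ((zpowers w : Subgroup G) : Set G) ≠ ⊤ := by
    intro h
    haveI : (zpowers w).Normal := normalizer_eq_top_iff.mp h
    rcases IsSimpleGroup.eq_bot_or_eq_top_of_normal (zpowers w) inferInstance with h' | h'
    · exact hw1 (by simpa using h'.le (mem_zpowers w))
    · refine hnab ⟨⟨fun a b => ?_⟩⟩
      obtain ⟨i, rfl⟩ := mem_zpowers_iff.1 (h'.symm.le (mem_top a))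
      obtain ⟨j, rfl⟩ := mem_zpowers_iff.1 (h'.symm.le (mem_top b))
      exact zpow_mul_comm w i j
  obtain ⟨X, hX, hXle⟩ := (eq_top_or_exists_le_coatom _).resolve_left hfull
  have hinv : ∀ a : G, (a * w * a⁻¹ = w ∨ a * w * a⁻¹ = w⁻¹) → a ∈ X := by
    intro a ha
    refine hXle (Coprime.mem_normalizer_of_map_conj ?_)
    rw [MonoidHom.map_zpowers]
    show zpowers (a * w * a⁻¹) = _
    rcases ha with h | h <;> rw [h]
    exact zpowers_inv
  have htX : t ∈ X := hinv t heig.1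
  have hsX : s ∈ X := hinv s heig.2
  have hCwX : centralizer ({w} : Set G) ≤ X := by
    refine le_trans (le_trans ?_ (centralizer_le_normalizer _)) hXle
    intro v hv y hy
    obtain ⟨k, rfl⟩ := mem_zpowers_iff.1 hy
    exact ((show Commute w v from (mem_centralizer_singleton_iff.1 hv).symm).zpow_left k).eq
  obtain ⟨r, hr, hm, hFX⟩ : ∃ r : ℕ, r.Prime ∧ Moves t M r ∧ pCoreIn r M ≤ X := by
    have key : ∀ r : ℕ, r.Prime → r ≠ p → pCoreIn r M ≤ X := by
      intro r hr hrp v hv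
      haveI := Fact.mk hr
      exact hCwX (mem_centralizer_singleton_iff.2
        (commute_cross (Ne.symm hrp) hw (pCoreIn_le_self M hw) hv
          (pCoreIn_le_self M hv)).eq.symm)
    rcases hcase with ⟨r, hr, hrp, hm⟩ | hc
    · exact ⟨r, hr, hm, key r hr hrp⟩
    obtain ⟨r, hr, hm⟩ := hmove
    refine ⟨r, hr, hm, ?_⟩
    by_cases hrp : r = p
    · subst hrp
      intro v hv
      exact hCwX (mem_centralizer_singleton_iff.2 (mem_centralizer_iff.1 hc v hv))
    · exact key r hr hrp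
  haveI := Fact.mk hr
  have hEX := layer_eq_bot_of_moved hD (hLS X hX.1) hCt hsep (hodd r hr fun h => hm (h ▸ bot_le)) hm
    hFX htX hsX (hL0 r hr hm)
  have hwN : gFitIn M ⊓ normalizer ((zpowers w : Subgroup G) : Set G) ≤ X :=
    inf_le_right.trans hXle
  have hP : ∀ q : ℕ, q.Prime → pCoreIn q M = ⊥ → pCoreIn q X = ⊥ := by
    intro q hq hb
    haveI := Fact.mk hq
    refine pCoreIn_eq_bot_of_leadsTo (s := r) htt htX hCt
      (zpowers_le.2 (map_mono (Components.pCore_le_fitting p) hw)) hwN hb ?_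
    rw [inf_eq_left.2 hFX]
    exact hL0 r hr hm
  obtain ⟨q, hq, hqp, hqne⟩ := htwo p
  rw [← eq_of_leadsTo hM hX hEM hEX hw (hCwX (mem_centralizer_singleton_iff.2 rfl)) hwN hP
    ⟨q, hq, hqp, hqne⟩ fun h => hw1 ((mem_bot (G := G)).1 (h ▸ hw))]
  exact hCwX

end Cfsg.Agent.H77.GW
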