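import Cfsg.Agent.H82.GW.Layer
import Cfsg.Agent.H77.GW.Lzero
import Cfsg.Agent.H77.GW.MemberBase

/-!
# GW programme, case (N): no component over `N(<x>)`

`x` in `F(M)` is inverted by `t`.  A layer in a maximal subgroup over `N(<x>)` would contain `s` and
force `t` to centralise `F(M)`.
-/

set_option autoImplicit false
set_option linter.style.haveILetI false
set_option linter.unusedSectionVars false

namespace Cfsg.Agent.H77.GW

open Subgroup
open Cfsg.Agent.Components (pCoreIn isPGroup_pCoreIn gFitIn fitIn layerIn)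
open scoped commutatorElement

universe u

variable {G : Type u} [Group G] [Finite G]

/-- The case of an element fixed by `s`. -/
theorem layer_eq_bot_fixed {M X : Subgroup G} {t s g x : G} (ot : orderOf t = 2)
    (os : orderOf s = 2) (hne : t ≠ s) (hts : Commute t s) (hgt : g * t * g⁻¹ = s)
    (hgM : g⁻¹ * t * g ∈ M) (hLS : layerIn X ≠ ⊥ → GW.LayerShape X)
    (hCt : centralizer ({t} : Set G) ≤ M)
    (hodd : ∀ r : ℕ, r.Prime → pCoreIn r M ≠ ⊥ → r ≠ 2)
    {p : ℕ} [Fact p.Prime] (hxF : x ∈ pCoreIn p M) (hx1 : x ≠ 1) (htx : t * x * t⁻¹ = x⁻¹)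
    (hsx : Commute s x) (hX : normalizer ((zpowers x : Subgroup G) : Set G) ≤ X) :
    Cfsg.layer X = ⊥ := by
  by_contra hEX
  have hL := hLS fun h => hEX ((map_eq_bot_iff_of_injective _ X.subtype_injective).mp h)
  have htt : t * t = 1 := H39.mul_self_of_orderOf_eq_two ot
  have hss : s * s = 1 := H39.mul_self_of_orderOf_eq_two os
  have hp : p ≠ 2 := hodd p Fact.out fun h => hx1 ((mem_bot (G := G)).1 (h ▸ hxF))
  set φ : MulAut G := MulAut.conj g with hφ
  set N := M.map φ.toMonoidHom with hN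
  have hmemN : ∀ v : G, g⁻¹ * v * g ∈ M → v ∈ N := fun v hv =>
    ⟨g⁻¹ * v * g, hv, by simp [hφ, mul_assoc]⟩
  have hgss : g⁻¹ * s * g = t := by rw [← hgt]; group
  have htN : t ∈ N := hmemN t hgM
  have hCs : centralizer ({s} : Set G) ≤ N := by
    intro v hv
    refine hmemN v (hCt (mem_centralizer_singleton_iff.2 ?_))
    have h1 := mem_centralizer_singleton_iff.1 hv
    rw [← hgss]
    calc g⁻¹ * v * g * (g⁻¹ * s * g) = g⁻¹ * (v * s) * g := by group
      _ = g⁻¹ * (s * v) * g := by rw [h1]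
      _ = g⁻¹ * s * g * (g⁻¹ * v * g) := by group
  have hCX : centralizer ({x} : Set G) ≤ X := by
    refine le_trans (le_trans ?_ (centralizer_le_normalizer _)) hX
    intro v hv y hy
    obtain ⟨k, rfl⟩ := mem_zpowers_iff.1 hy
    exact ((show Commute x v from (mem_centralizer_singleton_iff.1 hv).symm).zpow_left k).eq
  have hxX : x ∈ X := hCX (mem_centralizer_singleton_iff.2 rfl)
  have hxN : x ∈ N := hCs (mem_centralizer_singleton_iff.2 hsx.eq.symm)
  have hsX : s ∈ X := hCX (mem_centralizer_singleton_iff.2 hsx.eq)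
  have htX : t ∈ X := by
    refine hX (Coprime.mem_normalizer_of_map_conj ?_)
    rw [MonoidHom.map_zpowers]
    show zpowers (t * x * t⁻¹) = _
    rw [htx, zpowers_inv]
  -- torus lemma for `Q ⊓ X`, `Q` normalised by `C(a)`
  have htorus : ∀ (a : G) (r : ℕ) (Q : Subgroup G), r.Prime → r ≠ 2 → IsPGroup r Q →
      orderOf a = 2 → a ∈ X → centralizer ({a} : Set G) ≤ normalizer (Q : Set G) →
      ∀ k ∈ Q ⊓ X, k * a * k⁻¹ * a⁻¹ ∈ GW.coreIn X := by
    intro a r Q hr hr2 hQ ha haX hn
    haveI := Fact.mk hr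
    have hQX : IsPGroup r (Q ⊓ X : Subgroup G) := hQ.to_le inf_le_left
    obtain ⟨k, hk⟩ := IsPGroup.iff_card.mp hQX
    exact hL.torus a haX ha _ inf_le_right (hk ▸ (hr.odd_of_ne_two hr2).pow) hQX.isNilpotent
      fun v hv hva => inf_normalizer_le_normalizer_inf
        ⟨hn (mem_centralizer_singleton_iff.2 hva.eq), le_normalizer hv⟩
  have hpodd : Odd (orderOf x) := by
    obtain ⟨a, ha⟩ := (isPGroup_pCoreIn (p := p) M) ⟨x, hxF⟩
    exact ((Fact.out : p.Prime).odd_of_ne_two hp).pow.of_dvd_nat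
      (orderOf_dvd_of_pow_eq_one (by simpa using congrArg Subtype.val ha) : orderOf x ∣ p ^ a)
  -- `x ∈ O(X)` is centralised by the layer
  have hxcore : x ∈ GW.coreIn X := by
    have h := htorus t p _ Fact.out hp (isPGroup_pCoreIn (p := p) M) ot htX
      (hCt.trans (le_normalizer_pCoreIn M)) x ⟨hxF, hxX⟩
    have ht : t⁻¹ = t := inv_eq_of_mul_eq_one_right htt
    rw [show x * t * x⁻¹ * t⁻¹ = x * (t * x⁻¹ * t⁻¹) by group,
      show t * x⁻¹ * t⁻¹ = (t * x * t⁻¹)⁻¹ by group, htx, inv_inv] at h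
    obtain ⟨m, hm⟩ := hpodd
    have hxm : x = (x * x) ^ (m + 1) := by
      rw [← sq, ← pow_mul, show 2 * (m + 1) = orderOf x + 1 by omega, pow_succ, pow_orderOf_eq_one,
        one_mul]
    rw [hxm]
    exact pow_mem h _
  have hnoinv : ∀ a ∈ layerIn X, a * x * a⁻¹ = x⁻¹ → False := by
    intro a ha hax
    rw [(hL.commute_core a ha x hxcore).eq, mul_inv_cancel_right] at hax
    refine hx1 (orderOf_eq_one_iff.1 ?_)
    have h2 : orderOf x ∣ 2 := orderOf_dvd_of_pow_eq_one (by
      rw [sq]; nth_rewrite 2 [hax]; exact mul_inv_cancel x)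
    rcases (Nat.dvd_prime Nat.prime_two).1 h2 with h | h
    · exact h
    · rw [h] at hpodd; exact absurd hpodd (by decide)
  have hsL : s ∈ layerIn X := by
    rcases hL.meets_four t s htX hsX ot os hne hts with h | h | h
    · exact (hnoinv t h htx).elim
    · exact h
    · refine (hnoinv _ h ?_).elim
      rw [show t * s * x * (t * s)⁻¹ = t * (s * x * s⁻¹) * t⁻¹ by group, hsx.eq,
        mul_inv_cancel_right, htx]
  -- `s` centralises `O_r(N) ⊓ X`
  have hoddN : ∀ r : ℕ, r.Prime → pCoreIn r N ≠ ⊥ → r ≠ 2 := fun r hr h =>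
    hodd r hr fun h' => h (by rw [hN, ← pCoreIn_map_equiv, h', Subgroup.map_bot])
  have hsfix : ∀ r : ℕ, r.Prime → r ≠ 2 → ∀ k ∈ pCoreIn r N ⊓ X, Commute k s := by
    intro r hr hr2 k hk
    haveI := Fact.mk hr
    have hc := htorus s r _ hr hr2 (isPGroup_pCoreIn (p := r) N) os hsX
      (hCs.trans (le_normalizer_pCoreIn N)) k hk
    have hks : ⁅k, s⁆ ∈ pCoreIn r N :=
      Subgroup.le_normalizer_iff_commutator_le_left.mp
        (zpowers_le.2 (le_normalizer_pCoreIn N (hCs (mem_centralizer_singleton_iff.2 rfl))))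
        (commutator_mem_commutator hk.1 (mem_zpowers s))
    exact commute_of_commute_commutator hss hr2 (isPGroup_pCoreIn N) hks
      (hL.commute_core s hsL _ hc).eq.symm
  have hall : ∀ r : ℕ, r.Prime → pCoreIn r N ≤ centralizer ({s} : Set G) := by
    intro r hr
    haveI := Fact.mk hr
    by_cases hb : pCoreIn r N = ⊥
    · rw [hb]; exact bot_le
    have hr2 := hoddN r hr hb
    by_cases hrp : r = p
    swap
    · intro v hv
      have hvX : v ∈ X := hCX (mem_centralizer_singleton_iff.2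
        (mem_centralizer_iff.1 (exchange (Ne.symm hrp) hp hr2 htt htx hxF hxN htN hCt) v hv))
      exact mem_centralizer_singleton_iff.2 (hsfix r hr hr2 v ⟨hv, hvX⟩).eq
    subst hrp
    -- `<s> × <x>` on `O_p(N)`
    have hA : zpowers s ≤ centralizer (pCoreIn r N : Set G) := by
      refine Coprime.thompson_AxB ((isPGroup_pCoreIn (p := r) M).to_le (zpowers_le.2 hxF)) ?_ ?_ _
        (isPGroup_pCoreIn (p := r) N) (zpowers_le.2 (le_normalizer_pCoreIn N hxN))
        (zpowers_le.2 (le_normalizer_pCoreIn N (hCs (mem_centralizer_singleton_iff.2 rfl)))) ?_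
      · rw [Nat.card_zpowers, os]
        exact (Nat.coprime_primes Nat.prime_two Fact.out).mpr (Ne.symm hr2)
      · rw [zpowers_le, mem_centralizer_iff]
        intro y hy
        obtain ⟨k, rfl⟩ := mem_zpowers_iff.1 hy
        exact (hsx.zpow_left k).eq
      · rintro v ⟨hv, hvx⟩
        intro y hy
        obtain ⟨k, rfl⟩ := mem_zpowers_iff.1 hy
        have hvX : v ∈ X :=
          hCX (mem_centralizer_singleton_iff.2 (mem_centralizer_iff.1 hvx x (mem_zpowers x)).symm)
        exact ((hsfix r hr hr2 v ⟨hv, hvX⟩).symm.zpow_left k).eq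
    exact fun v hv => mem_centralizer_singleton_iff.2
      (mem_centralizer_iff.1 (hA (mem_zpowers s)) v hv)
  have h1 := mem_centralizer_singleton_iff.1
    (hall p Fact.out (show φ x ∈ pCoreIn p N by
      rw [hN, ← pCoreIn_map_equiv]; exact ⟨x, hxF, rfl⟩))
  rw [hφ, MulAut.conj_apply, ← hgt] at h1
  have h2 : x * t = t * x :=
    mul_left_cancel (a := g) (mul_right_cancel (b := g⁻¹) (by simpa [mul_assoc] using h1))
  rw [← h2, mul_inv_cancel_right] at htx
  refine hx1 (orderOf_eq_one_iff.1 ?_)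
  have h3 : orderOf x ∣ 2 := orderOf_dvd_of_pow_eq_one (by
    rw [sq]; nth_rewrite 2 [htx]; exact mul_inv_cancel x)
  rcases (Nat.dvd_prime Nat.prime_two).1 h3 with h | h
  · exact h
  · rw [h] at hpodd; exact absurd hpodd (by decide)

/-- A maximal subgroup over `N(<x>)`, `x` inverted by `t` and eigen, has no component. -/
theorem layer_eq_bot_eigen {M : Subgroup G} {t s g : G} (ot : orderOf t = 2)
    (os : orderOf s = 2) (hne : t ≠ s) (hts : Commute t s) (hgt : g * t * g⁻¹ = s)
    (hgs : g * s * g⁻¹ = t * s)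
    (hLS : ∀ X : Subgroup G, X ≠ ⊤ → layerIn X ≠ ⊥ → GW.LayerShape X)
    (hCt : centralizer ({t} : Set G) ≤ M)
    (hodd : ∀ r : ℕ, r.Prime → pCoreIn r M ≠ ⊥ → r ≠ 2) :
    ∀ (r : ℕ) (x : G), r.Prime → x ∈ pCoreIn r M → x ≠ 1 → t * x * t⁻¹ = x⁻¹ →
      Eigen t s x → ∀ X : Subgroup G, IsCoatom X →
        normalizer ((zpowers x : Subgroup G) : Set G) ≤ X → Cfsg.layer X = ⊥ := by
  intro r x hr hx hx1 htx heig X hX hXle
  haveI := Fact.mk hr
  have htt : t * t = 1 := H39.mul_self_of_orderOf_eq_two ot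
  have hss : s * s = 1 := H39.mul_self_of_orderOf_eq_two os
  have htM : t ∈ M := hCt (mem_centralizer_singleton_iff.2 rfl)
  have hsM : s ∈ M := hCt (mem_centralizer_singleton_iff.2 hts.eq.symm)
  have hgts : g⁻¹ * t * g = t * s := by
    have h1 : g * (t * s) * g⁻¹ = t := by
      calc g * (t * s) * g⁻¹ = (g * t * g⁻¹) * (g * s * g⁻¹) := by group
        _ = s * (t * s) := by rw [hgt, hgs]
        _ = s * (s * t) := by rw [hts.eq]
        _ = t := by rw [← mul_assoc, hss, one_mul]
    calc g⁻¹ * t * g = g⁻¹ * (g * (t * s) * g⁻¹) * g := by rw [h1]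
      _ = t * s := by group
  rcases heig.2 with h | h
  · exact layer_eq_bot_fixed ot os hne hts hgt (hgts ▸ mul_mem htM hsM) (hLS X hX.1) hCt hodd hx hx1
      htx (mul_inv_eq_iff_eq_mul.mp h) hXle
  · have o' : orderOf (t * s) = 2 := by
      rw [← hgs, H39.orderOf_conj, os]
    have hne' : t ≠ t * s := fun e => by
      have h1 : (1 : G) = s := mul_left_cancel (a := t) (by rwa [mul_one])
      rw [← h1, orderOf_one] at os
      omega
    refine layer_eq_bot_fixed (s := t * s) (g := g⁻¹) ot o' hne' ((Commute.refl t).mul_right hts)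
      (by rw [inv_inv]; exact hgts) (by rw [inv_inv, hgt]; exact hsM) (hLS X hX.1) hCt hodd hx hx1
      htx ?_ hXle
    refine mul_inv_eq_iff_eq_mul.mp ?_
    rw [show t * s * x * (t * s)⁻¹ = t * (s * x * s⁻¹) * t⁻¹ by group, h,
      show t * x⁻¹ * t⁻¹ = (t * x * t⁻¹)⁻¹ by group, htx, inv_inv]

end Cfsg.Agent.H77.GW
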