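import Cfsg.Agent.H82.GW.Setting
import Cfsg.Agent.H35.GW.Kill
import Cfsg.Agent.H60.GW.SinglePrime
import Cfsg.Agent.H77.GW.Exchange

/-!
# GW programme: a moved maximal subgroup over `C(t)` separates one of the two sides

A conjugation of `s` to `c * s` in `M` needs `M` to have one class of involutions, and then
`M` has index at most two (at most five for a four group).
-/

set_option autoImplicit false
set_option linter.style.haveILetI false
set_option linter.unusedSectionVars false

namespace Cfsg.Agent.H77.GW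

open Subgroup
open Cfsg.Agent.Components (pCoreIn isPGroup_pCoreIn)
open Cfsg.Agent.H39 (DGen)
open scoped commutatorElement

universe u

variable {G : Type u} [Group G] [Finite G] {S : Sylow 2 G} {l : ℕ} {c s : G}

theorem sylow_le_of_centralizer_le (hD : DGen (S : Subgroup G) l c s) {M : Subgroup G}
    (hCt : centralizer ({c ^ l} : Set G) ≤ M) : (S : Subgroup G) ≤ M :=
  fun _ hv => hCt (mem_centralizer_singleton_iff.2 (hD.z_central hv))

/-- The same Sylow subgroup seen from the other side. -/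
theorem dgen_swap (hD : DGen (S : Subgroup G) l c s) : DGen (S : Subgroup G) l c (c * s) := by
  refine ⟨hD.lpos, hD.mem_c, mul_mem hD.mem_c hD.mem_s, hD.oc, ?_, ?_, ?_, fun g hg => ?_⟩
  · simpa using hD.orderOf_out 1
  · rw [mul_inv_rev, show c * s * c * (s⁻¹ * c⁻¹) = c * (s * c * s⁻¹) * c⁻¹ by group, hD.inv]
    group
  · simpa using hD.out_not_mem 1
  · refine (hD.cases g hg).imp id fun hg' => ?_
    have e : g * (c * s) = (g * s) * c⁻¹ := by
      have h3 : s * c⁻¹ * s⁻¹ = c := by
        have := congrArg (·⁻¹) hD.inv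
        simpa [mul_assoc] using this
      calc g * (c * s) = g * (s * c⁻¹ * s⁻¹ * s) := by rw [h3]
        _ = _ := by group
    rw [e]
    exact mul_mem hg' (inv_mem (mem_zpowers c))

/-- The dihedral generators inside a subgroup containing the Sylow subgroup. -/
theorem dgen_sub (hD : DGen (S : Subgroup G) l c s) {M : Subgroup G} (hSM : (S : Subgroup G) ≤ M) :
    DGen ((S.subtype hSM : Sylow 2 M) : Subgroup M) l (⟨c, hSM hD.mem_c⟩ : M)
      (⟨s, hSM hD.mem_s⟩ : M) := by
  have hz : ∀ x : M, x ∈ zpowers (⟨c, hSM hD.mem_c⟩ : M) ↔ (x : G) ∈ zpowers c := fun x => by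
    simp only [mem_zpowers_iff]
    exact exists_congr fun i => by rw [Subtype.ext_iff, Subgroup.coe_zpow]
  have hcoe : (((S.subtype hSM : Sylow 2 M)) : Subgroup M) = (S : Subgroup G).subgroupOf M :=
    Sylow.coe_subtype _ _
  exact
    { lpos := hD.lpos
      mem_c := by rw [hcoe]; exact hD.mem_c
      mem_s := by rw [hcoe]; exact hD.mem_s
      oc := by rw [← Subgroup.orderOf_coe]; exact hD.oc
      os := by rw [← Subgroup.orderOf_coe]; exact hD.os
      inv := Subtype.ext hD.inv
      out := fun h1 => hD.out ((hz _).1 h1)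
      cases := fun g hg => by
        rw [hcoe] at hg
        rw [hz, hz]
        exact hD.cases g hg }

/-- A reflection is never conjugate to `c` times itself inside the dihedral group. -/
theorem not_conj_out (hD : DGen (S : Subgroup G) l c s) {g : G} (hg : g ∈ (S : Subgroup G)) :
    g * s * g⁻¹ ≠ c * s := by
  intro h
  obtain ⟨j, hj⟩ : ∃ j : ℤ, g * s * g⁻¹ = c ^ (2 * j) * s := by
    by_cases hgc : g ∈ zpowers c
    · obtain ⟨j, rfl⟩ := mem_zpowers_iff.1 hgc
      have := hD.conj_reflection 0 j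
      rw [zpow_zero, one_mul, zero_add] at this
      exact ⟨j, this⟩
    · obtain ⟨j, rfl⟩ := hD.out_form hg hgc
      have := hD.conj_reflection 0 j
      rw [zpow_zero, one_mul, zero_add] at this
      refine ⟨j, ?_⟩
      rw [← this]
      group
  rw [h] at hj
  have h1 : c ^ (2 * j - 1) = 1 := by
    rw [zpow_sub, zpow_one, ← mul_right_cancel hj, mul_inv_cancel]
  have h2 := orderOf_dvd_iff_zpow_eq_one.2 h1
  rw [hD.oc] at h2
  have h3 : (2 : ℤ) ∣ 2 * j - 1 := dvd_trans ⟨(l : ℤ), by push_cast; rfl⟩ h2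
  omega

theorem card_mul_relIndex_eq {H : Type*} [Group H] {A B : Subgroup H} (h : A ≤ B) :
    Nat.card A * A.relIndex B = Nat.card B := by
  rw [← relIndex_bot_left, relIndex_mul_relIndex _ _ _ bot_le h, relIndex_bot_left]

/-- If `M` has no subgroup of index two all its involutions are conjugate. -/
theorem conj_z_of_no_index_two (hD : DGen (S : Subgroup G) l c s) {M : Subgroup G}
    (hSM : (S : Subgroup G) ≤ M) (hno : ∀ H : Subgroup M, H.index ≠ 2) (v : M)
    (hv : orderOf v = 2) : IsConj ((⟨c, hSM hD.mem_c⟩ : M) ^ l) v :=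
  (dgen_sub hD hSM).isConj_z_of_no_index_two hno hv

/-- A subgroup conjugating `s` to `c * s` and containing no conjugation of `s` to `t` does not
exist. -/
theorem conj_t_of_conj_out (hD : DGen (S : Subgroup G) l c s) {M : Subgroup G}
    (hSM : (S : Subgroup G) ≤ M) {x : G} (hx : x ∈ M) (hxs : x * s * x⁻¹ = c * s) :
    ∃ y ∈ M, y * s * y⁻¹ = c ^ l := by
  haveI : Fact (Nat.Prime 2) := ⟨Nat.prime_two⟩
  set S' : Sylow 2 M := S.subtype hSM
  set c' : M := ⟨c, hSM hD.mem_c⟩ with hc'
  set s' : M := ⟨s, hSM hD.mem_s⟩ with hs'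
  have hD' : DGen (S' : Subgroup M) l c' s' := dgen_sub hD hSM
  by_cases hno : ∀ H : Subgroup M, H.index ≠ 2
  · obtain ⟨y, hy⟩ := isConj_iff.1 (conj_z_of_no_index_two hD hSM hno s' hD'.os).symm
    exact ⟨y, y.2, by simpa using congrArg Subtype.val hy⟩
  exfalso
  push Not at hno
  obtain ⟨H, hH⟩ := hno
  haveI := normal_of_index_eq_two hH
  set x' : M := ⟨x, hx⟩
  have hxs' : x' * s' * x'⁻¹ = c' * s' := Subtype.ext hxs
  have hsH : s' ∉ H := by
    intro hs
    have hcs : c' * s' ∈ H := hxs' ▸ Normal.conj_mem inferInstance s' hs x'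
    have hcH : c' ∈ H := (H.mul_mem_cancel_right hs).1 hcs
    have hSH : (S' : Subgroup M) ≤ H := fun g hg => by
      rcases hD'.cases g hg with h | h
      · exact zpowers_le.2 hcH h
      · exact (H.mul_mem_cancel_right hs).1 (zpowers_le.2 hcH h)
    have hd := index_dvd_of_le hSH
    rw [hH] at hd
    exact S'.not_dvd_index hd
  have hcH : c' ∈ H := by
    have hcs : c' * s' ∉ H := fun h => hsH (by
      have := Normal.conj_mem (inferInstance : H.Normal) (c' * s') h x'⁻¹
      rwa [← hxs', inv_inv, show x'⁻¹ * (x' * s' * x'⁻¹) * x' = s' by group] at this)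
    by_contra hc
    exact hcs ((mul_mem_iff_of_index_two hH).2 (iff_of_false hc hsH))
  -- `⟨c⟩` is a Sylow subgroup of `H`
  set cH : H := ⟨c', hcH⟩
  have hcHo : orderOf cH = 2 * l := by rw [← Subgroup.orderOf_coe, hD'.oc]
  have hcp : IsPGroup 2 (zpowers cH) := by
    refine ((S'.isPGroup'.comap_of_injective H.subtype H.subtype_injective).to_le ?_)
    rw [zpowers_le]
    exact hD'.mem_c
  obtain ⟨Q, hQ⟩ := hcp.exists_le_sylow
  have hScard : Nat.card (S' : Subgroup M) ≤ 2 * (2 * l) := by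
    have hc2 : Nat.card (zpowers c') = 2 * l := by rw [Nat.card_zpowers, hD'.oc]
    have hrel : (zpowers c').relIndex (S' : Subgroup M) ≤ 2 := by
      refine le_of_eq (relIndex_eq_two_iff.mpr ⟨s', hD'.mem_s, fun g hg => ?_⟩)
      by_cases hgc : g ∈ zpowers c'
      · exact Or.inr ⟨hgc, fun h => hD'.out ((Subgroup.mul_mem_cancel_left _ hgc).1 h)⟩
      · exact Or.inl ⟨(hD'.cases g hg).resolve_left hgc, hgc⟩
    rw [← card_mul_relIndex_eq hD'.zpowers_le, hc2, mul_comm 2 (2 * l)]
    exact Nat.mul_le_mul_left _ hrel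
  have hQcard : 2 * Nat.card (Q : Subgroup H) = Nat.card (S' : Subgroup M) := by
    rw [Q.card_eq_multiplicity, S'.card_eq_multiplicity, ← H.card_mul_index, hH,
      Nat.factorization_mul Nat.card_pos.ne' two_ne_zero, Finsupp.add_apply,
      Nat.Prime.factorization_self Nat.prime_two, pow_succ, mul_comm]
  have hQeq : zpowers cH = (Q : Subgroup H) :=
    eq_of_le_of_card_ge hQ (by rw [Nat.card_zpowers, hcHo]; omega)
  haveI hcyc : IsCyclic (Q : Subgroup H) := hQeq ▸ inferInstance
  have hHeven : 2 ∣ Nat.card H := by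
    refine dvd_trans ?_ (zpowers cH).card_subgroup_dvd_card
    rw [Nat.card_zpowers, hcHo]
    exact dvd_mul_right 2 l
  have hmin : (Nat.card H).minFac = 2 := (Nat.minFac_eq_two_iff _).2 hHeven
  have hK := IsCyclic.isComplement' hmin hcyc
  set K := (MonoidHom.transferSylow Q (hcyc.normalizer_le_centralizer hmin)).ker with hKdef
  have hKodd : Odd (Nat.card K) := by
    rw [← Nat.not_even_iff_odd, even_iff_two_dvd, ← hK.index_eq_card]
    exact Q.not_dvd_index
  set N : Subgroup M := (Cfsg.oddCore H).map H.subtype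
  haveI : (Cfsg.oddCore H).Characteristic := Cores.pPrimeCore_characteristic
  haveI : N.Normal := inferInstance
  have hNodd : Odd (Nat.card N) := by
    rw [Subgroup.card_map_of_injective H.subtype_injective]
    exact Cores.odd_card_oddCore
  have hKN : K.map H.subtype ≤ N := map_mono (Cores.le_oddCore hKodd)
  have hHN : ∀ h ∈ H, ∃ n ∈ N, ∃ q ∈ (S' : Subgroup M), h = n * q := by
    intro h hh
    obtain ⟨⟨k, q⟩, hkq⟩ := hK.2 ⟨h, hh⟩
    refine ⟨(k : H), hKN ⟨k, k.2, rfl⟩, (q : H), ?_, (congrArg Subtype.val hkq).symm⟩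
    have hq : (q : H) ∈ zpowers cH := hQeq.ge q.2
    obtain ⟨i, hi⟩ := mem_zpowers_iff.1 hq
    rw [← hi]
    exact (S' : Subgroup M).zpow_mem hD'.mem_c i
  obtain ⟨n, hn, g, hg, hxng⟩ : ∃ n ∈ N, ∃ g ∈ (S' : Subgroup M), x' = n * g := by
    by_cases hxH : x' ∈ H
    · exact hHN x' hxH
    obtain ⟨n, hn, q, hq, he⟩ := hHN (x' * s') ((mul_mem_iff_of_index_two hH).2
      (iff_of_false hxH hsH))
    refine ⟨n, hn, q * s', mul_mem hq hD'.mem_s, ?_⟩
    rw [← mul_assoc, ← he, mul_assoc, H39.mul_self_of_orderOf_eq_two hD'.os, mul_one]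
  have hdiff : c' * s' * (g * s' * g⁻¹)⁻¹ ∈ N := by
    rw [← hxs', hxng, show n * g * s' * (n * g)⁻¹ * (g * s' * g⁻¹)⁻¹ =
      n * ((g * s' * g⁻¹) * n⁻¹ * (g * s' * g⁻¹)⁻¹) by group]
    exact mul_mem hn (Normal.conj_mem inferInstance _ (inv_mem hn) _)
  have hdS : c' * s' * (g * s' * g⁻¹)⁻¹ ∈ (S' : Subgroup M) :=
    mul_mem (mul_mem hD'.mem_c hD'.mem_s)
      (inv_mem (mul_mem (mul_mem hg hD'.mem_s) (inv_mem hg)))
  obtain ⟨a, ha⟩ := IsPGroup.iff_card.mp S'.isPGroup'
  have hbot : N ⊓ (S' : Subgroup M) = ⊥ := Coprime.inf_eq_bot (by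
    rw [ha]; exact (Nat.coprime_two_right.mpr hNodd).pow_right a)
  have h1 : c' * s' * (g * s' * g⁻¹)⁻¹ = 1 := (mem_bot (G := M)).1 (hbot.le ⟨hdiff, hdS⟩)
  exact not_conj_out hD' hg (mul_inv_eq_one.1 h1).symm

/-- A proper maximal subgroup over `C(t)` moving a prime does not fuse both `s` and `c * s`
into `t`. -/
theorem not_fused_both [IsSimpleGroup G]
    (hD : DGen (S : Subgroup G) l c s) {M : Subgroup G} (hM : IsCoatom M)
    (hCt : centralizer ({c ^ l} : Set G) ≤ M) {r : ℕ} [Fact r.Prime] (hr : r ≠ 2)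
    (hF : pCoreIn r M ≠ ⊥) {x y : G} (hx : x ∈ M) (hy : y ∈ M) (hxs : x * s * x⁻¹ = c ^ l)
    (hys : y * (c * s) * y⁻¹ = c ^ l) : False := by
  haveI : Fact (Nat.Prime 2) := ⟨Nat.prime_two⟩
  have hSM := sylow_le_of_centralizer_le hD hCt
  set S' : Sylow 2 M := S.subtype hSM
  set c' : M := ⟨c, hSM hD.mem_c⟩ with hc'
  set s' : M := ⟨s, hSM hD.mem_s⟩ with hs'
  have hD' : DGen (S' : Subgroup M) l c' s' := dgen_sub hD hSM
  have hno : ∀ H : Subgroup M, H.index ≠ 2 := by
    intro H hH
    haveI := normal_of_index_eq_two hH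
    have hxe : (⟨x, hx⟩ : M) * s' * (⟨x, hx⟩ : M)⁻¹ = c' ^ l := Subtype.ext (by simpa using hxs)
    have hye : (⟨y, hy⟩ : M) * (c' * s') * (⟨y, hy⟩ : M)⁻¹ = c' ^ l :=
      Subtype.ext (by simpa using hys)
    have hsH : s' ∈ H := by
      by_contra hs
      have h1 : c' ^ l ∉ H := fun h => hs (by
        rwa [← hxe, (inferInstance : H.Normal).mem_comm_iff, inv_mul_cancel_left] at h)
      have h2 : c' * s' ∉ H := fun h => h1 (hye ▸ Normal.conj_mem inferInstance _ h _)
      refine h1 (pow_mem ?_ l)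
      by_contra hc
      exact h2 ((mul_mem_iff_of_index_two hH).2 (iff_of_false hc hs))
    have hzH : c' ^ l ∈ H := hxe ▸ Normal.conj_mem inferInstance _ hsH _
    have hcsH : c' * s' ∈ H := by
      have := Normal.conj_mem (inferInstance : H.Normal) _ hzH (⟨y, hy⟩ : M)⁻¹
      rwa [← hye, inv_inv, show (⟨y, hy⟩ : M)⁻¹ * ((⟨y, hy⟩ : M) * (c' * s') * (⟨y, hy⟩ : M)⁻¹) *
        ⟨y, hy⟩ = c' * s' by group] at this
    have hcH : c' ∈ H := (H.mul_mem_cancel_right hsH).1 hcsH
    have hSH : (S' : Subgroup M) ≤ H := fun g hg => by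
      rcases hD'.cases g hg with h | h
      · exact zpowers_le.2 hcH h
      · exact (H.mul_mem_cancel_right hsH).1 (zpowers_le.2 hcH h)
    have hd := index_dvd_of_le hSH
    rw [hH] at hd
    exact S'.not_dvd_index hd
  have honeK : ∀ a b : M, orderOf a = 2 → orderOf b = 2 → IsConj a b := fun a b ha hb =>
    (hD'.isConj_z_of_no_index_two hno ha).symm.trans (hD'.isConj_z_of_no_index_two hno hb)
  have hone : ∀ a b : G, orderOf a = 2 → orderOf b = 2 → IsConj a b := fun a b ha hb =>
    (H60.GW.isConj_z hD ha).trans (H60.GW.isConj_z hD hb).symm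
  by_cases hl : 2 ≤ l
  · exact hM.1 (H35.GW.eq_top_of_one_class hD hl hone M hCt honeK)
  obtain rfl : l = 1 := by have := hD.lpos; omega
  rw [pow_one] at hCt hxs
  -- a four group: `|G : M| ≤ 5`
  have hoc : orderOf c = 2 := hD.oc
  have hcc : c * c = 1 := H39.mul_self_of_orderOf_eq_two hoc
  have h4 : Nat.card (S : Subgroup G) = 4 := by
    have hrel : (zpowers c).relIndex (S : Subgroup G) = 2 := by
      refine relIndex_eq_two_iff.mpr ⟨s, hD.mem_s, fun g hg => ?_⟩
      by_cases hgc : g ∈ zpowers c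
      · exact Or.inr ⟨hgc, fun h => hD.out ((Subgroup.mul_mem_cancel_left _ hgc).1 h)⟩
      · exact Or.inl ⟨(hD.cases g hg).resolve_left hgc, hgc⟩
    rw [← card_mul_relIndex_eq hD.zpowers_le, hrel, Nat.card_zpowers, hoc]
  have hexp : ∀ v ∈ (S : Subgroup G), v * v = 1 := by
    intro v hv
    rcases hD.cases v hv with h | h
    · obtain ⟨i, rfl⟩ := mem_zpowers_iff.1 h
      rw [← zpow_add, ← two_mul, zpow_mul, zpow_two, hcc, one_zpow]
    · obtain ⟨i, hi⟩ := mem_zpowers_iff.1 h
      have e : v = c ^ i * s := by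
        rw [hi, mul_assoc, H39.mul_self_of_orderOf_eq_two hD.os, mul_one]
      rw [e, hD.out_mul_self]
  have hk5 := H35.GW.klein_index_le_five S h4 hexp hone hD.mem_c hoc M hCt honeK
  have hkodd : ¬ 2 ∣ M.index := fun h => S.not_dvd_index (h.trans (index_dvd_of_le hSM))
  have hk1 : M.index ≠ 1 := fun h => hM.1 (index_eq_one.1 h)
  -- `G` embeds in the symmetric group on the cosets
  have hinj : Function.Injective (MulAction.toPermHom G (G ⧸ M)) := by
    rw [← MonoidHom.ker_eq_bot_iff, ← Subgroup.normalCore_eq_ker]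
    rcases IsSimpleGroup.eq_bot_or_eq_top_of_normal M.normalCore inferInstance with h | h
    · exact h
    · exact absurd (top_le_iff.1 (h ▸ M.normalCore_le)) hM.1
  have hdvd : Nat.card G ∣ M.index.factorial := by
    rw [index_eq_card, ← Nat.card_perm]
    exact card_dvd_of_injective _ hinj
  obtain ⟨a, ha⟩ : 4 ∣ Nat.card M := h4 ▸ card_dvd_of_le hSM
  obtain ⟨k, hk⟩ := IsPGroup.iff_card.mp (isPGroup_pCoreIn (p := r) M)
  have hFdvd : r ^ k ∣ 4 * a := ha ▸ hk ▸ card_dvd_of_le (pCoreIn_le_self M)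
  have hFdvd' : r ^ k ∣ a := by
    refine Nat.Coprime.dvd_of_dvd_mul_left ?_ hFdvd
    exact ((Nat.coprime_primes Fact.out Nat.prime_two).mpr hr).pow k 2
  rw [← M.card_mul_index, ha] at hdvd
  have hk0 : k ≠ 0 := fun h => hF (eq_bot_of_card_eq _ (by rw [hk, h, pow_zero]))
  have hr3 : 3 ≤ r ^ k :=
    le_trans (by have := (Fact.out : r.Prime).two_le; omega) (Nat.le_self_pow hk0 r)
  obtain ⟨hM12, hF3⟩ : Nat.card M = 12 ∧ Nat.card (pCoreIn r M) = 3 := by
    have hra : r ^ k ≤ a := Nat.le_of_dvd (by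
      rcases Nat.eq_zero_or_pos a with h | h
      · rw [h, mul_zero] at ha; exact absurd ha Nat.card_pos.ne'
      · exact h) hFdvd'
    have hodd : Odd (r ^ k) := ((Fact.out : r.Prime).odd_of_ne_two hr).pow
    have hidx : M.index = 3 ∨ M.index = 5 := by
      have h0 : M.index ≠ 0 := index_ne_zero_of_finite
      omega
    rcases hidx with h | h <;> rw [h] at hdvd
    · have h6 := Nat.le_of_dvd (by decide) hdvd
      simp [Nat.factorial] at h6
      omega
    · have hle := Nat.le_of_dvd (by decide) hdvd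
      simp [Nat.factorial] at hdvd hle
      have ha6 : a ≤ 6 := by omega
      have hS4 : Nat.card (S' : Subgroup M) = 4 := by
        rw [← h4]
        exact Nat.card_congr (Subgroup.subgroupOfEquivOfLe hSM).toEquiv
      have haodd : ¬ 2 ∣ a := by
        have h1 := (S' : Subgroup M).card_mul_index
        rw [hS4, ha] at h1
        rw [show a = (S' : Subgroup M).index by omega]
        exact S'.not_dvd_index
      obtain rfl : a = 3 := by interval_cases a <;> norm_num at hdvd <;> omega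
      have h3 := Nat.le_of_dvd (by norm_num) hFdvd'
      exact ⟨by rw [ha], by omega⟩
  -- `M / O_r(M)` is abelian
  set N : Subgroup M := Cfsg.pCore r M
  haveI : N.Normal := inferInstance
  have hN3 : Nat.card N = 3 := by
    rw [← hF3]; exact (Subgroup.card_map_of_injective M.subtype_injective).symm
  have hQ4 : Nat.card (M ⧸ N) = 2 ^ 2 := by
    have := N.card_mul_index
    rw [hN3, hM12, index_eq_card] at this
    omega
  have hmem : ⁅(⟨x, hx⟩ : M), s'⁆ ∈ N := by
    rw [← QuotientGroup.eq_one_iff, ← QuotientGroup.mk'_apply, map_commutatorElement,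
      commutatorElement_eq_one_iff_mul_comm]
    exact (IsPGroup.isMulCommutative_of_card_eq_prime_sq hQ4).is_comm.comm _ _
  have hval : ((⁅(⟨x, hx⟩ : M), s'⁆ : M) : G) = c * s := by
    show x * s * x⁻¹ * s⁻¹ = c * s
    rw [hxs, inv_eq_of_mul_eq_one_right (H39.mul_self_of_orderOf_eq_two hD.os)]
  have ho := Subgroup.orderOf_dvd_natCard N hmem
  rw [← Subgroup.orderOf_coe, hval, hN3] at ho
  rw [show orderOf (c * s) = 2 by simpa using hD.orderOf_out 1] at ho
  omega

/-- A moved maximal subgroup over `C(t)` separates one of the two sides. -/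
theorem exists_separates [IsSimpleGroup G]
    (hD : DGen (S : Subgroup G) l c s) {M : Subgroup G} (hM : IsCoatom M)
    (hCt : centralizer ({c ^ l} : Set G) ≤ M) {r : ℕ} [Fact r.Prime] (hr : r ≠ 2)
    (hF : pCoreIn r M ≠ ⊥) :
    GW.Separates M (c ^ l) s (c * s) ∨ GW.Separates M (c ^ l) (c * s) (c * (c * s)) := by
  have hSM := sylow_le_of_centralizer_le hD hCt
  by_contra hno
  rw [not_or] at hno
  obtain ⟨h1, h2⟩ := hno
  simp only [GW.Separates, not_forall, exists_prop, not_and_or, not_not] at h1 h2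
  obtain ⟨x, hx, hxs⟩ := h1
  obtain ⟨y, hy, hys⟩ := h2
  obtain ⟨x₁, hx₁, hx₁s⟩ : ∃ z ∈ M, z * s * z⁻¹ = c ^ l := by
    rcases hxs with h | h
    · exact ⟨x, hx, h⟩
    · exact conj_t_of_conj_out hD hSM hx h
  obtain ⟨y₁, hy₁, hy₁s⟩ : ∃ z ∈ M, z * (c * s) * z⁻¹ = c ^ l := by
    rcases hys with h | h
    · exact ⟨y, hy, h⟩
    · exact conj_t_of_conj_out (dgen_swap hD) hSM hy h
  exact not_fused_both hD hM hCt hr hF hx₁ hy₁ hx₁s hy₁s

end Cfsg.Agent.H77.GW
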