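import Cfsg.Agent.H77.GW.Member
import Cfsg.Agent.H77.GW.Discharge
import Cfsg.Agent.H77.GW.DischargeSingle
import Cfsg.Agent.H77.GW.Sides
import Cfsg.Agent.H36.GW.Layer

/-!
# GW programme: `FittingStep` from `LayerStep`

Every maximal subgroup over `C(t)` has its Fitting subgroup centralised by `t`.
-/

set_option autoImplicit false
set_option linter.style.haveILetI false
set_option linter.unusedSectionVars false

namespace Cfsg.Agent.H77.GW

open Subgroup
open Cfsg.Agent.Components (pCoreIn isPGroup_pCoreIn fitIn layerIn)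
open Cfsg.Agent.H39 (DGen)

universe u

variable {G : Type u} [Group G] [Finite G] {S : Sylow 2 G} {l : ℕ} {c s : G}

/-- `t` does not move `O_2(M)`. -/
theorem ne_two_of_moves (hD : DGen (S : Subgroup G) l c s) {M : Subgroup G}
    (hCt : centralizer ({c ^ l} : Set G) ≤ M) {r : ℕ} (h : Moves (c ^ l) M r) : r ≠ 2 := by
  rintro rfl
  haveI : Fact (Nat.Prime 2) := ⟨Nat.prime_two⟩
  have hSM := sylow_le_of_centralizer_le hD hCt
  refine h fun v hv => ?_
  obtain ⟨w, hw, rfl⟩ := hv
  exact mem_centralizer_singleton_iff.2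
    (hD.z_central (show (w : G) ∈ (S : Subgroup G) from Cores.pCore_le_sylow (S.subtype hSM) hw))

/-- A moved maximal subgroup over `C(t)` has a Fitting subgroup of odd order. -/
theorem pCoreIn_two_eq_bot [IsSimpleGroup G] (hD : DGen (S : Subgroup G) l c s) {M : Subgroup G}
    (hCt : centralizer ({c ^ l} : Set G) ≤ M) {r : ℕ} [Fact r.Prime]
    (h : Moves (c ^ l) M r) : pCoreIn 2 M = ⊥ := by
  haveI : Fact (Nat.Prime 2) := ⟨Nat.prime_two⟩
  have hr := ne_two_of_moves hD hCt h
  have hSM := sylow_le_of_centralizer_le hD hCt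
  set t := c ^ l with ht
  set P := pCoreIn 2 M with hP
  have hPS : P ≤ (S : Subgroup G) := by
    rintro _ ⟨w, hw, rfl⟩
    exact Cores.pCore_le_sylow (S.subtype hSM) hw
  by_contra hne
  by_cases htP : t ∈ P
  · refine h fun v hv => mem_centralizer_singleton_iff.2 ?_
    exact (commute_cross (p := r) (r := 2) hr hv (pCoreIn_le_self M hv) htP
      (pCoreIn_le_self M htP)).eq
  -- `P = {1, z}` with `z` central in `M`
  have hcyc : ∀ a ∈ P, a ∈ zpowers c → a = 1 := by
    intro a ha hac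
    by_contra ha1
    obtain ⟨k, hk⟩ := IsPGroup.iff_orderOf.1 (isPGroup_pCoreIn (p := 2) M) ⟨a, ha⟩
    rw [Subgroup.orderOf_mk] at hk
    match k, hk with
    | 0, hk => exact ha1 (orderOf_eq_one_iff.1 (by simpa using hk))
    | k + 1, hk =>
      have hb : orderOf (a ^ 2 ^ k) = 2 := by
        rw [orderOf_pow' a (pow_ne_zero k two_ne_zero), hk,
          Nat.gcd_eq_right (pow_dvd_pow 2 k.le_succ), pow_succ, Nat.mul_div_cancel_left _ (by positivity)]
      rcases hD.sq_one_cases (pow_mem hac _) (H39.mul_self_of_orderOf_eq_two hb) with e | e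
      · exact H39.ne_one_of_orderOf_eq_two hb e
      · exact htP (by rw [ht, ← e]; exact pow_mem ha _)
  obtain ⟨z, hz, hz1⟩ := (P.bot_or_exists_ne_one).resolve_left hne
  have hall : ∀ a ∈ P, a = 1 ∨ a = z := by
    intro a ha
    by_cases ha1 : a = 1
    · exact Or.inl ha1
    refine Or.inr ?_
    have h1 : a * z ∈ zpowers c := (hD.mul_out (hPS ha) (hPS hz)).2
      (iff_of_false (fun e => ha1 (hcyc a ha e)) (fun e => hz1 (hcyc z hz e)))
    have h2 : z * z ∈ zpowers c := (hD.mul_out (hPS hz) (hPS hz)).2 Iff.rfl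
    have e1 := hcyc _ (mul_mem ha hz) h1
    have e2 := hcyc _ (mul_mem hz hz) h2
    exact mul_right_cancel (e1.trans e2.symm)
  have hzz : z * z = 1 := hcyc _ (mul_mem hz hz) ((hD.mul_out (hPS hz) (hPS hz)).2 Iff.rfl)
  have hzo : orderOf z = 2 := H39.orderOf_eq_two_of_mul_self hzz hz1
  have hMz : M ≤ centralizer ({z} : Set G) := by
    intro m hm
    refine mem_centralizer_singleton_iff.2 ?_
    rcases hall _ (Coprime.conj_mem (le_normalizer_pCoreIn M hm) hz) with e | e
    · exact absurd (conj_eq_one_iff.1 e) hz1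
    · exact mul_inv_eq_iff_eq_mul.1 e
  obtain ⟨g, hg⟩ := isConj_iff.1 (H60.GW.isConj_z hD hzo)
  have hcard : Nat.card (centralizer ({z} : Set G)) ≤ Nat.card (centralizer ({t} : Set G)) := by
    refine Nat.card_le_card_of_injective (fun v => ⟨g * v * g⁻¹,
      mem_centralizer_singleton_iff.2 ?_⟩) fun a b e =>
        Subtype.ext (mul_left_cancel (mul_right_cancel (congrArg Subtype.val e)))
    rw [ht, ← hg]
    calc g * v * g⁻¹ * (g * z * g⁻¹) = g * (v * z) * g⁻¹ := by group
      _ = g * (z * v) * g⁻¹ := by rw [mem_centralizer_singleton_iff.1 v.2]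
      _ = g * z * g⁻¹ * (g * v * g⁻¹) := by group
  exact h fun v hv =>
    (eq_of_le_of_card_ge (hCt.trans hMz) hcard).ge (hMz (pCoreIn_le_self M hv))

/-- A moved prime excludes components. -/
theorem layer_eq_bot_of_moves (hD : DGen (S : Subgroup G) l c s) {M : Subgroup G}
    (hLS : layerIn M ≠ ⊥ → GW.LayerShape M) (hCt : centralizer ({c ^ l} : Set G) ≤ M) {r : ℕ}
    [Fact r.Prime] (h : Moves (c ^ l) M r) : Cfsg.layer M = ⊥ :=
  layer_eq_bot_over hD hLS hCt (ne_two_of_moves hD hCt h) h (pCoreIn_le_self M) hCt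

/-- The contradiction on the separated side. -/
theorem false_of_separates [IsSimpleGroup G] (hnab : ¬ IsMulCommutative G)
    (hD : DGen (S : Subgroup G) l c s)
    (hLS : ∀ X : Subgroup G, X ≠ ⊤ → layerIn X ≠ ⊥ → GW.LayerShape X)
    {M : Subgroup G} (hM : IsCoatom M) (hCt : centralizer ({c ^ l} : Set G) ≤ M)
    (hsep : GW.Separates M (c ^ l) s (c * s)) (hmax : MovedMax (c ^ l) M)
    {r : ℕ} [Fact r.Prime] (h : Moves (c ^ l) M r) : False := by
  have hEM := layer_eq_bot_of_moves hD (hLS M hM.1) hCt h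
  have h2 := pCoreIn_two_eq_bot hD hCt h
  have hodd : ∀ q : ℕ, q.Prime → pCoreIn q M ≠ ⊥ → q ≠ 2 := fun q _ hq e => hq (e ▸ h2)
  by_cases htwo : ∀ p : ℕ, ∃ q : ℕ, q.Prime ∧ q ≠ p ∧ pCoreIn q M ≠ ⊥
  swap
  · -- one prime: FUSION
    push Not at htwo
    obtain ⟨p, hp⟩ := htwo
    have hpr : r = p := by
      by_contra e
      exact h ((hp r Fact.out e).symm ▸ bot_le)
    subst hpr
    have hF : IsPGroup r (fitIn M) := by
      refine (isPGroup_pCoreIn (p := r) M).to_le ?_
      rw [fitIn, Components.fitting_eq_iSup_pCore, Subgroup.map_iSup]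
      refine iSup_le fun q => ?_
      by_cases hqr : (q : ℕ) = r
      · exact hqr ▸ le_rfl
      · exact (hp _ (Nat.prime_of_mem_primeFactors q.2) hqr).le.trans bot_le
    refine h fun v hv => mem_centralizer_singleton_iff.2 ?_
    exact (H60.GW.commute_of_prime_fitting hD hM hCt hsep hEM (ne_two_of_moves hD hCt h) hF
      (Subgroup.map_mono (Components.pCore_le_fitting r) hv)).eq
  -- two primes
  obtain ⟨g, hgt, hgs⟩ := H36.GW.exists_fuses hD (hD.no_index_two fun a b ha hb =>
    (H60.GW.isConj_z hD ha).trans (H60.GW.isConj_z hD hb).symm)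
  have hsCt : s ∈ centralizer ({c ^ l} : Set G) :=
    mem_centralizer_singleton_iff.2 (hD.z_central hD.mem_s)
  have htM : c ^ l ∈ M := hCt (mem_centralizer_singleton_iff.2 rfl)
  have hg : g ∉ M := fun hgM => (hsep g⁻¹ (inv_mem hgM)).1 (by rw [← hgt]; group)
  have hts : Commute (c ^ l) s := (hD.z_central hD.mem_s).symm
  exact false_of_two_primes hnab hM hEM (H39.mul_self_of_orderOf_eq_two hD.z_order)
    (H39.mul_self_of_orderOf_eq_two hD.os) hts (H39.ne_one_of_orderOf_eq_two hD.z_order)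
    (H39.ne_one_of_orderOf_eq_two hD.os) (ne_s hD) hgt hgs hg htM (hCt hsCt) hCt hodd
    ⟨r, Fact.out, h⟩ htwo
    (centralizer_eigen_le hnab hD hLS hM hEM hCt hsep hodd htwo hmax ⟨r, Fact.out, h⟩)
    (layer_eq_bot_eigen hD.z_order hD.os (ne_s hD) hts hgt hgs hLS hCt hodd)

/-- **FittingStep.** -/
theorem fittingStep (hLS : GW.LayerStep (G := G)) : GW.FittingStep (G := G) := by
  intro S l c s hC M₀ hM₀ hCt₀ x hx
  haveI := hC.simple
  set t := c ^ l with ht
  suffices hall : ∀ M : Subgroup G, IsCoatom M → centralizer ({t} : Set G) ≤ M →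
      ∀ r : ℕ, r.Prime → ¬ Moves t M r by
    have hle : fitIn M₀ ≤ centralizer ({t} : Set G) := by
      rw [fitIn, Components.fitting_eq_iSup_pCore, Subgroup.map_iSup]
      exact iSup_le fun r => not_not.1 (hall M₀ hM₀ hCt₀ r (Nat.prime_of_mem_primeFactors r.2))
    exact mem_centralizer_singleton_iff.1 (hle hx)
  by_contra hno
  push Not at hno
  obtain ⟨M₁, hM₁, hCt₁, r₁, hr₁, hm₁⟩ := hno
  let π : Subgroup G → Set ℕ := fun X => {r | r.Prime ∧ Moves t X r}
  have hfin : ∀ X, (π X).Finite := by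
    intro X
    refine (Set.finite_Iic (Nat.card G)).subset fun r hr => ?_
    show r ≤ Nat.card G
    haveI := Fact.mk hr.1
    obtain ⟨k, hk⟩ := IsPGroup.iff_card.mp (isPGroup_pCoreIn (p := r) X)
    rcases k with _ | k
    · exact absurd ((eq_bot_of_card_eq _ (by simpa using hk)).le.trans bot_le) hr.2
    · refine Nat.le_of_dvd Nat.card_pos ((dvd_pow_self r k.succ_ne_zero).trans ?_)
      rw [← hk]
      exact (pCoreIn r X).card_subgroup_dvd_card
  let T := {X : Subgroup G // IsCoatom X ∧ centralizer ({t} : Set G) ≤ X ∧ (π X).Nonempty}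
  haveI : Nonempty T := ⟨⟨M₁, hM₁, hCt₁, r₁, hr₁, hm₁⟩⟩
  obtain ⟨⟨M, hM, hCt, r, hr, hm⟩, hMmax⟩ := Finite.exists_max fun X : T => (π X.1).ncard
  haveI := Fact.mk hr
  have hmax : MovedMax t M := by
    intro X hX hCX hsub q hq hqX
    have hs : π M ⊆ π X := fun a ha => ⟨ha.1, hsub a ha.1 ha.2⟩
    have heq := Set.eq_of_subset_of_ncard_le hs
      (hMmax ⟨X, hX, hCX, r, hr, hsub r hr hm⟩) (hfin X)
    exact (heq.symm.le ⟨hq, hqX⟩ : q ∈ π M).2
  rcases exists_separates hC.gen hM hCt (ne_two_of_moves hC.gen hCt hm)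
    (fun h => hm (h ▸ bot_le) : pCoreIn r M ≠ ⊥) with hsep | hsep
  · exact false_of_separates hC.nonab hC.gen (hLS S l c s hC) hM hCt hsep hmax hm
  · exact false_of_separates hC.nonab (dgen_swap hC.gen) (hLS S l c s hC) hM hCt hsep hmax hm

end Cfsg.Agent.H77.GW
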