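import Cfsg.Agent.H77.GW.Unique

/-!
# GW programme, lemma F2: the case of a single moved prime

`M`, `N` are maximal over `C(t)`, `C(s)` and `g` maps `t, s, M` to `s, ts, N`; all primes of
`F(M)` but `p` are centralised by `t`.  For `x ∈ O_p(M) ∩ N` inverted by `t`, the `π(F)'`-part
of a maximal subgroup over `N(<x>)` is trivial.
-/

set_option autoImplicit false
set_option linter.style.haveILetI false
set_option linter.unusedSectionVars false
set_option linter.unusedVariables false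

namespace Cfsg.Agent.H77.GW

open Subgroup
open Cfsg.Agent.Components (pCoreIn isPGroup_pCoreIn le_normalizer_map_subtype gFitIn fitIn)

variable {G : Type*} [Group G] [Finite G]

/-- Two elements inverted by `t`, one normalizing a subgroup inverted by `t`, commute. -/
theorem commute_of_both_inverted {t f : G} (htt : t * t = 1) (htf : t * f * t⁻¹ = f⁻¹)
    (hf : Odd (orderOf f)) {P : Subgroup G} (hfP : f ∈ normalizer (P : Set G))
    (hinv : ∀ v ∈ P, t * v * t⁻¹ = v⁻¹) : ∀ v ∈ P, Commute f v := by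
  intro v hv
  have h1 : t * (f * v * f⁻¹) * t⁻¹ = f * v⁻¹ * f⁻¹ := by
    rw [hinv _ (Coprime.conj_mem hfP hv)]
    simp [mul_assoc]
  have h2 : t * (f * v * f⁻¹) * t⁻¹ = f⁻¹ * v⁻¹ * f := by
    calc t * (f * v * f⁻¹) * t⁻¹
        = (t * f * t⁻¹) * (t * v * t⁻¹) * (t * f * t⁻¹)⁻¹ := by group
      _ = _ := by rw [htf, hinv v hv, inv_inv]
  have h3 : Commute (f ^ 2) v⁻¹ := by
    refine mul_inv_eq_iff_eq_mul.mp ?_
    calc f ^ 2 * v⁻¹ * (f ^ 2)⁻¹ = f * (f * v⁻¹ * f⁻¹) * f⁻¹ := by rw [sq]; simp [mul_assoc]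
      _ = f * (f⁻¹ * v⁻¹ * f) * f⁻¹ := by rw [← h1, h2]
      _ = v⁻¹ := by simp [mul_assoc]
  obtain ⟨m, hm⟩ := hf
  have hf2 : (f ^ 2) ^ (m + 1) = f := by
    rw [← pow_mul, show 2 * (m + 1) = orderOf f + 1 by omega, pow_succ, pow_orderOf_eq_one, one_mul]
  have h4 : Commute (f ^ 2) v := by simpa using h3.inv_right
  exact hf2 ▸ h4.pow_left (m + 1)

/-- A subgroup whose elements commute with one another, moved by `t`, contains a joint eigen
element inverted by `t`. -/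
theorem exists_inverted_eigen {t s : G} (htt : t * t = 1) (hss : s * s = 1) (hts : Commute t s)
    {U : Subgroup G} (htU : t ∈ normalizer (U : Set G)) (hsU : s ∈ normalizer (U : Set G))
    (hab : ∀ a ∈ U, ∀ b ∈ U, Commute a b) {v : G} (hv : v ∈ U) (hvt : ¬ Commute t v) :
    ∃ c ∈ U, c ≠ 1 ∧ Eigen t s c ∧ t * c * t⁻¹ = c⁻¹ := by
  have hti : t⁻¹ = t := inv_eq_of_mul_eq_one_right htt
  have hsi : s⁻¹ = s := inv_eq_of_mul_eq_one_right hss
  set w := v⁻¹ * (t * v * t⁻¹) with hw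
  have hwU : w ∈ U := mul_mem (inv_mem hv) (Coprime.conj_mem htU hv)
  have hw1 : w ≠ 1 := fun h => hvt (by
    have := (inv_mul_eq_one.1 h).symm
    exact mul_inv_eq_iff_eq_mul.mp this)
  have hwt : t * w * t⁻¹ = w⁻¹ := by simp [hw, mul_assoc, hti, htt]
  by_cases h : s * w * s⁻¹ = w
  · exact ⟨w, hwU, hw1, ⟨Or.inr hwt, Or.inl h⟩, hwt⟩
  set c := w⁻¹ * (s * w * s⁻¹) with hc
  have hsw : s * w * s⁻¹ ∈ U := Coprime.conj_mem hsU hwU
  have hts' : t * (s * w * s⁻¹) * t⁻¹ = (s * w * s⁻¹)⁻¹ := by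
    calc t * (s * w * s⁻¹) * t⁻¹ = (t * s) * w * (t * s)⁻¹ := by group
      _ = (s * t) * w * (s * t)⁻¹ := by rw [hts.eq]
      _ = s * (t * w * t⁻¹) * s⁻¹ := by group
      _ = _ := by rw [hwt]; group
  have hct : t * c * t⁻¹ = c⁻¹ := by
    calc t * c * t⁻¹ = (t * w * t⁻¹)⁻¹ * (t * (s * w * s⁻¹) * t⁻¹) := by rw [hc]; group
      _ = w * (s * w * s⁻¹)⁻¹ := by rw [hwt, hts', inv_inv]
      _ = c⁻¹ := by
        rw [hc, mul_inv_rev w⁻¹, inv_inv w]
        exact (hab w hwU _ (inv_mem hsw)).eq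
  refine ⟨c, mul_mem (inv_mem hwU) hsw, fun h1 => h (inv_mul_eq_one.1 h1).symm,
    ⟨Or.inr hct, Or.inr ?_⟩, hct⟩
  simp [hc, mul_assoc, hsi, hss]

/-- **Lemma F2.** With one moved prime `p`, the `π(F(M))'`-part of `F(X)` is trivial. -/
theorem pCoreIn_eq_bot_single [IsSimpleGroup G] {p : ℕ} [Fact p.Prime] (hp : p ≠ 2)
    {M N X : Subgroup G} (hM : IsCoatom M) (hN : IsCoatom N) (hne : M ≠ N)
    (hEM : Cfsg.layer M = ⊥) (hEN : Cfsg.layer N = ⊥) {t s g x : G} (htt : t * t = 1)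
    (hss : s * s = 1) (hts : Commute t s) (hgt : g * t * g⁻¹ = s) (hgs : g * s * g⁻¹ = t * s)
    (hconj : ∀ r : ℕ, (pCoreIn r M).map (MulAut.conj g).toMonoidHom = pCoreIn r N)
    (htM : t ∈ M) (hsM : s ∈ M) (htN : t ∈ N) (hsN : s ∈ N)
    (hCt : centralizer ({t} : Set G) ≤ M) (hCs : centralizer ({s} : Set G) ≤ N)
    (hxF : x ∈ pCoreIn p M) (htx : t * x * t⁻¹ = x⁻¹) (hsx : Commute s x)
    (hCx : centralizer ({x} : Set G) ≤ X) (htX : t ∈ X)
    (hxN' : gFitIn M ⊓ normalizer ((zpowers x : Subgroup G) : Set G) ≤ X)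
    (hodd : ∀ r : ℕ, r.Prime → pCoreIn r M ≠ ⊥ → r ≠ 2)
    (hfix : ∀ r : ℕ, r.Prime → r ≠ p → pCoreIn r M ≤ centralizer ({t} : Set G))
    (hUM : ∀ r : ℕ, r.Prime → ∀ c ∈ pCoreIn r M, c ≠ 1 → Eigen t s c →
      (r ≠ p ∨ c ∈ centralizer (pCoreIn r M : Set G)) → centralizer ({c} : Set G) ≤ M)
    (hUN : ∀ r : ℕ, r.Prime → ∀ c ∈ pCoreIn r N, c ≠ 1 → Eigen t s c →
      (r ≠ p ∨ c ∈ centralizer (pCoreIn r N : Set G)) → centralizer ({c} : Set G) ≤ N)
    (htwo : ∃ q : ℕ, q.Prime ∧ q ≠ p ∧ pCoreIn q M ≠ ⊥) (hpM : pCoreIn p M ≠ ⊥) :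
    ∀ r : ℕ, r.Prime → pCoreIn r M = ⊥ → pCoreIn r X = ⊥ := by
  intro r hr hrM
  haveI := Fact.mk hr
  have hrp : r ≠ p := fun h => hpM (h ▸ hrM)
  have hxN : x ∈ N := hCs (mem_centralizer_singleton_iff.2 hsx.eq.symm)
  have hxX : x ∈ X := hCx (mem_centralizer_singleton_iff.2 rfl)
  have hconj' : ∀ l : ℕ, pCoreIn l N = ⊥ ↔ pCoreIn l M = ⊥ := fun l => by
    rw [← hconj l, map_eq_bot_iff_of_injective _ (MulAut.conj g).injective]
  have hodN : ∀ l : ℕ, l.Prime → pCoreIn l N ≠ ⊥ → l ≠ 2 := fun l hl h =>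
    hodd l hl fun h' => h ((hconj' l).2 h')
  have hmem : ∀ l : ℕ, ∀ v ∈ pCoreIn l N, g⁻¹ * v * g ∈ pCoreIn l M := fun l v hv => by
    rw [← hconj l] at hv
    obtain ⟨w, hw, rfl⟩ := hv
    simpa [mul_assoc] using hw
  have hxl : ∀ l : ℕ, l.Prime → l ≠ p → ∀ v ∈ pCoreIn l N, v ∈ centralizer ({x} : Set G) := by
    intro l hl hlp v hv
    haveI := Fact.mk hl
    by_cases hb : pCoreIn l N = ⊥
    · rw [hb, Subgroup.mem_bot] at hv; rw [hv]; exact one_mem _
    exact mem_centralizer_singleton_iff.2 (mem_centralizer_iff.1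
      (exchange (Ne.symm hlp) hp (hodN l hl hb) htt htx hxF hxN htN hCt) v hv)
  -- the part of `O_r(X)` meeting `M` is trivial, and `t` inverts `O_r(X)`
  have hQF : zpowers x ≤ fitIn M :=
    zpowers_le.2 (map_mono (Components.pCore_le_fitting p) hxF)
  have hr' : ¬ r ∣ Nat.card (Cfsg.fittingSubgroup M) := fun h =>
    Components.pCore_ne_bot_iff.mpr h ((map_eq_bot_iff_of_injective _ M.subtype_injective).mp hrM)
  have hbot := Components.pCoreIn_inf_eq_bot hQF hxN' hr'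
  have hinv := inverts_of_fpf htt (le_normalizer_pCoreIn X htX) fun v hv hc =>
    (mem_bot (G := G)).1 (hbot.le ⟨hv, hCt (mem_centralizer_singleton_iff.2 hc.eq.symm)⟩)
  have hoddel : ∀ {l : ℕ} (hl : l.Prime) {K : Subgroup G}, l ≠ 2 → IsPGroup l K →
      ∀ v ∈ K, Odd (orderOf v) := by
    intro l hl K hl2 hK v hv
    obtain ⟨a, ha⟩ := hK ⟨v, hv⟩
    exact (hl.odd_of_ne_two hl2).pow.of_dvd_nat
      (orderOf_dvd_of_pow_eq_one (by simpa using congrArg Subtype.val ha))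
  have hxP := commute_of_both_inverted htt htx
    (hoddel Fact.out hp (isPGroup_pCoreIn (p := p) M) x hxF) (le_normalizer_pCoreIn X hxX) hinv
  -- (a) an inverted element of `Z(O_p(M))`
  by_cases hZ : ∃ v ∈ pCoreIn p M ⊓ centralizer (pCoreIn p M : Set G), ¬ Commute t v
  · obtain ⟨v, hv, hvt⟩ := hZ
    have hn : ∀ y ∈ M, y ∈ normalizer
        ((pCoreIn p M ⊓ centralizer (pCoreIn p M : Set G) : Subgroup G) : Set G) := fun y hy =>
      inf_normalizer_le_normalizer_inf ⟨le_normalizer_pCoreIn M hy,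
        Thompson.normalizer_le_normalizer_centralizer' _ (le_normalizer_pCoreIn M hy)⟩
    obtain ⟨c, ⟨hcF, hcC⟩, hc1, hce, hct⟩ := exists_inverted_eigen htt hss hts (hn t htM) (hn s hsM)
      (fun a ha b hb => (mem_centralizer_iff.1 hb.2 a ha.1)) hv hvt
    have hcX : c ∈ X := hCx (mem_centralizer_singleton_iff.2 (mem_centralizer_iff.1 hcC x hxF).symm)
    have hcP := commute_of_both_inverted htt hct
      (hoddel Fact.out hp (isPGroup_pCoreIn (p := p) M) c hcF) (le_normalizer_pCoreIn X hcX) hinv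
    rw [← le_bot_iff, ← hbot]
    exact fun y hy => ⟨hy, hUM p Fact.out c hcF hc1 hce (Or.inr hcC)
      (mem_centralizer_singleton_iff.2 (hcP y hy).eq.symm)⟩
  push Not at hZ
  -- (b) an element `f` of `C(x)` inverted by `t` with `C(f) ≤ N`
  by_cases hf : ∃ f : G, ∃ l : ℕ, l.Prime ∧ f ∈ pCoreIn l N ∧ f ≠ 1 ∧ f ∈ centralizer ({x} : Set G)
      ∧ Eigen t s f ∧ t * f * t⁻¹ = f⁻¹ ∧ (l ≠ p ∨ f ∈ centralizer (pCoreIn l N : Set G))
  · obtain ⟨f, l, hl, hfF, hf1, hfx, hfe, hft, hfl⟩ := hf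
    haveI := Fact.mk hl
    have hlN : pCoreIn l N ≠ ⊥ := fun h => hf1 ((mem_bot (G := G)).1 (h ▸ hfF))
    have hfP := commute_of_both_inverted htt hft
      (hoddel hl (hodN l hl hlN) (isPGroup_pCoreIn (p := l) N) f hfF)
      (le_normalizer_pCoreIn X (hCx hfx)) hinv
    have hCf := hUN l hl f hfF hf1 hfe hfl
    have hPN : pCoreIn r X ≤ N := fun y hy =>
      hCf (mem_centralizer_singleton_iff.2 (hfP y hy).eq.symm)
    have hrN : pCoreIn r N = ⊥ := (hconj' r).2 hrM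
    have hcent : ∀ m : ℕ, m.Prime → pCoreIn r X ≤ centralizer (pCoreIn m N : Set G) := by
      intro m hm
      haveI := Fact.mk hm
      by_cases hb : pCoreIn m N = ⊥
      · intro y _ v hv
        rw [hb, SetLike.mem_coe, Subgroup.mem_bot] at hv
        simp [hv]
      have hmr : r ≠ m := fun h => hb (h ▸ hrN)
      by_cases hmp : m = p
      · subst hmp
        obtain ⟨k, hk⟩ := IsPGroup.iff_card.mp (isPGroup_pCoreIn (p := r) X)
        refine Coprime.thompson_AxB ((isPGroup_pCoreIn (p := m) M).to_le (zpowers_le.2 hxF))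
          (hk ▸ ((Nat.coprime_primes hr hm).mpr hrp).pow_left k) ?_ _
          (isPGroup_pCoreIn (p := m) N) (zpowers_le.2 (le_normalizer_pCoreIn N hxN))
          (hPN.trans (le_normalizer_pCoreIn N)) ?_
        · rw [zpowers_le]
          intro y hy
          exact (hxP y hy).eq.symm
        · rintro v ⟨hv, hvx⟩
          have hvX : v ∈ X := hCx (mem_centralizer_singleton_iff.2
            (mem_centralizer_iff.1 hvx x (mem_zpowers x)).symm)
          intro y hy
          exact (commute_cross hmr hy (hPN hy) hv hvX).eq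
      · intro y hy v hv
        exact (commute_cross hmr hy (hPN hy) hv (hCx (hxl m hm hmp v hv))).eq.symm
    rw [← le_bot_iff]
    intro y hy
    have hyF : y ∈ fitIn N := by
      refine ⟨⟨y, hPN hy⟩, ?_, rfl⟩
      have h : (⟨y, hPN hy⟩ : N) ∈ Cfsg.generalizedFittingSubgroup N := by
        refine Components.centralizer_genFitting_le ?_
        rw [Components.genFitting_eq_sup, hEN, bot_sup_eq, Components.fitting_eq_iSup_pCore]
        intro z hz
        have hle : (⨆ q : (Nat.card N).primeFactors, Cfsg.pCore (q : ℕ) N)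
            ≤ centralizer ({(⟨y, hPN hy⟩ : N)} : Set N) := by
          refine iSup_le fun q v hv => mem_centralizer_singleton_iff.2 (Subtype.ext ?_)
          exact hcent q (Nat.prime_of_mem_primeFactors q.2) hy v ⟨v, hv, rfl⟩
        exact mem_centralizer_singleton_iff.1 (hle hz)
      rwa [Components.genFitting_eq_sup, hEN, bot_sup_eq] at h
    have hrN' : ¬ r ∣ Nat.card (Cfsg.fittingSubgroup N) := fun h =>
      Components.pCore_ne_bot_iff.mpr h ((map_eq_bot_iff_of_injective _ N.subtype_injective).mp hrN)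
    have hcop : (Nat.card (fitIn N)).Coprime r := by
      rw [Subgroup.card_map_of_injective N.subtype_injective]
      exact (hr.coprime_iff_not_dvd.mpr hrN').symm
    exact (Cores.disjoint_of_isPGroup_of_coprime (isPGroup_pCoreIn (p := r) X) hcop).le ⟨hy, hyF⟩
  -- (c) `Z(O_p(M)) ∩ D ≠ 1`, which forces `M = N`
  exfalso
  have hgti : g⁻¹ * s * g = t := by rw [← hgt]; group
  have hgts : g⁻¹ * t * g = t * s := by
    have h1 : g * (t * s) * g⁻¹ = t := by
      calc g * (t * s) * g⁻¹ = (g * t * g⁻¹) * (g * s * g⁻¹) := by group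
        _ = s * (t * s) := by rw [hgt, hgs]
        _ = s * (s * t) := by rw [hts.eq]
        _ = t := by rw [← mul_assoc, hss, one_mul]
    calc g⁻¹ * t * g = g⁻¹ * (g * (t * s) * g⁻¹) * g := by rw [h1]
      _ = t * s := by group
  have hpull : ∀ v : G, Commute s v → Commute t (g⁻¹ * v * g) := by
    intro v hv
    show t * (g⁻¹ * v * g) = g⁻¹ * v * g * t
    rw [← hgti]
    calc g⁻¹ * s * g * (g⁻¹ * v * g) = g⁻¹ * (s * v) * g := by group
      _ = g⁻¹ * (v * s) * g := by rw [hv.eq]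
      _ = g⁻¹ * v * g * (g⁻¹ * s * g) := by group
  have hpull' : ∀ v : G, Commute t v → Commute (t * s) (g⁻¹ * v * g) := by
    intro v hv
    show t * s * (g⁻¹ * v * g) = g⁻¹ * v * g * (t * s)
    rw [← hgts]
    calc g⁻¹ * t * g * (g⁻¹ * v * g) = g⁻¹ * (t * v) * g := by group
      _ = g⁻¹ * (v * t) * g := by rw [hv.eq]
      _ = g⁻¹ * v * g * (g⁻¹ * t * g) := by group
  have hpush : ∀ l : ℕ, ∀ v ∈ pCoreIn l N, Commute t (g⁻¹ * v * g) → Commute s v := by
    intro l v hv h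
    show s * v = v * s
    calc s * v = g * (t * (g⁻¹ * v * g)) * g⁻¹ := by rw [← hgt]; group
      _ = g * (g⁻¹ * v * g * t) * g⁻¹ := by rw [h.eq]
      _ = v * s := by rw [← hgt]; group
  have hfixN : ∀ l : ℕ, l.Prime → l ≠ p → ∀ v ∈ pCoreIn l N, Commute s v := fun l hl hlp v hv =>
    hpush l v hv (mem_centralizer_singleton_iff.1 (hfix l hl hlp (hmem l v hv))).symm
  have hgZ : ∀ v ∈ pCoreIn p N, v ∈ centralizer (pCoreIn p N : Set G) →
      g⁻¹ * v * g ∈ pCoreIn p M ⊓ centralizer (pCoreIn p M : Set G) := by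
    intro v hv hvc
    refine ⟨hmem p v hv, fun w hw => ?_⟩
    have hw' : g * w * g⁻¹ ∈ pCoreIn p N := by rw [← hconj p]; exact ⟨w, hw, rfl⟩
    calc w * (g⁻¹ * v * g) = g⁻¹ * ((g * w * g⁻¹) * v) * g := by group
      _ = g⁻¹ * (v * (g * w * g⁻¹)) * g := by rw [mem_centralizer_iff.1 hvc _ hw']
      _ = g⁻¹ * v * g * w := by group
  have hsti : t⁻¹ = t := inv_eq_of_mul_eq_one_right htt
  have hnot : ∀ l : ℕ, l.Prime → ∀ v ∈ pCoreIn l N, Commute s v → v ∈ centralizer ({x} : Set G) →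
      (l ≠ p ∨ v ∈ centralizer (pCoreIn l N : Set G)) → Commute t v := by
    intro l hl v hv hsv hvx hvl
    by_contra htv
    have hst' : Commute s (t * v * t⁻¹) := (hts.symm.mul_right hsv).mul_right hts.symm.inv_right
    refine hf ⟨v⁻¹ * (t * v * t⁻¹), l, hl, mul_mem (inv_mem hv)
      (Coprime.conj_mem (le_normalizer_pCoreIn N htN) hv), ?_, ?_, ⟨Or.inr ?_, Or.inl ?_⟩, ?_, ?_⟩
    · intro h
      exact htv (mul_inv_eq_iff_eq_mul.mp (inv_mul_eq_one.1 h).symm)
    · refine mul_mem (inv_mem hvx) (mem_centralizer_singleton_iff.2 ?_)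
      have h1 : Commute v x⁻¹ := (show Commute v x from mem_centralizer_singleton_iff.1 hvx).inv_right
      have hx' : t * x⁻¹ * t⁻¹ = x := by rw [← conj_inv, htx, inv_inv]
      calc t * v * t⁻¹ * x = t * v * t⁻¹ * (t * x⁻¹ * t⁻¹) := by rw [hx']
        _ = t * (v * x⁻¹) * t⁻¹ := by group
        _ = t * (x⁻¹ * v) * t⁻¹ := by rw [h1.eq]
        _ = (t * x⁻¹ * t⁻¹) * (t * v * t⁻¹) := by group
        _ = x * (t * v * t⁻¹) := by rw [hx']
    · simp [mul_assoc, hsti, htt]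
    · rw [(hsv.inv_right.mul_right hst').eq, mul_inv_cancel_right]
    · simp [mul_assoc, hsti, htt]
    · exact hvl.imp id fun hc => mul_mem (inv_mem hc) (Coprime.conj_mem
        (Thompson.normalizer_le_normalizer_centralizer' _ (le_normalizer_pCoreIn N htN)) hc)
  have htl : ∀ l : ℕ, l.Prime → l ≠ p → ∀ v ∈ pCoreIn l N, Commute t v := fun l hl hlp v hv =>
    hnot l hl v hv (hfixN l hl hlp v hv) (hxl l hl hlp v hv) (Or.inl hlp)
  -- `z' ∈ Z(O_p(N)) ∩ C(x)` lies in `C(t) ∩ C(s)`; so does `z = g⁻¹ z' g`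
  have hpN : pCoreIn p N ≠ ⊥ := fun h => hpM ((hconj' p).1 h)
  have hnN : ∀ y ∈ N, y ∈ normalizer
      ((pCoreIn p N ⊓ centralizer (pCoreIn p N : Set G) : Subgroup G) : Set G) := fun y hy =>
    inf_normalizer_le_normalizer_inf ⟨le_normalizer_pCoreIn N hy,
      Thompson.normalizer_le_normalizer_centralizer' _ (le_normalizer_pCoreIn N hy)⟩
  have hC0 := inf_centralizer_ne_bot
    ((isPGroup_pCoreIn (p := p) M).to_le (zpowers_le.2 hxF))
    ((isPGroup_pCoreIn (p := p) N).to_le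
      (inf_le_left : pCoreIn p N ⊓ centralizer (pCoreIn p N : Set G) ≤ _))
    (zpowers_le.2 (hnN x hxN))
    (inf_centralizer_ne_bot (isPGroup_pCoreIn (p := p) N) (isPGroup_pCoreIn (p := p) N)
      le_normalizer hpN)
  obtain ⟨z', ⟨⟨hz', hz'c⟩, hz'x⟩, hz'1⟩ := (Subgroup.bot_or_exists_ne_one _).resolve_left hC0
  have hz'x' : z' ∈ centralizer ({x} : Set G) :=
    mem_centralizer_singleton_iff.2 (mem_centralizer_iff.1 hz'x x (mem_zpowers x)).symm
  have hzZ := hgZ z' hz' hz'c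
  have hz's : Commute s z' := hpush p z' hz' (hZ _ hzZ)
  set z := g⁻¹ * z' * g with hz
  have hzt : Commute t z := hZ _ hzZ
  have hz't : Commute t z' := hnot p Fact.out z' hz' hz's hz'x' (Or.inr hz'c)
  have hzs : Commute s z := by
    have h := hzt.mul_left (hpull' z' hz't)
    rwa [← mul_assoc, htt, one_mul] at h
  have hzN : z ∈ N := hCs (mem_centralizer_singleton_iff.2 hzs.eq.symm)
  have hz1 : z ≠ 1 := fun h => hz'1 (by
    calc z' = g * z * g⁻¹ := by rw [hz]; group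
      _ = 1 := by rw [h]; group)
  have hCz := hUM p Fact.out z hzZ.1 hz1
    ⟨Or.inl (by rw [hzt.eq, mul_inv_cancel_right]), Or.inl (by rw [hzs.eq, mul_inv_cancel_right])⟩
    (Or.inr hzZ.2)
  obtain ⟨q, hq, hqp, hqne⟩ := htwo
  haveI := Fact.mk hq
  obtain ⟨e, he, he1⟩ := ((pCoreIn q M).bot_or_exists_ne_one).resolve_left hqne
  have heD : ∀ v ∈ pCoreIn q M, Commute t v ∧ Commute s v := by
    intro v hv
    have h1 : Commute t v := (mem_centralizer_singleton_iff.1 (hfix q hq hqp hv)).symm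
    refine ⟨h1, ?_⟩
    have hv' : g * v * g⁻¹ ∈ pCoreIn q N := by rw [← hconj q]; exact ⟨v, hv, rfl⟩
    have h2 := hpull' _ (htl q hq hqp _ hv')
    rw [show g⁻¹ * (g * v * g⁻¹) * g = v by group] at h2
    have h := h1.mul_left h2
    rwa [← mul_assoc, htt, one_mul] at h
  have heN : e ∈ N := hCs (mem_centralizer_singleton_iff.2 (heD e he).2.eq.symm)
  have hCe := hUM q hq e he he1 ⟨Or.inl (by rw [(heD e he).1.eq, mul_inv_cancel_right]),
    Or.inl (by rw [(heD e he).2.eq, mul_inv_cancel_right])⟩ (Or.inl hqp)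
  have hze : Commute z e :=
    commute_cross (Ne.symm hqp) hzZ.1 (pCoreIn_le_self M hzZ.1) he (pCoreIn_le_self M he)
  have hecop : (Nat.card (zpowers e)).Coprime p := by
    obtain ⟨k, hk⟩ := IsPGroup.iff_card.mp
      ((isPGroup_pCoreIn (p := q) M).to_le (zpowers_le.2 he))
    rw [hk]
    exact ((Nat.coprime_primes hq Fact.out).mpr hqp).pow_left k
  have heA : zpowers e ≤ centralizer (pCoreIn p N : Set G) := by
    refine Coprime.thompson_AxB ((isPGroup_pCoreIn (p := p) M).to_le (zpowers_le.2 hzZ.1)) hecop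
      ?_ _ (isPGroup_pCoreIn (p := p) N) (zpowers_le.2 (le_normalizer_pCoreIn N hzN))
      (zpowers_le.2 (le_normalizer_pCoreIn N heN)) ?_
    · rw [zpowers_le]
      intro y hy
      obtain ⟨k, rfl⟩ := mem_zpowers_iff.1 hy
      exact (hze.zpow_right k).eq.symm
    · rintro v ⟨hv, hvz⟩ y hy
      obtain ⟨k, rfl⟩ := mem_zpowers_iff.1 hy
      have hvM : v ∈ M := hCz
        (mem_centralizer_singleton_iff.2 (mem_centralizer_iff.1 hvz z (mem_zpowers z)).symm)
      exact ((commute_cross hqp he heN hv hvM).zpow_left k).eq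
  have hNM : ∀ l : ℕ, l.Prime → pCoreIn l N ≤ M := by
    intro l hl v hv
    by_cases hlp : l = p
    · subst hlp
      exact hCe (mem_centralizer_singleton_iff.2
        (mem_centralizer_iff.1 (heA (mem_zpowers e)) v hv))
    · exact hCt (mem_centralizer_singleton_iff.2 (htl l hl hlp v hv).eq.symm)
  have hqN : pCoreIn q N ≠ ⊥ := fun h => hqne ((hconj' q).1 h)
  have hCf : ∀ l : ℕ, pCoreIn l N ≠ ⊥ → centralizer (pCoreIn l N : Set G) ≤ N := fun l hl =>
    (centralizer_le_normalizer _).trans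
      (normalizer_eq_of_coatom hN hl (pCoreIn_le_self N) (le_normalizer_pCoreIn N)).le
  refine hne (eq_of_fit_le hM hN hEM hEN (fun l hl => ?_) hNM hqp hqN hpN)
  haveI := Fact.mk hl
  by_cases hb : pCoreIn l N = ⊥
  · rw [(hconj' l).1 hb]; exact bot_le
  by_cases hlp : l = p
  · subst hlp
    exact mutual_le hqp (hNM l hl) (hNM q hq) (hCf l hb) (hCf q hqN)
  · exact mutual_le (Ne.symm hlp) (hNM l hl) (hNM p Fact.out) (hCf l hb) (hCf p hpN)

end Cfsg.Agent.H77.GW
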