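import Cfsg.Agent.Coprime.Centralize
import Cfsg.Agent.Components.GWTheta
import Cfsg.Agent.Components.BenderUnique
import Mathlib

/-!
# An inverted element fixing the fixed points of an involution

GW programme, `|pi(F)| >= 2`: if `a` inverts `x` and both normalize `V` (solvable, of odd order
prime to the odd order of `x`), and `x` centralizes `C_V(a)`, then `x` centralizes `V`.
-/

set_option autoImplicit false
set_option linter.style.haveILetI false
set_option linter.unusedSectionVars false

namespace Cfsg.Agent.H77.GW

open Subgroup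

section Abelian

variable {Q : Type*} [CommGroup Q] [Finite Q]

theorem auto_eq_one_of_fix (α β : MulAut Q) (hαα : α * α = 1) (hαβ : α * β * α⁻¹ = β⁻¹)
    (hQ : Odd (Nat.card Q)) (hfix : ∀ q, α q = q → β q = q) {n : ℕ} (hn : Odd n) (hβ : β ^ n = 1)
    (hcop : n.Coprime (Nat.card Q)) : β = 1 := by
  have hα2 : ∀ q, α (α q) = q := fun q => by
    rw [← MulAut.mul_apply, hαα, MulAut.one_apply]
  have hswap : ∀ q, α (β q) = β⁻¹ (α q) := fun q => by
    have := DFunLike.congr_fun hαβ (α q)
    simpa [MulAut.mul_apply] using this
  have hswap' : ∀ q, α (β⁻¹ q) = β (α q) := fun q => by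
    apply β⁻¹.injective
    rw [← hswap]
    simp
  have hkey : ∀ d, α d = d⁻¹ → β d = d := by
    intro d hd
    set c := β d / β⁻¹ d with hc
    have hac : α c = c := by
      rw [hc, map_div, hswap, hswap', hd, map_inv, map_inv, inv_div_inv]
    have hbc : β c = c := hfix c hac
    have h2 : β (β d) = c * d := by
      have : β c = β (β d) / d := by simp [hc, map_div]
      rw [hbc] at this
      rw [this, div_mul_cancel]
    have hpow : ∀ k : ℕ, (β ^ (2 * k)) d = c ^ k * d := by
      intro k
      induction k with
      | zero => simp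
      | succ k ih =>
        rw [show 2 * (k + 1) = 2 + 2 * k by ring, pow_add, MulAut.mul_apply, ih, sq,
          MulAut.mul_apply, map_mul, map_mul, map_pow, map_pow, hbc, hbc, h2, pow_succ, mul_assoc]
    have hcn : c ^ n = 1 := by
      have := hpow n
      rw [mul_comm 2 n, pow_mul, hβ, one_pow, MulAut.one_apply] at this
      simpa using this.symm
    have hc1 : c = 1 := by
      have h := Nat.dvd_gcd (orderOf_dvd_of_pow_eq_one hcn) (orderOf_dvd_natCard c)
      rw [hcop] at h
      exact orderOf_eq_one_iff.1 (Nat.dvd_one.1 h)
    obtain ⟨m, hm⟩ := hn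
    have := hpow (m + 1)
    rw [show 2 * (m + 1) = n + 1 by omega, pow_succ, hβ, one_mul, hc1, one_pow, one_mul] at this
    exact this
  refine MulEquiv.ext fun q => ?_
  have h1 : β (q * α q) = q * α q := hfix _ (by rw [map_mul, hα2, mul_comm])
  have h2 : β (q / α q) = q / α q := hkey _ (by rw [map_div, hα2, inv_div])
  have hsq : (β q) ^ 2 = q ^ 2 := by
    rw [← map_pow]
    calc β (q ^ 2) = β ((q * α q) * (q / α q)) := by rw [mul_mul_div_cancel, sq]
      _ = _ := by rw [map_mul, h1, h2, mul_mul_div_cancel, sq]
  exact (powCoprime (G := Q) (n := 2) (Nat.coprime_two_right.2 hQ)).injective hsq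

end Abelian

variable {G : Type*} [Group G] [Finite G]

/-- The automorphism of `V / V'` induced by an element normalizing `V`. -/
def abelAut (V : Subgroup G) : normalizer (V : Set G) →* MulAut (Abelianization V) where
  toFun g := (normalizerMonoidHom (H := V) g).abelianizationCongr
  map_one' := by
    refine MulEquiv.ext fun q => ?_
    obtain ⟨v, rfl⟩ := QuotientGroup.mk_surjective q
    show Abelianization.of _ = _
    rw [map_one]
    rfl
  map_mul' g h := by
    refine MulEquiv.ext fun q => ?_
    obtain ⟨v, rfl⟩ := QuotientGroup.mk_surjective q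
    show Abelianization.of _ = _
    rw [map_mul]
    rfl

theorem abelAut_of {V : Subgroup G} {g : G} (hg : g ∈ normalizer (V : Set G)) (v : V) :
    abelAut V ⟨g, hg⟩ (Abelianization.of v)
      = Abelianization.of (⟨g * v * g⁻¹, Coprime.conj_mem hg v.2⟩ : V) := rfl

/-- `x` inverted by the involution `a` and centralizing `C_V(a)` centralizes `V`. -/
theorem commute_of_inverted {a x : G} (haa : a * a = 1) (hax : a * x * a⁻¹ = x⁻¹)
    (hx : Odd (orderOf x)) : ∀ V : Subgroup G, Group.IsSolvable V → Odd (Nat.card V) →
      (orderOf x).Coprime (Nat.card V) → a ∈ normalizer (V : Set G) → x ∈ normalizer (V : Set G) →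
      (∀ v ∈ V, Commute a v → Commute x v) → x ∈ centralizer (V : Set G) := by
  intro V
  induction V using WellFoundedLT.induction with
  | ind V ih =>
    intro hsol hodd hcop haV hxV hfix
    by_cases hne : V = ⊥
    · subst hne
      rw [mem_centralizer_iff]
      intro h hh
      rw [SetLike.mem_coe, Subgroup.mem_bot] at hh
      simp [hh]
    set W := (commutator V).map V.subtype with hW
    have hWV : W ≤ V := map_subtype_le _
    have hWlt : W < V := by
      haveI : Nontrivial V := (nontrivial_iff_ne_bot V).2 hne
      refine lt_of_le_of_ne hWV fun h => (Group.IsSolvable.commutator_lt_top_of_nontrivial (G := V)).ne ?_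
      apply map_injective V.subtype_injective
      rw [← hW, h, ← MonoidHom.range_eq_map, range_subtype]
    have hnW : normalizer (V : Set G) ≤ normalizer (W : Set G) := by
      rw [hW, map_subtype_commutator, le_normalizer_iff]
      intro g hg w hw
      have h := mem_map_of_mem (MulAut.conj g).toMonoidHom hw
      rwa [map_commutator, Coprime.map_conj_eq hg] at h
    have hxW := ih W hWlt (Coprime.isSolvable_of_le hWV hsol)
      (hodd.of_dvd_nat (card_dvd_of_le hWV)) (hcop.coprime_dvd_right (card_dvd_of_le hWV))
      (hnW haV) (hnW hxV) fun v hv => hfix v (hWV hv)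
    have hact : abelAut V ⟨x, hxV⟩ = 1 := by
      have hcV : Nat.card (Abelianization V) ∣ Nat.card V :=
        card_dvd_of_surjective (Abelianization.of) QuotientGroup.mk_surjective
      refine auto_eq_one_of_fix (abelAut V ⟨a, haV⟩) _ ?_ ?_ (hodd.of_dvd_nat hcV) ?_ hx ?_
        (hcop.coprime_dvd_right hcV)
      · rw [← map_mul, show (⟨a, haV⟩ : normalizer (V : Set G)) * ⟨a, haV⟩ = 1 from
          Subtype.ext haa, map_one]
      · rw [← map_inv, ← map_inv, ← map_mul, ← map_mul]
        exact congrArg _ (Subtype.ext hax)
      · intro q hq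
        obtain ⟨v, rfl⟩ : ∃ v, Abelianization.of v = q := QuotientGroup.mk_surjective q
        have hva : (a * v * a⁻¹ * (v : G)⁻¹) ∈ W := by
          rw [abelAut_of] at hq
          have h1 := QuotientGroup.eq.1 hq.symm
          refine ⟨(⟨a * v * a⁻¹, Coprime.conj_mem haV v.2⟩ : V) * v⁻¹, ?_, by simp⟩
          have h2 := Subgroup.Normal.conj_mem inferInstance _ h1 v
          simpa [mul_assoc] using h2
        have hazW : zpowers a ≤ normalizer (W : Set G) := zpowers_le.2 (hnW haV)
        obtain ⟨c, ⟨hcV', hcc⟩, hcW⟩ := Coprime.exists_centralizer_mem_of_comm_mem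
          (A := zpowers a) (K := V) (zpowers_le.2 haV) (by
            rw [Nat.card_zpowers]
            refine Nat.Coprime.coprime_dvd_left
              (orderOf_dvd_of_pow_eq_one (n := 2) (by rw [sq, haa])) ?_
            rwa [Nat.coprime_two_left]) (Or.inr hsol) hWV
          (Components.le_normalizer_map_subtype (commutator V)) hazW v.2 (by
            intro b hb
            obtain ⟨k, rfl⟩ := mem_zpowers_iff.1 hb
            have hred : ∃ e, (e = 1 ∨ e = a) ∧ a ^ k = e := by
              have h2 : a ^ (2 : ℤ) = 1 := by rw [zpow_two, haa]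
              rcases Int.emod_two_eq k with h | h
              · exact ⟨1, Or.inl rfl, by
                  rw [← Int.mul_ediv_add_emod k 2, zpow_add, zpow_mul, h2, h]; simp⟩
              · exact ⟨a, Or.inr rfl, by
                  rw [← Int.mul_ediv_add_emod k 2, zpow_add, zpow_mul, h2, h]; simp⟩
            obtain ⟨e, he, hke⟩ := hred
            rw [hke]
            rcases he with rfl | rfl
            · simp [one_mem]
            · exact hva)
        have hxc := hfix c hcV' (Subgroup.mem_centralizer_iff.1 hcc a (mem_zpowers a))
        have hof : Abelianization.of v = Abelianization.of (⟨c, hcV'⟩ : V) := by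
          refine QuotientGroup.eq.2 ?_
          obtain ⟨w, hw, he⟩ := hcW
          rwa [show v⁻¹ * (⟨c, hcV'⟩ : V) = w from Subtype.ext he.symm]
        rw [hof, abelAut_of]
        congr 1
        exact Subtype.ext (show x * c * x⁻¹ = c by rw [hxc.eq, mul_inv_cancel_right])
      · rw [← map_pow, show (⟨x, hxV⟩ : normalizer (V : Set G)) ^ orderOf x = 1 from
          Subtype.ext (pow_orderOf_eq_one x), map_one]
    have hcomm : ⁅V, zpowers x⁆ ≤ W := by
      have hxgen : ∀ v ∈ V, x * v * x⁻¹ * v⁻¹ ∈ W := by
        intro v hv
        have := DFunLike.congr_fun hact (Abelianization.of (⟨v, hv⟩ : V))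
        rw [abelAut_of, MulAut.one_apply] at this
        have h1 := QuotientGroup.eq.1 this.symm
        refine ⟨(⟨x * v * x⁻¹, Coprime.conj_mem hxV hv⟩ : V) * (⟨v, hv⟩ : V)⁻¹, ?_, by simp⟩
        have h2 := Subgroup.Normal.conj_mem inferInstance _ h1 (⟨v, hv⟩ : V)
        simpa [mul_assoc] using h2
      rw [zpowers_eq_closure, commutator_comm]
      conv_lhs => rw [← closure_eq V]
      refine Components.commutator_closure_le (fun s hs => ?_) (fun v hv => ?_) ?_
      · rw [Set.mem_singleton_iff] at hs
        exact hs ▸ hnW hxV
      · exact (Components.le_normalizer_map_subtype (commutator V)) hv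
      · intro s hs v hv
        rw [Set.mem_singleton_iff] at hs
        subst hs
        simpa [commutatorElement_def] using hxgen v hv
    have := Coprime.le_centralizer_of_commutator_le (A := zpowers x) (K := V) (N := W)
      (zpowers_le.2 hxV) (by rwa [Nat.card_zpowers]) hcomm (zpowers_le.2 hxW)
    exact this (mem_zpowers x)

end Cfsg.Agent.H77.GW
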