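import Cfsg.Agent.H77.GW.MemberBase

/-!
# GW programme, case (N) with two primes: the join

A maximal `M` over `C(t)` not containing the element `g` fusing `{t, s, ts}`, with `F(M)` of odd
order, two primes, moved by `t`, and without components, does not exist, given the uniqueness
facts `hU` (lemma U) and `hLayer`.
-/

set_option autoImplicit false
set_option linter.style.haveILetI false
set_option linter.unusedSectionVars false

namespace Cfsg.Agent.H77.GW

open Subgroup
open Cfsg.Agent.Components (pCoreIn isPGroup_pCoreIn gFitIn fitIn)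

variable {G : Type*} [Group G] [Finite G]

/-- The case of an exchangeable element fixed by `s`. -/
theorem false_of_exchange_element [IsSimpleGroup G] (hnab : ¬ IsMulCommutative G) {p : ℕ}
    [Fact p.Prime] {M : Subgroup G} (hM : IsCoatom M) (hEM : Cfsg.layer M = ⊥) {t s g x : G}
    (htt : t * t = 1) (hss : s * s = 1) (hts : Commute t s) (ht1 : t ≠ 1)
    (hgt : g * t * g⁻¹ = s) (hgs : g * s * g⁻¹ = t * s) (hg : g ∉ M) (htM : t ∈ M) (hsM : s ∈ M)
    (hCt : centralizer ({t} : Set G) ≤ M)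
    (hodd : ∀ r : ℕ, r.Prime → pCoreIn r M ≠ ⊥ → r ≠ 2)
    (hxF : x ∈ pCoreIn p M) (hx1 : x ≠ 1) (htx : t * x * t⁻¹ = x⁻¹) (hsx : Commute s x)
    (htwo : ∃ q : ℕ, q.Prime ∧ q ≠ p ∧ pCoreIn q M ≠ ⊥)
    (hU : ∀ r : ℕ, r.Prime → ∀ c ∈ pCoreIn r M, c ≠ 1 → Eigen t s c →
      ((∃ r' : ℕ, r'.Prime ∧ r' ≠ r ∧ ¬ pCoreIn r' M ≤ centralizer ({t} : Set G)) ∨
        c ∈ centralizer (pCoreIn r M : Set G)) → centralizer ({c} : Set G) ≤ M)
    (hLayer : ∀ X : Subgroup G, IsCoatom X →
      normalizer ((zpowers x : Subgroup G) : Set G) ≤ X → Cfsg.layer X = ⊥) : False := by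
  have hpM : pCoreIn p M ≠ ⊥ := fun h => hx1 ((mem_bot (G := G)).1 (h ▸ hxF))
  have hp : p ≠ 2 := hodd p Fact.out hpM
  set φ : MulAut G := MulAut.conj g with hφ
  set N := M.map φ.toMonoidHom with hNdef
  have hN : IsCoatom N := φ.mapSubgroup.isCoatom_iff M |>.2 hM
  have hmemN : ∀ v : G, g⁻¹ * v * g ∈ M → v ∈ N := fun v hv =>
    ⟨g⁻¹ * v * g, hv, by simp [hφ, mul_assoc]⟩
  have hgts : g⁻¹ * t * g = t * s := by
    have h1 : g * (t * s) * g⁻¹ = t := by
      calc g * (t * s) * g⁻¹ = (g * t * g⁻¹) * (g * s * g⁻¹) := by group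
        _ = s * (t * s) := by rw [hgt, hgs]
        _ = s * (s * t) := by rw [hts.eq]
        _ = t := by rw [← mul_assoc, hss, one_mul]
    calc g⁻¹ * t * g = g⁻¹ * (g * (t * s) * g⁻¹) * g := by rw [h1]
      _ = t * s := by group
  have hgss : g⁻¹ * s * g = t := by rw [← hgt]; group
  have htN : t ∈ N := hmemN t (hgts ▸ mul_mem htM hsM)
  have hsN : s ∈ N := hmemN s (hgss ▸ htM)
  have hCs : centralizer ({s} : Set G) ≤ N := by
    intro v hv
    refine hmemN v (hCt (mem_centralizer_singleton_iff.2 ?_))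
    have h1 := mem_centralizer_singleton_iff.1 hv
    rw [← hgss]
    calc g⁻¹ * v * g * (g⁻¹ * s * g) = g⁻¹ * (v * s) * g := by group
      _ = g⁻¹ * (s * v) * g := by rw [h1]
      _ = g⁻¹ * s * g * (g⁻¹ * v * g) := by group
  have hne : M ≠ N := by
    intro h
    refine hg ?_
    rw [← normalizer_eq_of_coatom hM (fun hb => ht1 ((mem_bot (G := G)).1 (hb ▸ htM))) le_rfl
      le_normalizer]
    exact Coprime.mem_normalizer_of_map_conj h.symm
  have hconj : ∀ r : ℕ, (pCoreIn r M).map φ.toMonoidHom = pCoreIn r N := fun r =>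
    pCoreIn_map_equiv φ r M
  have hEN : Cfsg.layer N = ⊥ := layer_map_eq_bot φ hEM
  have hsame : ∀ r : ℕ, pCoreIn r N = ⊥ ↔ pCoreIn r M = ⊥ := fun r => by
    rw [← hconj r, map_eq_bot_iff_of_injective _ φ.injective]
  have hxN : x ∈ N := hCs (mem_centralizer_singleton_iff.2 hsx.eq.symm)
  have hmoved : ¬ pCoreIn p M ≤ centralizer ({t} : Set G) := by
    intro h
    have h1 : t * x * t⁻¹ = x := by
      rw [← mem_centralizer_singleton_iff.1 (h hxF), mul_inv_cancel_right]
    have h2 : x * x = 1 := by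
      calc x * x = x * (t * x * t⁻¹) := by rw [h1]
        _ = 1 := by rw [htx, mul_inv_cancel]
    obtain ⟨a, ha⟩ := (isPGroup_pCoreIn (p := p) M) ⟨x, hxF⟩
    have ho1 : orderOf x ∣ p ^ a := orderOf_dvd_of_pow_eq_one (by simpa using congrArg Subtype.val ha)
    have ho2 : orderOf x ∣ 2 := orderOf_dvd_of_pow_eq_one (by rw [sq, h2])
    have ho := Nat.dvd_gcd ho1 ho2
    rw [((Nat.coprime_primes Fact.out Nat.prime_two).mpr hp).pow_left a] at ho
    exact hx1 (orderOf_eq_one_iff.1 (Nat.dvd_one.1 ho))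
  have hxeig : Eigen t s x := ⟨Or.inr htx, Or.inl (by rw [hsx.eq, mul_inv_cancel_right])⟩
  -- `C(x) ≤ M`
  have hCx : centralizer ({x} : Set G) ≤ M := by
    by_cases h2 : ∃ r' : ℕ, r'.Prime ∧ r' ≠ p ∧ ¬ pCoreIn r' M ≤ centralizer ({t} : Set G)
    · exact hU p Fact.out x hxF hx1 hxeig (Or.inl h2)
    push Not at h2
    have hfull : normalizer ((zpowers x : Subgroup G) : Set G) ≠ ⊤ := by
      intro h
      haveI : (zpowers x).Normal := normalizer_eq_top_iff.mp h
      rcases IsSimpleGroup.eq_bot_or_eq_top_of_normal (zpowers x) inferInstance with h' | h'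
      · exact hx1 (by simpa using h'.le (mem_zpowers x))
      · refine hnab ⟨⟨fun a b => ?_⟩⟩
        obtain ⟨i, rfl⟩ := mem_zpowers_iff.1 (h'.symm.le (mem_top a))
        obtain ⟨j, rfl⟩ := mem_zpowers_iff.1 (h'.symm.le (mem_top b))
        exact zpow_mul_comm x i j
    obtain ⟨X, hX, hXle⟩ := (eq_top_or_exists_le_coatom _).resolve_left hfull
    have hCX : centralizer ({x} : Set G) ≤ X := by
      refine le_trans ?_ hXle
      refine le_trans ?_ (centralizer_le_normalizer _)
      intro v hv y hy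
      obtain ⟨k, rfl⟩ := mem_zpowers_iff.1 hy
      exact ((show Commute x v from (mem_centralizer_singleton_iff.1 hv).symm).zpow_left k).eq
    have htX : t ∈ X := by
      refine hXle (Coprime.mem_normalizer_of_map_conj ?_)
      rw [MonoidHom.map_zpowers]
      show zpowers (t * x * t⁻¹) = _
      rw [htx, zpowers_inv]
    have hU' : ∀ r : ℕ, r.Prime → ∀ c ∈ pCoreIn r M, c ≠ 1 → Eigen t s c →
        (r ≠ p ∨ c ∈ centralizer (pCoreIn r M : Set G)) → centralizer ({c} : Set G) ≤ M :=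
      fun r hr c hc hc1 he hrc => hU r hr c hc hc1 he (hrc.imp_left fun hrp =>
        ⟨p, Fact.out, Ne.symm hrp, hmoved⟩)
    have hUN : ∀ r : ℕ, r.Prime → ∀ c ∈ pCoreIn r N, c ≠ 1 → Eigen t s c →
        (r ≠ p ∨ c ∈ centralizer (pCoreIn r N : Set G)) → centralizer ({c} : Set G) ≤ N := by
      intro r hr c hc hc1 he hrc v hv
      rw [← hconj r] at hc
      obtain ⟨d, hd, rfl⟩ := hc
      have hd1 : d ≠ 1 := fun h => hc1 (by simp [h])
      have hde : Eigen t s d := by
        have hconjd : ∀ a : G, a * (g * d * g⁻¹) * a⁻¹ =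
            g * ((g⁻¹ * a * g) * d * (g⁻¹ * a * g)⁻¹) * g⁻¹ := fun a => by group
        have he' : Eigen (t * s) t d := by
          obtain ⟨h1, h2⟩ := he
          simp only [hφ, MulEquiv.coe_toMonoidHom, MulAut.conj_apply] at h1 h2
          rw [hconjd, hgts] at h1
          rw [hconjd, hgss] at h2
          constructor
          · refine h1.imp (fun h => ?_) (fun h => ?_)
            · simpa using h
            · rw [show (g * d * g⁻¹)⁻¹ = g * d⁻¹ * g⁻¹ by group] at h
              simpa using h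
          · refine h2.imp (fun h => ?_) (fun h => ?_)
            · simpa using h
            · rw [show (g * d * g⁻¹)⁻¹ = g * d⁻¹ * g⁻¹ by group] at h
              simpa using h
        refine ⟨he'.2, ?_⟩
        have h4 := (eigen_mul (t := t) (s := t * s) ⟨he'.2, he'.1⟩).2
        rwa [← mul_assoc, htt, one_mul] at h4
      refine hmemN v (hU' r hr d hd hd1 hde (hrc.imp_right fun h w hw => ?_)
        (mem_centralizer_singleton_iff.2 ?_))
      · have := h (φ w) (by rw [← hconj r]; exact ⟨w, hw, rfl⟩)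
        exact φ.injective (by simpa using this)
      · have h1 := mem_centralizer_singleton_iff.1 hv
        simp only [hφ, MulEquiv.coe_toMonoidHom, MulAut.conj_apply] at h1
        calc g⁻¹ * v * g * d = g⁻¹ * (v * (g * d * g⁻¹)) * g := by group
          _ = g⁻¹ * ((g * d * g⁻¹) * v) * g := by rw [h1]
          _ = d * (g⁻¹ * v * g) := by group
    have hP := pCoreIn_eq_bot_single hp hM hN hne hEM hEN htt hss hts hgt hgs hconj htM hsM htN hsN
      hCt hCs hxF htx hsx hCX htX (inf_le_right.trans hXle) hodd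
      (fun r hr hrp => h2 r hr hrp) hU' hUN htwo hpM
    have hXM := eq_of_leadsTo hM hX hEM (hLayer X hX hXle) hxF
      (hCX (mem_centralizer_singleton_iff.2 rfl)) (inf_le_right.trans hXle) hP htwo hpM
    exact hXM ▸ hCX
  obtain ⟨q, hq, hqp, hqne⟩ := htwo
  refine hne (eq_of_exchange hp hM hN hEM hEN htt hss hts hsM hsN htx hxF hxN htM htN hCt hCx
    (fun r hr hrp c hc hc1 he => hU r hr c hc hc1 he (Or.inl ⟨p, Fact.out, Ne.symm hrp, hmoved⟩))
    (fun r hr h => hodd r hr fun h' => h ((hsame r).2 h')) (fun r _ => hsame r)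
    ⟨q, hq, hqp, fun h => hqne ((hsame q).1 h)⟩ fun h => hpM ((hsame p).1 h))

/-- **Case (N), two primes.** -/
theorem false_of_two_primes [IsSimpleGroup G] (hnab : ¬ IsMulCommutative G) {M : Subgroup G}
    (hM : IsCoatom M) (hEM : Cfsg.layer M = ⊥) {t s g : G}
    (htt : t * t = 1) (hss : s * s = 1) (hts : Commute t s) (ht1 : t ≠ 1) (hs1 : s ≠ 1)
    (hne : t ≠ s) (hgt : g * t * g⁻¹ = s) (hgs : g * s * g⁻¹ = t * s) (hg : g ∉ M)
    (htM : t ∈ M) (hsM : s ∈ M) (hCt : centralizer ({t} : Set G) ≤ M)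
    (hodd : ∀ r : ℕ, r.Prime → pCoreIn r M ≠ ⊥ → r ≠ 2)
    (hmove : ∃ p : ℕ, p.Prime ∧ ¬ pCoreIn p M ≤ centralizer ({t} : Set G))
    (htwo : ∀ p : ℕ, ∃ q : ℕ, q.Prime ∧ q ≠ p ∧ pCoreIn q M ≠ ⊥)
    (hU : ∀ r : ℕ, r.Prime → ∀ c ∈ pCoreIn r M, c ≠ 1 → Eigen t s c →
      ((∃ r' : ℕ, r'.Prime ∧ r' ≠ r ∧ ¬ pCoreIn r' M ≤ centralizer ({t} : Set G)) ∨
        c ∈ centralizer (pCoreIn r M : Set G)) → centralizer ({c} : Set G) ≤ M)
    (hLayer : ∀ (r : ℕ) (x : G), r.Prime → x ∈ pCoreIn r M → x ≠ 1 → t * x * t⁻¹ = x⁻¹ →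
      Eigen t s x → ∀ X : Subgroup G, IsCoatom X →
        normalizer ((zpowers x : Subgroup G) : Set G) ≤ X → Cfsg.layer X = ⊥) : False := by
  obtain ⟨p, hp, hpm⟩ := hmove
  haveI := Fact.mk hp
  have hpM : pCoreIn p M ≠ ⊥ := fun h => hpm (h ▸ bot_le)
  obtain ⟨x, hx, hx1, htx, h | h⟩ :=
    exists_exchange (hodd p hp hpM) htt hss hts ht1 hs1 hne htM hsM hpm
  · exact false_of_exchange_element hnab hM hEM htt hss hts ht1 hgt hgs hg htM hsM hCt hodd hx hx1
      htx h (htwo p) hU (hLayer p x hp hx hx1 htx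
        ⟨Or.inr htx, Or.inl (by rw [h.eq, mul_inv_cancel_right])⟩)
  · have hts' : Commute t (t * s) := (Commute.refl t).mul_right hts
    have hss' : t * s * (t * s) = 1 := by rw [hts.symm.mul_mul_mul_comm, htt, hss, one_mul]
    have hconv : ∀ c, Eigen t (t * s) c → Eigen t s c := fun c hc => by
      have h1 := eigen_mul hc
      rwa [← mul_assoc, htt, one_mul] at h1
    refine false_of_exchange_element (s := t * s) (g := g⁻¹) hnab hM hEM htt hss' hts' ht1 ?_ ?_
      (fun hmem => hg (by simpa using inv_mem hmem)) htM (mul_mem htM hsM) hCt hodd hx hx1 htx h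
      (htwo p) (fun r hr c hc hc1 he => hU r hr c hc hc1 (hconv c he))
      (hLayer p x hp hx hx1 htx
        (hconv x ⟨Or.inr htx, Or.inl (by rw [h.eq, mul_inv_cancel_right])⟩))
    · rw [inv_inv]
      have h1 : g * (t * s) * g⁻¹ = t := by
        calc g * (t * s) * g⁻¹ = (g * t * g⁻¹) * (g * s * g⁻¹) := by group
          _ = s * (t * s) := by rw [hgt, hgs]
          _ = s * (s * t) := by rw [hts.eq]
          _ = t := by rw [← mul_assoc, hss, one_mul]
      calc g⁻¹ * t * g = g⁻¹ * (g * (t * s) * g⁻¹) * g := by rw [h1]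
        _ = t * s := by group
    · rw [inv_inv, show t * (t * s) = s by rw [← mul_assoc, htt, one_mul]]
      calc g⁻¹ * (t * s) * g = g⁻¹ * (g * s * g⁻¹) * g := by rw [hgs]
        _ = s := by group

end Cfsg.Agent.H77.GW
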