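import Cfsg.Agent.H77.GW.Exchange

/-!
# Uniqueness of the maximal subgroup over `N(<w>)`, `w` in `F(M)` (GW programme, case (N))

Lemma U of `notes/helper77_gw_s4.md`: `M` is a maximal subgroup over `C(t)` with two primes.
-/

set_option autoImplicit false
set_option linter.style.haveILetI false
set_option linter.unusedSectionVars false

namespace Cfsg.Agent.H77.GW

open Subgroup
open Cfsg.Agent.Components (pCoreIn isPGroup_pCoreIn le_normalizer_map_subtype gFitIn fitIn)
open scoped commutatorElement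

variable {G : Type*} [Group G] [Finite G]

/-- Commutators with an element acting as `-1` act trivially. -/
theorem commutator_le_centralizer_of_inverts {t : G} (htt : t * t = 1) {P K : Subgroup G}
    (hinv : ∀ v ∈ P, t * v * t⁻¹ = v⁻¹) (hK : K ≤ normalizer (P : Set G)) :
    ⁅K, zpowers t⁆ ≤ centralizer (P : Set G) := by
  rw [commutator_le]
  intro f hf g hg
  obtain ⟨k, rfl⟩ := mem_zpowers_iff.1 hg
  have htk : t ^ k = 1 ∨ t ^ k = t := by
    have h2 : t ^ (2 : ℤ) = 1 := by rw [zpow_two, htt]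
    rcases Int.emod_two_eq k with h | h
    · exact Or.inl (by rw [← Int.mul_ediv_add_emod k 2, zpow_add, zpow_mul, h2, h]; simp)
    · exact Or.inr (by rw [← Int.mul_ediv_add_emod k 2, zpow_add, zpow_mul, h2, h]; simp)
  rcases htk with h | h <;> rw [h]
  · rw [commutatorElement_one_right]
    exact one_mem _
  intro v hv
  have ht : t⁻¹ = t := inv_eq_of_mul_eq_one_right htt
  have hv' : f⁻¹ * v * f ∈ P := Coprime.conj_mem' (hK hf) hv
  have h1 : t * v * t = v⁻¹ := by simpa [ht] using hinv v hv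
  have h2 : t * (f⁻¹ * v * f)⁻¹ * t = f⁻¹ * v * f := by
    simpa [ht] using hinv _ (inv_mem hv')
  have key : ⁅f, t⁆ * v * ⁅f, t⁆⁻¹ = v := by
    calc ⁅f, t⁆ * v * ⁅f, t⁆⁻¹ = f * (t * (f⁻¹ * (t * v * t) * f) * t) * f⁻¹ := by
          simp [commutatorElement_def, mul_assoc, ht]
      _ = f * (t * (f⁻¹ * v * f)⁻¹ * t) * f⁻¹ := by rw [h1]; simp [mul_assoc]
      _ = v := by rw [h2]; simp [mul_assoc]
  exact (mul_inv_eq_iff_eq_mul.mp key).symm

/-- `O_q(X) = 1` for `q` prime to `|F(M)|` when `M ⇝ X` and `X` meets an `[F_s(M), t]` with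
centralizer in `M`. -/
theorem pCoreIn_eq_bot_of_leadsTo {q s : ℕ} [Fact q.Prime] {M X Q : Subgroup G} {t : G}
    (htt : t * t = 1) (htX : t ∈ X) (hCt : centralizer ({t} : Set G) ≤ M)
    (hQF : Q ≤ fitIn M) (hQN : gFitIn M ⊓ normalizer (Q : Set G) ≤ X)
    (hq : pCoreIn q M = ⊥)
    (hs : centralizer ((⁅pCoreIn s M ⊓ X, zpowers t⁆ : Subgroup G) : Set G) ≤ M) :
    pCoreIn q X = ⊥ := by
  have hq' : ¬ q ∣ Nat.card (Cfsg.fittingSubgroup M) := fun h =>
    Components.pCore_ne_bot_iff.mpr h ((map_eq_bot_iff_of_injective _ M.subtype_injective).mp hq)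
  have hbot := Components.pCoreIn_inf_eq_bot hQF hQN hq'
  have hfix : ∀ v ∈ pCoreIn q X, Commute t v → v = 1 := fun v hv hc =>
    (mem_bot (G := G)).1 (hbot.le ⟨hv, hCt (mem_centralizer_singleton_iff.2 hc.eq.symm)⟩)
  have hinv := inverts_of_fpf htt (le_normalizer_pCoreIn X htX) hfix
  have hc := commutator_le_centralizer_of_inverts htt hinv
    (inf_le_right.trans (le_normalizer_pCoreIn X) : pCoreIn s M ⊓ X ≤ _)
  exact le_bot_iff.1 ((le_inf le_rfl ((le_centralizer_iff.mp hc).trans hs)).trans hbot.le)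

/-- **Lemma U.** A component-free maximal `X` over `N(<w>)`, `w ∈ O_p(M)`, equals `M`. -/
theorem eq_of_leadsTo [IsSimpleGroup G] {p : ℕ} [Fact p.Prime] {M X : Subgroup G}
    (hM : IsCoatom M) (hX : IsCoatom X) (hEM : Cfsg.layer M = ⊥) (hEX : Cfsg.layer X = ⊥)
    {w : G} (hw : w ∈ pCoreIn p M) (hwX : w ∈ X)
    (hwN : gFitIn M ⊓ normalizer ((zpowers w : Subgroup G) : Set G) ≤ X)
    (hP : ∀ r : ℕ, r.Prime → pCoreIn r M = ⊥ → pCoreIn r X = ⊥)
    (htwo : ∃ q : ℕ, q.Prime ∧ q ≠ p ∧ pCoreIn q M ≠ ⊥) (hpM : pCoreIn p M ≠ ⊥) : X = M := by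
  have hQF : zpowers w ≤ fitIn M :=
    zpowers_le.2 (map_mono (Components.pCore_le_fitting p) hw)
  have hfix : ∀ v : G, Commute w v → v ∈ normalizer ((zpowers w : Subgroup G) : Set G) := by
    intro v hv
    refine centralizer_le_normalizer _ ?_
    intro g hg
    obtain ⟨k, rfl⟩ := mem_zpowers_iff.1 hg
    exact (hv.zpow_left k).eq
  -- `O_r(X) ≤ M`
  have hXM : ∀ r : ℕ, r.Prime → pCoreIn r X ≤ M := by
    intro r hr
    haveI := Fact.mk hr
    by_cases hb : pCoreIn r M = ⊥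
    · rw [hP r hr hb]
      exact bot_le
    obtain ⟨q, hq, hqp, hqne⟩ := htwo
    obtain ⟨l, hl, hlr, hlne⟩ : ∃ l : ℕ, l.Prime ∧ l ≠ r ∧ pCoreIn l M ≠ ⊥ := by
      by_cases hrp : r = p
      · exact ⟨q, hq, hrp ▸ hqp, hqne⟩
      · exact ⟨p, Fact.out, Ne.symm hrp, hpM⟩
    haveI := Fact.mk hl
    exact Components.pCoreIn_le_of_two_primes
      (fun A a b c => normalizer_eq_of_coatom hM a b c) hQF hwN
      (fun h => hb (by rw [pCoreIn, h, Subgroup.map_bot])) hlr
      (fun h => hlne (by rw [pCoreIn, h, Subgroup.map_bot]))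
  -- `O_r(M) ≤ X` for `r ≠ p`
  have hMX : ∀ r : ℕ, r.Prime → r ≠ p → pCoreIn r M ≤ X := by
    intro r hr hrp v hv
    haveI := Fact.mk hr
    exact hwN ⟨Components.pCoreIn_le M hv,
      hfix v (commute_cross (Ne.symm hrp) hw (pCoreIn_le_self M hw) hv (pCoreIn_le_self M hv))⟩
  obtain ⟨q, hq, hqp, hqne⟩ := htwo
  haveI := Fact.mk hq
  by_cases hJ : ∃ l : ℕ, l.Prime ∧ l ≠ p ∧ pCoreIn l X ≠ ⊥
  · obtain ⟨l, hl, hlp, hlne⟩ := hJ
    haveI := Fact.mk hl
    have hA : pCoreIn l X ≤ centralizer (pCoreIn p M : Set G) := by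
      obtain ⟨k, hk⟩ := IsPGroup.iff_card.mp (isPGroup_pCoreIn (p := l) X)
      refine Coprime.thompson_AxB
        ((isPGroup_pCoreIn (p := p) M).to_le (zpowers_le.2 hw))
        (hk ▸ ((Nat.coprime_primes hl Fact.out).mpr hlp).pow_left k) ?_ _
        (isPGroup_pCoreIn (p := p) M) (zpowers_le.2 (le_normalizer_pCoreIn M (pCoreIn_le_self M hw)))
        ((hXM l hl).trans (le_normalizer_pCoreIn M)) ?_
      · rw [zpowers_le]
        intro a ha
        exact (commute_cross hlp ha (hXM l hl ha) hw hwX).eq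
      · rintro v ⟨hv, hvw⟩
        have hvX : v ∈ X :=
          hwN ⟨Components.pCoreIn_le M hv, hfix v (hvw w (mem_zpowers w))⟩
        intro a ha
        exact (commute_cross hlp ha (hXM l hl ha) hv hvX).eq
    have hpX : pCoreIn p M ≤ X := ((le_centralizer_iff.mp hA).trans
      (centralizer_le_normalizer _)).trans
      (normalizer_eq_of_coatom hX hlne (pCoreIn_le_self X) (le_normalizer_pCoreIn X)).le
    refine eq_of_fit_le hX hM hEX hEM hXM (fun r hr => ?_) hqp hqne hpM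
    by_cases hrp : r = p
    · exact hrp ▸ hpX
    · exact hMX r hr hrp
  · push Not at hJ
    refine absurd ?_ hqne
    have hgen : Cfsg.generalizedFittingSubgroup X ≤ Cfsg.pCore p X := by
      rw [Components.genFitting_eq_sup, hEX, bot_sup_eq, Components.fitting_eq_iSup_pCore]
      refine iSup_le fun r => ?_
      by_cases hrp : (r : ℕ) = p
      · rw [hrp]
      · have h := hJ r (Nat.prime_of_mem_primeFactors r.2) hrp
        rw [pCoreIn, map_eq_bot_iff_of_injective _ X.subtype_injective] at h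
        rw [h]
        exact bot_le
    have hqX : pCoreIn q M ≤ pCoreIn p X := by
      intro v hv
      refine ⟨⟨v, hMX q hq hqp hv⟩, hgen (Components.centralizer_genFitting_le ?_), rfl⟩
      intro j hj
      have hj' : (j : G) ∈ pCoreIn p X := ⟨j, hgen hj, rfl⟩
      exact Subtype.ext (commute_cross (Ne.symm hqp) hj' (hXM p Fact.out hj') hv
        (hMX q hq hqp hv)).eq
    rw [← inf_eq_left.2 hqX]
    exact Coprime.inf_eq_bot (coprime_pCoreIn hqp M X)

end Cfsg.Agent.H77.GW
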